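import Cfsg.Prelude.Def_LieRecognition
import Cfsg.Prelude.Def_Solvable
import Cfsg.Agent.Lib.Invol.Basic

/-! The rank-one set-up: regularity, canonical forms and the bijection between the involutions
fixing the base point and those interchanging the two base points. -/

namespace Cfsg.Agent.RankOne

variable {G Ω : Type*} [Group G] [MulAction G Ω] {a : Ω} {t : G} {Q : Subgroup G}

local notation "stA" => MulAction.stabilizer G a
local notation "twoP" => (MulAction.stabilizer G a ⊓ MulAction.stabilizer G (t • a))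

variable (hS : Cfsg.IsRankOneSetup G Ω a t Q)

include hS

theorem t_inv : t⁻¹ = t := Invol.inv_eq_self_of_mul_self hS.mul_self

theorem t_swap : t • (t • a) = a := by rw [smul_smul, hS.mul_self, one_smul]

theorem tb_ne : t • a ≠ a := fun h => hS.not_mem (MulAction.mem_stabilizer_iff.mpr h)

theorem t_mul_self_mul (x : G) : t * (t * x) = x := by rw [← mul_assoc, hS.mul_self, one_mul]

theorem exists_pair {c c' d d' : Ω} (h : c ≠ c') (h' : d ≠ d') : ∃ g : G, g • c = d ∧ g • c' = d' :=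
  MulAction.is_two_pretransitive_iff.mp hS.two_transitive h h'

theorem exists_point (c : Ω) : ∃ g : G, g • a = c := by
  by_cases h : c = a
  · exact ⟨1, by rw [one_smul, h]⟩
  · exact ⟨(exists_pair hS (tb_ne hS).symm h).choose, (exists_pair hS (tb_ne hS).symm h).choose_spec.1⟩

theorem finite_points [Finite G] : Finite Ω :=
  Finite.of_surjective (fun g : G => g • a) fun c => exists_point hS c

theorem B_decomp {g : G} (hg : g ∈ stA) : ∃ x ∈ Q, ∃ d ∈ twoP, g = x * d := by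
  have hnorm : twoP ≤ Subgroup.normalizer (Q : Set G) := by
    intro d hd
    rw [Subgroup.mem_normalizer_iff]
    refine fun x => ⟨fun hx => hS.conj_mem d hd.1 x hx, fun hx => ?_⟩
    have := hS.conj_mem d⁻¹ ((MulAction.stabilizer G a).inv_mem hd.1) _ hx
    simpa [mul_assoc] using this
  rw [← hS.sup_eq, ← SetLike.mem_coe, Subgroup.coe_mul_of_right_le_normalizer_left _ _ hnorm] at hg
  obtain ⟨x, hx, d, hd, e⟩ := hg
  exact ⟨x, hx, d, hd, e.symm⟩

theorem Q_fix {x : G} (hx : x ∈ Q) : x • a = a := MulAction.mem_stabilizer_iff.mp (hS.le hx)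

theorem exists_Q {c : Ω} (hc : c ≠ a) : ∃ x ∈ Q, x • (t • a) = c := by
  obtain ⟨g, h1, h2⟩ := exists_pair hS (tb_ne hS).symm (Ne.symm hc)
  obtain ⟨x, hx, d, hd, rfl⟩ := B_decomp hS (MulAction.mem_stabilizer_iff.mpr h1)
  refine ⟨x, hx, ?_⟩
  rwa [mul_smul, MulAction.mem_stabilizer_iff.mp hd.2] at h2

theorem Q_free {x : G} {c : Ω} (hx : x ∈ Q) (hc : c ≠ a) (h : x • c = c) : x = 1 := by
  obtain ⟨y, hy, rfl⟩ := exists_Q hS hc
  have h1 : y⁻¹ * x * y ∈ Q ⊓ MulAction.stabilizer G (t • a) := by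
    refine Subgroup.mem_inf.mpr ⟨mul_mem (mul_mem (Q.inv_mem hy) hx) hy, ?_⟩
    show (y⁻¹ * x * y) • (t • a) = t • a
    rw [mul_smul, mul_smul, h, inv_smul_smul]
  rw [hS.inf_eq_bot, Subgroup.mem_bot] at h1
  calc x = y * (y⁻¹ * x * y) * y⁻¹ := by group
    _ = 1 := by rw [h1]; group

theorem fix_eq {x : G} {c : Ω} (hx : x ∈ Q) (hx1 : x ≠ 1) (h : x • c = c) : c = a := by
  by_contra hc
  exact hx1 (Q_free hS hx hc h)

theorem Q_unique {x y : G} {c : Ω} (hx : x ∈ Q) (hy : y ∈ Q) (hc : c ≠ a) (h : x • c = y • c) :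
    x = y := by
  have := Q_free hS (mul_mem (inv_mem hy) hx) hc (by rw [mul_smul, h, inv_smul_smul])
  exact (inv_mul_eq_one.mp this).symm

theorem Q_ne {x : G} {c : Ω} (hx : x ∈ Q) (hc : c ≠ a) : x • c ≠ a := fun h =>
  hc (MulAction.injective x (h.trans (Q_fix hS hx).symm))

theorem t_conj_D {d : G} (hd : d ∈ twoP) : t * d * t ∈ twoP := by
  obtain ⟨h1, h2⟩ := hd
  refine ⟨?_, ?_⟩
  · show (t * d * t) • a = a
    rw [mul_smul, mul_smul, MulAction.mem_stabilizer_iff.mp h2, t_swap hS]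
  · show (t * d * t) • (t • a) = t • a
    rw [mul_smul, mul_smul, t_swap hS, MulAction.mem_stabilizer_iff.mp h1]

theorem D_conj_Q {d x : G} (hd : d ∈ twoP) (hx : x ∈ Q) : d⁻¹ * x * d ∈ Q := by
  simpa using hS.conj_mem d⁻¹ ((MulAction.stabilizer G a).inv_mem hd.1) x hx

theorem D_odd [Finite G] {d : G} (hd : d ∈ twoP) : Odd (orderOf d) :=
  Odd.of_dvd_nat hS.odd_card (Subgroup.orderOf_dvd_natCard _ hd)

/-- Square roots in the two-point stabiliser. -/
theorem D_eq_one_of_sq [Finite G] {d : G} (hd : d ∈ twoP) (h : d * d = 1) : d = 1 :=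
  Invol.eq_of_mul_self_eq (D_odd hS hd) (by simp) (by rw [h, one_mul])

theorem inv_mem_Q [Finite G] {s : G} (hs : s ∈ stA) (h2 : s * s = 1) : s ∈ Q := by
  obtain ⟨x, hx, d, hd, rfl⟩ := B_decomp hS hs
  have hdd : d * d ∈ Q ⊓ MulAction.stabilizer G (t • a) := by
    refine ⟨?_, mul_mem hd.2 hd.2⟩
    have e : d * d = (x * (d * x * d⁻¹))⁻¹ := by
      refine eq_inv_of_mul_eq_one_right ?_
      rw [← h2]
      group
    rw [e]
    exact Q.inv_mem (mul_mem hx (hS.conj_mem d hd.1 x hx))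
  rw [hS.inf_eq_bot, Subgroup.mem_bot] at hdd
  rw [D_eq_one_of_sq hS hd hdd, mul_one]
  exact hx

theorem exists_invol_Q [Finite G] : ∃ s ∈ Q, s ≠ 1 ∧ s * s = 1 := by
  haveI : Fact (Nat.Prime 2) := ⟨Nat.prime_two⟩
  obtain ⟨s, hs⟩ := exists_prime_orderOf_dvd_card' 2 (even_iff_two_dvd.mp hS.even_card)
  refine ⟨s, s.2, fun h => ?_, ?_⟩
  · rw [← orderOf_eq_one_iff, Subgroup.orderOf_coe, hs] at h
    exact absurd h (by norm_num)
  · have := pow_orderOf_eq_one s
    rw [hs, sq] at this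
    exact congrArg Subtype.val this

theorem card_points [Finite G] : Nat.card Ω = Nat.card Q + 1 := by
  haveI := finite_points hS
  have e : Q ≃ {c : Ω // c ≠ a} := Equiv.ofBijective
    (fun x => ⟨(x : G) • (t • a), Q_ne hS x.2 (tb_ne hS)⟩) ⟨fun x y h =>
      Subtype.ext (Q_unique hS x.2 y.2 (tb_ne hS) (congrArg Subtype.val h)), fun c => by
      obtain ⟨x, hx, h⟩ := exists_Q hS c.2
      exact ⟨⟨x, hx⟩, Subtype.ext h⟩⟩
  classical
  haveI := Fintype.ofFinite Ω
  rw [Nat.card_congr e, Nat.card_eq_fintype_card, Nat.card_eq_fintype_card, Fintype.card_subtype_compl,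
    Fintype.card_subtype_eq]
  have : 0 < Fintype.card Ω := Fintype.card_pos_iff.mpr ⟨a⟩
  omega

theorem invol_exists_fix [Finite G] {u : G} (h2 : u * u = 1) : ∃ c : Ω, u • c = c := by
  classical
  haveI := finite_points hS
  haveI := Fintype.ofFinite Ω
  haveI : Fact (Nat.Prime 2) := ⟨Nat.prime_two⟩
  refine Equiv.Perm.exists_fixed_point_of_prime (p := 2) (n := 1) (σ := MulAction.toPerm u) ?_ ?_
  · rw [← Nat.card_eq_fintype_card, card_points hS]
    intro h
    have := even_iff_two_dvd.mpr h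
    obtain ⟨k, hk⟩ := hS.even_card
    obtain ⟨m, hm⟩ := this
    omega
  · ext c
    simp [sq, smul_smul, h2]

theorem invol_fix_unique [Finite G] {u : G} {c d : Ω} (h1 : u ≠ 1) (h2 : u * u = 1) (hc : u • c = c)
    (hd : u • d = d) : c = d := by
  obtain ⟨g, rfl⟩ := exists_point hS c
  have hB : g⁻¹ * u * g ∈ stA := by
    show (g⁻¹ * u * g) • a = a
    rw [mul_smul, mul_smul, hc, inv_smul_smul]
  have hsq : g⁻¹ * u * g * (g⁻¹ * u * g) = 1 := by
    calc g⁻¹ * u * g * (g⁻¹ * u * g) = g⁻¹ * (u * u) * g := by group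
      _ = 1 := by rw [h2]; group
  have hne : g⁻¹ * u * g ≠ 1 := fun e => h1 (by
    calc u = g * (g⁻¹ * u * g) * g⁻¹ := by group
      _ = 1 := by rw [e]; group)
  have := fix_eq hS (inv_mem_Q hS hB hsq) hne (c := g⁻¹ • d) (by
    rw [mul_smul, mul_smul, smul_inv_smul, hd])
  rw [← this, smul_inv_smul]

/-- Uniqueness in the canonical form. -/
theorem canonical_unique {g g' h h' f f' : G} (hg : g ∈ Q) (hg' : g' ∈ Q) (hh : h ∈ twoP)
    (hh' : h' ∈ twoP) (hf : f ∈ Q) (hf' : f' ∈ Q) (e : g * h * t * f = g' * h' * t * f') :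
    g = g' ∧ h = h' ∧ f = f' := by
  have hBg : g * h ∈ stA := mul_mem (hS.le hg) hh.1
  have hBg' : g' * h' ∈ stA := mul_mem (hS.le hg') hh'.1
  have key : ∀ p q r : G, p * q ∈ stA → (p * q * t * r)⁻¹ • a = r⁻¹ • (t • a) := by
    intro p q r hp
    rw [mul_inv_rev, mul_smul, mul_inv_rev, mul_smul, t_inv hS,
      MulAction.mem_stabilizer_iff.mp ((MulAction.stabilizer G a).inv_mem hp)]
  have e2 := key g h f hBg
  rw [e, key g' h' f' hBg'] at e2
  have hff : f = f' := inv_injective (Q_unique hS (inv_mem hf) (inv_mem hf') (tb_ne hS) e2.symm)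
  subst hff
  have e3 : g * h = g' * h' := mul_right_cancel (mul_right_cancel e)
  have h1 : g'⁻¹ * g ∈ Q ⊓ MulAction.stabilizer G (t • a) := by
    refine Subgroup.mem_inf.mpr ⟨mul_mem (Q.inv_mem hg') hg, ?_⟩
    have : g'⁻¹ * g = h' * h⁻¹ := by
      rw [eq_mul_inv_iff_mul_eq, mul_assoc, e3, inv_mul_cancel_left]
    rw [this]
    exact mul_mem hh'.2 ((MulAction.stabilizer G (t • a)).inv_mem hh.2)
  rw [hS.inf_eq_bot, Subgroup.mem_bot, inv_mul_eq_one] at h1
  subst h1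
  exact ⟨rfl, mul_left_cancel e3, rfl⟩

/-- Existence of the canonical form. -/
theorem canonical_exists {u : G} (hu : u ∉ stA) :
    ∃ g ∈ Q, ∃ h ∈ twoP, ∃ f ∈ Q, u = g * h * t * f := by
  have hne : u⁻¹ • a ≠ a := fun e => hu <| by
    show u • a = a
    conv_lhs => rw [← e]
    rw [smul_inv_smul]
  obtain ⟨y, hy, hyc⟩ := exists_Q hS hne
  have hB : u * y * t ∈ stA := by
    show (u * y * t) • a = a
    rw [mul_smul, mul_smul, hyc, smul_inv_smul]
  obtain ⟨g, hg, h, hh, e⟩ := B_decomp hS hB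
  refine ⟨g, hg, h, hh, y⁻¹, inv_mem hy, ?_⟩
  rw [← e]
  simp [mul_assoc, t_mul_self_mul hS]

/-- An involution interchanging the two base points. -/
def IsSwap (a : Ω) (t w : G) : Prop := w ≠ 1 ∧ w * w = 1 ∧ w • a = t • a

/-- The involution `s` of the stabiliser of `a` corresponds to the swap `w`. -/
def Corr (a : Ω) (t : G) (Q : Subgroup G) (s w : G) : Prop :=
  s ∈ Cfsg.involutionsIn (MulAction.stabilizer G a : Set G) ∧ IsSwap a t w ∧
    ∃ r ∈ Q, t * s * t = r⁻¹ * w * r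

theorem swap_back {w : G} (hw : IsSwap a t w) : w • (t • a) = a := by
  rw [← hw.2.2, smul_smul, hw.2.1, one_smul]

theorem t_isSwap : IsSwap a t t := ⟨hS.ne_one, hS.mul_self, rfl⟩

theorem corr_r_unique {s w r : G} (hw : IsSwap a t w) (hr : r ∈ Q) (e : t * s * t = r⁻¹ * w * r) :
    r • ((t * s * t) • a) = t • a := by
  rw [e, mul_smul, mul_smul, Q_fix hS hr, hw.2.2, smul_inv_smul]

theorem exists_corr [Finite G] {s : G} (hs : s ∈ Cfsg.involutionsIn (stA : Set G)) :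
    ∃ w, Corr a t Q s w := by
  obtain ⟨hsB, hs1, hs2⟩ := hs
  have hsQ := inv_mem_Q hS hsB hs2
  have hne : (t * s * t) • a ≠ a := by
    intro h
    rw [mul_smul, mul_smul] at h
    exact tb_ne hS (fix_eq hS hsQ hs1 (MulAction.injective t (h.trans (t_swap hS).symm)))
  obtain ⟨y, hy, hyc⟩ := exists_Q hS hne
  refine ⟨y⁻¹ * (t * s * t) * y, ⟨hsB, hs1, hs2⟩, ⟨?_, ?_, ?_⟩, y⁻¹, inv_mem hy, by group⟩
  · intro e
    apply hs1
    calc s = t * (y * (y⁻¹ * (t * s * t) * y) * y⁻¹) * t := by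
          simp [mul_assoc, t_mul_self_mul hS, hS.mul_self]
      _ = 1 := by rw [e]; simp [hS.mul_self]
  · calc y⁻¹ * (t * s * t) * y * (y⁻¹ * (t * s * t) * y) = y⁻¹ * (t * (s * ((t * t) * s)) * t) * y := by
          group
      _ = 1 := by rw [hS.mul_self, one_mul, hs2, mul_one, hS.mul_self]; group
  · rw [mul_smul, mul_smul, Q_fix hS hy, inv_smul_eq_iff]
    exact hyc.symm

theorem corr_right_unique {s w w' : G} (h : Corr a t Q s w) (h' : Corr a t Q s w') : w = w' := by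
  obtain ⟨-, hw, r, hr, e⟩ := h
  obtain ⟨hsI, hw', r', hr', e'⟩ := h'
  have h1 := corr_r_unique hS hw hr e
  have h2 := corr_r_unique hS hw' hr' e'
  have hne : (t * s * t) • a ≠ a := fun hh => tb_ne hS (by rw [← h1, hh, Q_fix hS hr])
  have hrr := Q_unique hS hr hr' hne (h1.trans h2.symm)
  subst hrr
  exact mul_left_cancel (mul_right_cancel (e.symm.trans e'))

theorem exists_corr' [Finite G] {w : G} (hw : IsSwap a t w) : ∃ s, Corr a t Q s w := by
  obtain ⟨c, hc⟩ := invol_exists_fix hS hw.2.1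
  have hca : c ≠ a := fun e => tb_ne hS (by rw [← hw.2.2, ← e, hc])
  obtain ⟨r, hr, hrc⟩ := exists_Q hS hca
  refine ⟨t * (r⁻¹ * w * r) * t, ⟨?_, ?_, ?_⟩, hw, r, hr, ?_⟩
  · show (t * (r⁻¹ * w * r) * t) • a = a
    rw [mul_smul, mul_smul, mul_smul, mul_smul, hrc, hc, ← hrc, inv_smul_smul, t_swap hS]
  · intro e
    apply hw.1
    calc w = r * (t * (t * (r⁻¹ * w * r) * t) * t) * r⁻¹ := by
          simp [mul_assoc, t_mul_self_mul hS, hS.mul_self]
      _ = 1 := by rw [e]; simp [hS.mul_self]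
  · calc t * (r⁻¹ * w * r) * t * (t * (r⁻¹ * w * r) * t)
        = t * (r⁻¹ * w * r) * (t * t) * (r⁻¹ * w * r) * t := by group
      _ = t * r⁻¹ * (w * w) * r * t := by rw [hS.mul_self]; group
      _ = 1 := by rw [hw.2.1]; simp [mul_assoc, hS.mul_self]
  · simp [mul_assoc, t_mul_self_mul hS, hS.mul_self]

theorem corr_left_unique [Finite G] {s s' w : G} (h : Corr a t Q s w) (h' : Corr a t Q s' w) :
    s = s' := by
  obtain ⟨⟨hsB, hs1, hs2⟩, hw, r, hr, e⟩ := h
  obtain ⟨⟨hsB', -, -⟩, -, r', hr', e'⟩ := h'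
  have key : ∀ p : G, p ∈ stA → ∀ v : G, t * p * t = v⁻¹ * w * v → w • (v • (t • a)) = v • (t • a) := by
    intro p hp v hv
    have : (t * p * t) • (t • a) = t • a := by
      rw [mul_smul, mul_smul, t_swap hS, MulAction.mem_stabilizer_iff.mp hp]
    rwa [hv, mul_smul, mul_smul, inv_smul_eq_iff] at this
  have hrr := Q_unique hS hr hr' (tb_ne hS)
    (invol_fix_unique hS hw.1 hw.2.1 (key s hsB r e) (key s' hsB' r' e'))
  subst hrr
  exact mul_left_cancel (mul_right_cancel (e.trans e'.symm))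

theorem corr_conj {s w d : G} (h : Corr a t Q s w) (hd : d ∈ twoP) :
    Corr a t Q (d⁻¹ * s * d) ((t * d * t)⁻¹ * w * (t * d * t)) := by
  obtain ⟨⟨hsB, hs1, hs2⟩, ⟨hw1, hw2, hwa⟩, r, hr, e⟩ := h
  have hd' := t_conj_D hS hd
  obtain ⟨p, hp⟩ : ∃ p, p = t * d * t := ⟨_, rfl⟩
  rw [← hp] at hd' ⊢
  refine ⟨⟨mul_mem (mul_mem ((MulAction.stabilizer G a).inv_mem hd.1) hsB) hd.1, ?_, ?_⟩,
    ⟨?_, ?_, ?_⟩, p⁻¹ * r * p, D_conj_Q hS hd' hr, ?_⟩
  · intro h1
    exact hs1 (by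
      calc s = d * (d⁻¹ * s * d) * d⁻¹ := by group
        _ = 1 := by rw [h1]; group)
  · calc d⁻¹ * s * d * (d⁻¹ * s * d) = d⁻¹ * (s * s) * d := by group
      _ = 1 := by rw [hs2]; group
  · intro h1
    exact hw1 (by
      calc w = p * (p⁻¹ * w * p) * p⁻¹ := by group
        _ = 1 := by rw [h1]; group)
  · calc p⁻¹ * w * p * (p⁻¹ * w * p) = p⁻¹ * (w * w) * p := by group
      _ = 1 := by rw [hw2]; group
  · rw [mul_smul, mul_smul, MulAction.mem_stabilizer_iff.mp hd'.1, hwa, inv_smul_eq_iff,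
      MulAction.mem_stabilizer_iff.mp hd'.2]
  · have e1 : t * (d⁻¹ * s * d) * t = p⁻¹ * (t * s * t) * p := by
      rw [hp]
      simp [mul_assoc, t_mul_self_mul hS, t_inv hS]
    rw [e1, e]
    group

/-- `d` centralises `s` iff `t d t` centralises the corresponding swap. -/
theorem corr_commute [Finite G] {s w d : G} (h : Corr a t Q s w) (hd : d ∈ twoP) :
    d * s = s * d ↔ (t * d * t) * w = w * (t * d * t) := by
  have h2 := corr_conj hS h hd
  constructor
  · intro e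
    have : d⁻¹ * s * d = s := by rw [mul_assoc, ← e, inv_mul_cancel_left]
    rw [this] at h2
    have e2 := corr_right_unique hS h2 h
    rw [mul_assoc, inv_mul_eq_iff_eq_mul] at e2
    exact e2.symm
  · intro e
    have : (t * d * t)⁻¹ * w * (t * d * t) = w := by rw [mul_assoc, ← e, inv_mul_cancel_left]
    rw [this] at h2
    have e2 := corr_left_unique hS h2 h
    rw [mul_assoc, inv_mul_eq_iff_eq_mul] at e2
    exact e2.symm

theorem swap_iff {w : G} :
    IsSwap a t w ↔ ∃ k ∈ Cfsg.invertedBy twoP t, w = t * k := by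
  constructor
  · intro hw
    refine ⟨t * w, ⟨⟨?_, ?_⟩, ?_⟩, (t_mul_self_mul hS w).symm⟩
    · show (t * w) • a = a
      rw [mul_smul, hw.2.2, t_swap hS]
    · show (t * w) • (t • a) = t • a
      rw [mul_smul, swap_back hS hw]
    · rw [t_inv hS, t_mul_self_mul hS, mul_inv_rev, t_inv hS, Invol.inv_eq_self_of_mul_self hw.2.1]
  · rintro ⟨k, ⟨hk, hki⟩, rfl⟩
    rw [t_inv hS] at hki
    refine ⟨fun e => hS.not_mem ?_, ?_, ?_⟩
    · rw [eq_inv_of_mul_eq_one_left e]
      exact (MulAction.stabilizer G a).inv_mem hk.1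
    · calc t * k * (t * k) = t * k * t * k := by group
        _ = 1 := by rw [hki, inv_mul_cancel]
    · rw [mul_smul, MulAction.mem_stabilizer_iff.mp hk.1]

theorem card_inverted [Finite G] : Nat.card (Cfsg.invertedBy twoP t) =
    Nat.card (Cfsg.involutionsIn (stA : Set G)) := by
  choose f hf using fun s : Cfsg.involutionsIn (stA : Set G) => exists_corr hS s.2
  have hk : ∀ s, t * f s ∈ Cfsg.invertedBy twoP t := fun s => by
    obtain ⟨k, hk, e⟩ := (swap_iff hS).mp (hf s).2.1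
    rwa [e, t_mul_self_mul hS]
  refine (Nat.card_eq_of_bijective (fun s => (⟨t * f s, hk s⟩ : Cfsg.invertedBy twoP t)) ⟨?_, ?_⟩).symm
  · intro s s' e
    have e' : f s = f s' := mul_left_cancel (congrArg Subtype.val e :)
    exact Subtype.ext (corr_left_unique hS (hf s) (e' ▸ hf s'))
  · rintro ⟨k, hk'⟩
    obtain ⟨s, hs⟩ := exists_corr' hS (w := t * k) ((swap_iff hS).mpr ⟨k, hk', rfl⟩)
    refine ⟨⟨s, hs.1⟩, Subtype.ext ?_⟩
    show t * f _ = k
    rw [corr_right_unique hS (hf ⟨s, hs.1⟩) hs, t_mul_self_mul hS]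

theorem exists_sqrt_K [Finite G] {k : G} (hk : k ∈ Cfsg.invertedBy twoP t) :
    ∃ l ∈ Cfsg.invertedBy twoP t, l * l = k := by
  obtain ⟨l, hl, hll, -⟩ := Invol.exists_sqrt (D_odd hS hk.1)
  exact ⟨l, ⟨Subgroup.zpowers_le.mpr hk.1 hl, Invol.inverts_of_mem_zpowers hk.2 hl⟩, hll⟩

/-- Every swap is a conjugate of `t` by an inverted element. -/
theorem swap_eq_conj [Finite G] {w : G} (hw : IsSwap a t w) :
    ∃ l ∈ Cfsg.invertedBy twoP t, w = l⁻¹ * t * l := by
  obtain ⟨k, hk, rfl⟩ := (swap_iff hS).mp hw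
  obtain ⟨l, hl, rfl⟩ := exists_sqrt_K hS hk
  refine ⟨l, hl, ?_⟩
  have h := hl.2
  rw [t_inv hS] at h
  rw [← h]
  calc t * (l * l) = t * l * (t * t) * l := by rw [hS.mul_self]; group
    _ = _ := by group

theorem inverted_inv {k : G} (hk : k ∈ Cfsg.invertedBy twoP t) : k⁻¹ ∈ Cfsg.invertedBy twoP t :=
  ⟨(twoP).inv_mem hk.1, by
    calc t * k⁻¹ * t⁻¹ = (t * k * t⁻¹)⁻¹ := by group
      _ = _ := by rw [hk.2]⟩

/-- Every involution of the stabiliser is conjugate to the base one by an inverted element. -/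
theorem corr_eq_conj [Finite G] {s₀ s : G} (h₀ : Corr a t Q s₀ t)
    (hs : s ∈ Cfsg.involutionsIn (stA : Set G)) :
    ∃ l ∈ Cfsg.invertedBy twoP t, s = l * s₀ * l⁻¹ := by
  obtain ⟨w, hw⟩ := exists_corr hS hs
  obtain ⟨l, hl, rfl⟩ := swap_eq_conj hS hw.2.1
  refine ⟨l, hl, corr_left_unique hS hw ?_⟩
  have h := corr_conj hS h₀ ((twoP).inv_mem hl.1)
  have e : t * l⁻¹ * t = l := by
    have := hl.2
    rw [t_inv hS] at this
    rw [← this]
    simp [mul_assoc, t_mul_self_mul hS, hS.mul_self]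
  rw [e, inv_inv] at h
  exact h

/-- The base pair: centralisers of `t` and of the corresponding involution agree on `D`. -/
theorem base_commute [Finite G] {s₀ d : G} (h₀ : Corr a t Q s₀ t) (hd : d ∈ twoP) :
    d * s₀ = s₀ * d ↔ d * t = t * d := by
  rw [corr_commute hS h₀ hd]
  constructor
  · intro e
    calc d * t = t * ((t * d * t) * t) * t := by simp [mul_assoc, t_mul_self_mul hS, hS.mul_self]
      _ = t * (t * (t * d * t)) * t := by rw [e]
      _ = t * d := by simp [mul_assoc, t_mul_self_mul hS, hS.mul_self]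
  · intro e
    rw [mul_assoc t d t, e, t_mul_self_mul hS]
    exact e

theorem K_transitive [Finite G] {s s' : G} (hs : s ∈ Cfsg.involutionsIn (stA : Set G))
    (hs' : s' ∈ Cfsg.involutionsIn (stA : Set G)) :
    ∃ k ∈ Cfsg.invertedBy twoP t, k⁻¹ * s * k = s' := by
  obtain ⟨s₀, h₀⟩ := exists_corr' hS (t_isSwap hS)
  obtain ⟨l, hl, hse⟩ := corr_eq_conj hS h₀ hs
  let Φ : Cfsg.invertedBy twoP t → Cfsg.involutionsIn (stA : Set G) := fun k =>
    ⟨(k : G)⁻¹ * s * k, mul_mem (mul_mem ((MulAction.stabilizer G a).inv_mem k.2.1.1) hs.1) k.2.1.1,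
      fun e => hs.2.1 (by
        calc s = (k : G) * ((k : G)⁻¹ * s * k) * (k : G)⁻¹ := by group
          _ = 1 := by rw [e]; group),
      by calc (k : G)⁻¹ * s * k * ((k : G)⁻¹ * s * k) = (k : G)⁻¹ * (s * s) * k := by group
          _ = 1 := by rw [hs.2.2]; group⟩
  have hinj : Function.Injective Φ := by
    rintro ⟨k, hk⟩ ⟨k', hk'⟩ e
    have e1 : k⁻¹ * s * k = k'⁻¹ * s * k' := congrArg Subtype.val e
    obtain ⟨v, hv⟩ : ∃ v, v = l⁻¹ * (k' * k⁻¹) * l := ⟨_, rfl⟩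
    have hvD : v ∈ twoP :=
      hv ▸ mul_mem (mul_mem ((twoP).inv_mem hl.1) (mul_mem hk'.1 ((twoP).inv_mem hk.1))) hl.1
    have hvs : v * s₀ = s₀ * v := by
      have h1 : k' * k⁻¹ * s = s * (k' * k⁻¹) := by
        calc k' * k⁻¹ * s = k' * (k⁻¹ * s * k) * k⁻¹ := by group
          _ = k' * (k'⁻¹ * s * k') * k⁻¹ := by rw [e1]
          _ = _ := by group
      rw [hse] at h1
      rw [hv]
      calc l⁻¹ * (k' * k⁻¹) * l * s₀ = l⁻¹ * (k' * k⁻¹ * (l * s₀ * l⁻¹)) * l := by group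
        _ = _ := by rw [h1]; group
    have hvt := (base_commute hS h₀ hvD).mp hvs
    have ek' : k' = l * v * l⁻¹ * k := by rw [hv]; group
    have el := hl.2
    have ek := hk.2
    have ek2 : t * k' * t⁻¹ = k'⁻¹ := hk'.2
    rw [ek'] at ek2
    have e3 : t * (l * v * l⁻¹ * k) * t⁻¹ = l⁻¹ * v * l * k⁻¹ := by
      calc t * (l * v * l⁻¹ * k) * t⁻¹
          = t * l * t⁻¹ * (t * v * t⁻¹) * (t * l * t⁻¹)⁻¹ * (t * k * t⁻¹) := by group
        _ = _ := by rw [el, ek, ← hvt, mul_inv_cancel_right, inv_inv]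
    rw [e3] at ek2
    -- `x = l⁻¹ k l⁻¹` inverts `v`
    obtain ⟨x, hx⟩ : ∃ x, x = l⁻¹ * k * l⁻¹ := ⟨_, rfl⟩
    have hxD : x ∈ twoP :=
      hx ▸ mul_mem (mul_mem ((twoP).inv_mem hl.1) hk.1) ((twoP).inv_mem hl.1)
    have hxv : x * v⁻¹ * x⁻¹ = v := by
      rw [mul_inv_eq_iff_eq_mul, hx]
      have h4 := congrArg (fun y => l⁻¹ * y⁻¹ * l⁻¹) ek2
      simp only [inv_inv] at h4
      calc l⁻¹ * k * l⁻¹ * v⁻¹ = l⁻¹ * (l⁻¹ * v * l * k⁻¹)⁻¹ * l⁻¹ := by group
        _ = l⁻¹ * (l * v * l⁻¹ * k) * l⁻¹ := h4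
        _ = _ := by group
    have hxi : x * v * x⁻¹ = v⁻¹ := by
      calc x * v * x⁻¹ = (x * v⁻¹ * x⁻¹)⁻¹ := by group
        _ = v⁻¹ := by rw [hxv]
    obtain ⟨m, hm⟩ := D_odd hS hxD
    have hx2 : Commute (x * x) v := by
      show x * x * v = v * (x * x)
      calc x * x * v = x * (x * v * x⁻¹) * x := by group
        _ = x * v⁻¹ * x := by rw [hxi]
        _ = x * v⁻¹ * x⁻¹ * (x * x) := by group
        _ = v * (x * x) := by rw [hxv]
    have hxc : Commute x v := by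
      have e5 : (x * x) ^ (m + 1) = x := by
        rw [← sq, ← pow_mul, show 2 * (m + 1) = orderOf x + 1 by omega, pow_succ,
          pow_orderOf_eq_one, one_mul]
      rw [← e5]
      exact hx2.pow_left _
    rw [hxc.eq, mul_inv_cancel_right] at hxi
    have hv1 : v = 1 := D_eq_one_of_sq hS hvD (eq_inv_iff_mul_eq_one.mp hxi)
    refine Subtype.ext ?_
    show k = k'
    rw [ek', hv1]; group
  have hbij : Function.Bijective Φ :=
    (Nat.bijective_iff_injective_and_card Φ).mpr ⟨hinj, card_inverted hS⟩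
  obtain ⟨k, hk⟩ := hbij.2 ⟨s', hs'⟩
  exact ⟨k, k.2, congrArg Subtype.val hk⟩

/-- A subset of `D` fixing a third point commutes with a swap. -/
theorem exists_swap_commuting [Finite G] {X : Set G} (hX : X ⊆ (twoP : Set G)) {c : Ω} (hca : c ≠ a)
    (hcb : c ≠ t • a) (hfix : ∀ e ∈ X, e • c = c) :
    ∃ w, IsSwap a t w ∧ ∀ e ∈ X, e * w = w * e := by
  obtain ⟨x, hx, hxc⟩ := exists_Q hS hca
  have hx1 : x ≠ 1 := fun e => hcb (by rw [← hxc, e, one_smul])
  have hxe : ∀ e ∈ X, e * x = x * e := by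
    intro e he
    have hq : e * x * e⁻¹ ∈ Q := hS.conj_mem e (hX he).1 x hx
    have h := Q_unique hS hq hx (tb_ne hS) (by
      rw [mul_smul, mul_smul, inv_smul_eq_iff.mpr (MulAction.mem_stabilizer_iff.mp (hX he).2).symm,
        hxc, hfix e he])
    rwa [mul_inv_eq_iff_eq_mul] at h
  have hu : t * x * t ∉ stA := by
    intro h
    have h' : (t * x * t) • a = a := h
    rw [mul_smul, mul_smul, hxc] at h'
    exact hcb (MulAction.injective t (h'.trans (t_swap hS).symm))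
  obtain ⟨g, hg, h, hh, f, hf, e0⟩ := canonical_exists hS hu
  have hcomm : ∀ e ∈ X, Commute e (h⁻¹ * t) := by
    intro e he
    obtain ⟨p, hp⟩ : ∃ p, p = t * e * t := ⟨_, rfl⟩
    have hpD : p ∈ twoP := hp ▸ t_conj_D hS (hX he)
    have htp : t * p * t = e := by rw [hp]; simp [mul_assoc, t_mul_self_mul hS, hS.mul_self]
    have hxx : e⁻¹ * x * e = x := by rw [mul_assoc, ← hxe e he, inv_mul_cancel_left]
    have h1 : p⁻¹ * (t * x * t) * p = t * x * t := by
      calc p⁻¹ * (t * x * t) * p = t * (e⁻¹ * x * e) * t := by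
            rw [hp]; simp [mul_assoc, t_mul_self_mul hS, t_inv hS]
        _ = _ := by rw [hxx]
    have h2 : g * h * t * f = p⁻¹ * g * p * (p⁻¹ * h * e) * t * (p⁻¹ * f * p) := by
      rw [← e0, ← h1, e0, ← htp]
      simp [mul_assoc, t_mul_self_mul hS]
    obtain ⟨-, h3, -⟩ := canonical_unique hS hg (D_conj_Q hS hpD hg) hh
      (mul_mem (mul_mem ((twoP).inv_mem hpD) hh) (hX he)) hf (D_conj_Q hS hpD hf) h2
    have h4 : p * h = h * e := by
      conv_lhs => rw [h3]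
      group
    show e * (h⁻¹ * t) = h⁻¹ * t * e
    calc e * (h⁻¹ * t) = h⁻¹ * (h * e) * h⁻¹ * t := by group
      _ = h⁻¹ * (p * t) := by rw [← h4]; group
      _ = _ := by rw [hp]; simp [mul_assoc, hS.mul_self]
  obtain ⟨u, hu⟩ : ∃ u, u = h⁻¹ * t := ⟨_, rfl⟩
  rw [← hu] at hcomm
  have hua : u • a = t • a := by
    rw [hu, mul_smul]
    exact inv_smul_eq_iff.mpr (MulAction.mem_stabilizer_iff.mp hh.2).symm
  have huu : u * u ∈ twoP := by
    have : u * u = h⁻¹ * (t * h⁻¹ * t) := by rw [hu]; group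
    rw [this]
    exact mul_mem ((twoP).inv_mem hh) (t_conj_D hS ((twoP).inv_mem hh))
  obtain ⟨j, hj⟩ := D_odd hS huu
  refine ⟨(u * u) ^ j * u, ⟨?_, ?_, ?_⟩, fun e he => ?_⟩
  · intro e1
    have : ((u * u) ^ j * u) • a = t • a := by
      rw [mul_smul, hua, MulAction.mem_stabilizer_iff.mp ((twoP).pow_mem huu j).2]
    rw [e1, one_smul] at this
    exact tb_ne hS this.symm
  · have hc : Commute u ((u * u) ^ j) := ((Commute.refl u).mul_right (Commute.refl u)).pow_right _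
    calc (u * u) ^ j * u * ((u * u) ^ j * u) = (u * u) ^ j * (u * (u * u) ^ j) * u := by group
      _ = (u * u) ^ (2 * j + 1) := by rw [hc.eq, pow_succ, two_mul, pow_add]; group
      _ = 1 := by rw [← hj, pow_orderOf_eq_one]
  · rw [mul_smul, hua, MulAction.mem_stabilizer_iff.mp ((twoP).pow_mem huu j).2]
  · exact ((((hcomm e he).mul_right (hcomm e he)).pow_right j).mul_right (hcomm e he)).eq

end Cfsg.Agent.RankOne
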