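import Cfsg.Agent.Lib.RankOne.FrobeniusMaps

/-! The weight argument for Higman's theorem on Suzuki 2-groups: a quadratic map `q` with values in
the field, killed by a faithful family of additive endomorphisms twisted by the field units, is zero. -/

set_option linter.style.haveILetI false
namespace Cfsg.Agent.RankOne

open Polynomial

variable {F : Type*} [Field F] [Fintype F] [CharP F 2]

theorem weight_unique {σ τ ρ : F ≃+* F} (_hσ : σ ≠ RingEquiv.refl F) (hτ : τ ≠ RingEquiv.refl F)
    (h : ∀ a, ρ a * τ a = a * ρ (σ a)) : τ = σ := by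
  classical
  haveI := finite_ringEquiv (F := F)
  letI := Fintype.ofFinite (F ≃+* F)
  obtain ⟨π, hπ⟩ : ∃ π, π = σ.trans ρ := ⟨_, rfl⟩
  have hπa : ∀ a, π a = ρ (σ a) := fun a => by rw [hπ]; rfl
  obtain ⟨e, he⟩ : ∃ e, e = RingEquiv.refl F := ⟨_, rfl⟩
  have hea : ∀ a, e a = a := fun a => by rw [he]; rfl
  have h2 : ∀ a : F, a + a = 0 := CharTwo.add_self_eq_zero
  have hlin : ∀ b, ρ b + τ b + b + π b = 0 := by
    intro b
    have h1 := h (b + 1)
    simp only [map_add, map_one] at h1
    rw [hπa]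
    linear_combination h1 - h b + h2 b + h2 (ρ (σ b))
  have hc := eq_zero_of_sum (c := fun ν => (if ν = ρ then (1 : F) else 0) + (if ν = τ then 1 else 0) +
    (if ν = e then 1 else 0) + (if ν = π then 1 else 0)) fun b => by
      simp only [add_mul, Finset.sum_add_distrib, ite_mul, one_mul, zero_mul, Finset.sum_ite_eq',
        Finset.mem_univ, if_true, hea]
      exact hlin b
  have he1 := congrFun hc e
  simp only [Pi.zero_apply, he ▸ Ne.symm hτ, if_false, if_true, add_zero] at he1
  by_cases hρ : ρ = e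
  · have hπσ : π = σ := by rw [hπ, hρ, he]; exact RingEquiv.ext fun a => rfl
    have ht := congrFun hc τ
    simp only [Pi.zero_apply, hρ, hπσ, he ▸ hτ, if_false, if_true, zero_add, add_zero] at ht
    by_contra hne
    rw [if_neg hne, add_zero] at ht
    exact one_ne_zero ht
  · rw [if_neg (Ne.symm hρ), zero_add] at he1
    by_cases hπe : π = e
    · have hr := congrFun hc ρ
      simp only [Pi.zero_apply, hπe, hρ, if_false, if_true, add_zero] at hr
      have hρτ : ρ = τ := by
        by_contra hne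
        rw [if_neg hne, add_zero] at hr
        exact one_ne_zero hr
      exfalso
      refine hρ (RingEquiv.ext fun a => ?_)
      have h1 := h a
      rw [← hρτ, ← hπa, hπe, hea, ← sq, ← sq] at h1
      rw [hea]
      exact frobenius_inj F 2 h1
    · rw [if_neg (Ne.symm hπe), add_zero] at he1
      exact absurd he1 one_ne_zero

/-- Projection to one weight. -/
theorem exists_weight_poly {g : F} (hg0 : g ≠ 0) (hgen : ∀ a : F, a ≠ 0 → ∃ i : ℕ, g ^ i = a)
    {σ : F ≃+* F} (hσ : σ ≠ RingEquiv.refl F) :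
    ∃ (R : (ZMod 2)[X]), eval₂ (ZMod.castHom (dvd_refl 2) F) (g / σ g) R = 1 ∧
      ∀ τ : F ≃+* F, τ ≠ RingEquiv.refl F → τ ≠ σ →
        eval₂ (ZMod.castHom (dvd_refl 2) F) (g / τ g) R = 0 := by
  letI : Algebra (ZMod 2) F := ZMod.algebra F 2
  have halg : ZMod.castHom (dvd_refl 2) F = algebraMap (ZMod 2) F := RingHom.ext_zmod _ _
  rw [halg]
  refine ⟨1 + minpoly (ZMod 2) (g / σ g) ^ (Fintype.card F - 1), ?_, fun τ hτ hne => ?_⟩
  · rw [← aeval_def, map_add, map_one, map_pow, minpoly.aeval, zero_pow, add_zero]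
    have := Fintype.one_lt_card (α := F)
    omega
  · rw [← aeval_def, map_add, map_one, map_pow]
    have h0 : aeval (g / τ g) (minpoly (ZMod 2) (g / σ g)) ≠ 0 := by
      intro h0
      have hmin : minpoly (ZMod 2) (g / σ g) = minpoly (ZMod 2) (g / τ g) :=
        minpoly.eq_of_irreducible_of_monic (minpoly.irreducible (IsIntegral.of_finite _ _)) h0
          (minpoly.monic (IsIntegral.of_finite _ _))
      obtain ⟨ρ, hρ⟩ := (Normal.minpoly_eq_iff_mem_orbit (F := ZMod 2) (E := F)).mp hmin.symm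
      replace hρ : ρ (g / σ g) = g / τ g := hρ
      refine hne (weight_unique (ρ := ρ.toRingEquiv) hσ hτ fun a => ?_)
      have hg : ρ g * τ g = g * ρ (σ g) := by
        rw [map_div₀, div_eq_div_iff] at hρ
        · exact hρ
        · exact fun h => hg0 (by simpa using h)
        · exact fun h => hg0 (by simpa using h)
      show ρ a * τ a = a * ρ (σ a)
      rcases eq_or_ne a 0 with rfl | ha
      · simp
      obtain ⟨i, rfl⟩ := hgen a ha
      simp only [map_pow, ← mul_pow, hg]
    rw [FiniteField.pow_card_sub_one_eq_one _ h0]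
    exact CharTwo.add_self_eq_zero 1

/-- Two weights with a nonzero pairing into the field differ by a square. -/
theorem pair_eq {P : Type*} [Group P] {σ τ : F ≃+* F} (b : P → F) (e : P → F) (d : F) (hd : d ≠ 0)
    (hb : ∀ x y, b (x * y) = b x + b y) (he : ∀ x y, e (x * y) = e x + e y)
    (hsurj : ∀ f, ∃ x, e x = f)
    (hker : ∀ x, e x = 0 → b x = 0)
    (hrel : ∀ x, e x * σ (b x) = d * τ (b x)) {x₀ : P} (hx₀ : b x₀ ≠ 0) (w : F) : τ w = σ w ^ 2 := by
  have hinj : ∀ x, b x = 0 → e x = 0 := by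
    intro x hx
    have h1 := hrel (x₀ * x)
    rw [hb, he, hx, add_zero, ← hrel x₀, add_mul, add_eq_left, mul_eq_zero] at h1
    exact h1.resolve_right fun h => hx₀ (by simpa using h)
  have h2 : ∀ a : F, a + a = 0 := CharTwo.add_self_eq_zero
  choose s hs using hsurj
  have hb1 : ∀ f g : F, b (s f * s g) = b (s (f + g)) := by
    intro f g
    have h0 : e (s f * s g * s (f + g)) = 0 := by rw [he, he, hs, hs, hs, h2]
    have h1 := hker _ h0
    rw [hb] at h1
    exact CharTwo.add_eq_zero.mp h1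
  have hbij : Function.Surjective fun f => b (s f) := by
    refine Finite.injective_iff_surjective.mp fun f g h => ?_
    have h0 : b (s (f + g)) = 0 := by
      rw [← hb1, hb, show b (s f) = b (s g) from h, h2]
    have := hinj _ h0
    rw [hs] at this
    exact CharTwo.add_eq_zero.mp this
  obtain ⟨f, hf⟩ := hbij w
  obtain ⟨k, hk⟩ := hbij 1
  replace hf : b (s f) = w := hf
  replace hk : b (s k) = 1 := hk
  have hf' := hrel (s f)
  have hk' := hrel (s k)
  have hfk := hrel (s f * s k)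
  rw [hb, he, hs, hs, hf, hk, map_add, map_add, map_one, map_one] at hfk
  rw [hs, hf] at hf'
  rw [hs, hk, map_one, map_one, mul_one, mul_one] at hk'
  subst hk'
  have hfe : f = k * σ w := by
    linear_combination hfk - hf' - h2 (k * σ w)
  rw [hfe] at hf'
  refine (mul_left_cancel₀ hd ?_).symm
  linear_combination hf'

variable {P : Type*} [Group P]

/-- A quadratic map killed by the twisted family `L` is zero. -/
theorem quad_eq_zero {g : F} (hg0 : g ≠ 0) (hgen : ∀ a : F, a ≠ 0 → ∃ i : ℕ, g ^ i = a)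
    (L : P → F →+ F) (hL : ∀ x y, L (x * y) = L x + L y)
    (q : P → F) (β : P → P → F) (hβ : ∀ x y, q (x * y) = q x + q y + β x y)
    (hβl : ∀ x x' y, β (x * x') y = β x y + β x' y) (hβr : ∀ x y y', β x (y * y') = β x y + β x y')
    (hLq : ∀ x, L x (q x) = 0)
    (hker : ∀ x, L x = 0 → q x = 0 ∧ ∀ y, β x y = 0 ∧ β y x = 0)
    (φ : P → P) (hφ : ∀ x z, L (φ x) (g * z) = g * L x z)
    (hfix : ∀ x (k : ℕ), 0 < k → k < Fintype.card F - 1 → L (φ^[k] x) = L x → L x = 0)
    (hcard : 2 < Fintype.card F) (x : P) : q x = 0 := by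
  classical
  haveI := finite_ringEquiv (F := F)
  letI := Fintype.ofFinite (F ≃+* F)
  have h2 : ∀ a : F, a + a = 0 := CharTwo.add_self_eq_zero
  have hP1 : L 1 = 0 := by
    have := hL 1 1
    rwa [one_mul, left_eq_add] at this
  choose c hc using fun x => exists_coeff (L x)
  have huniq : ∀ {a b : (F ≃+* F) → F}, (∀ z, ∑ σ, a σ * σ z = ∑ σ, b σ * σ z) → a = b :=
    fun {a b} h => sub_eq_zero.mp (eq_zero_of_sum fun z => by
      simp only [Pi.sub_apply, sub_mul, Finset.sum_sub_distrib, h, sub_self])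
  have hcmul : ∀ x y, c (x * y) = c x + c y := fun x y => huniq fun z => by
    simp only [Pi.add_apply, add_mul, Finset.sum_add_distrib, ← hc, hL, AddMonoidHom.add_apply]
  have hceq : ∀ {x y}, c x = c y → L x = L y := fun {x y} h => AddMonoidHom.ext fun z => by
    rw [hc, hc, h]
  have hc0 : ∀ {x}, L x = 0 → c x = 0 := fun {x} h => eq_zero_of_sum fun z => by
    rw [← hc, h, AddMonoidHom.zero_apply]
  have hL0 : ∀ {x}, c x = 0 → L x = 0 := fun {x} h => AddMonoidHom.ext fun z => by
    simp [hc, h]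
  have hσg : ∀ σ : F ≃+* F, σ g ≠ 0 := fun σ h => hg0 (by simpa using h)
  have hcφ : ∀ x σ, c (φ x) σ = g / σ g * c x σ := fun x σ => by
    refine congrFun (huniq (a := c (φ x)) (b := fun σ => g / σ g * c x σ) fun z => ?_) σ
    obtain ⟨z, rfl⟩ : ∃ z', z = g * z' := ⟨g⁻¹ * z, by field_simp⟩
    rw [← hc, hφ, hc, Finset.mul_sum]
    refine Finset.sum_congr rfl fun σ _ => ?_
    rw [map_mul]
    have := hσg σ
    field_simp
  have hcφk : ∀ (k : ℕ) x σ, c (φ^[k] x) σ = (g / σ g) ^ k * c x σ := fun k => by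
    induction k with
    | zero => simp
    | succ k ih => intro x σ; rw [Function.iterate_succ_apply', hcφ, ih, pow_succ]; ring
  have heval : ∀ (R : (ZMod 2)[X]) x, ∃ y, ∀ σ,
      c y σ = eval₂ (ZMod.castHom (dvd_refl 2) F) (g / σ g) R * c x σ := by
    intro R
    induction R using Polynomial.induction_on' with
    | add p r hp hr =>
      intro x
      obtain ⟨y, hy⟩ := hp x
      obtain ⟨y', hy'⟩ := hr x
      exact ⟨y * y', fun σ => by rw [hcmul, Pi.add_apply, hy, hy', eval₂_add, add_mul]⟩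
    | monomial n a =>
      intro x
      rcases (show ∀ a : ZMod 2, a = 0 ∨ a = 1 from by decide) a with rfl | rfl
      · exact ⟨1, fun σ => by rw [hc0 hP1]; simp⟩
      · exact ⟨φ^[n] x, fun σ => by rw [hcφk, eval₂_monomial, map_one, one_mul]⟩
  -- no weight of the identity
  have hone : ∀ x, c x (RingEquiv.refl F) = 0 := by
    intro x
    by_contra hx
    obtain ⟨R, hR⟩ : ∃ R : (ZMod 2)[X], eval₂ (ZMod.castHom (dvd_refl 2) F) 1 R = 1 ∧
        ∀ τ : F ≃+* F, τ ≠ RingEquiv.refl F →
          eval₂ (ZMod.castHom (dvd_refl 2) F) (g / τ g) R = 0 := by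
      refine ⟨1 + (X + 1) ^ (Fintype.card F - 1), ?_, fun τ hτ => ?_⟩
      · rw [eval₂_add, eval₂_pow, eval₂_add, eval₂_X, eval₂_one, h2, zero_pow, add_zero]
        omega
      · have hne : g / τ g + 1 ≠ 0 := by
          intro h
          rw [CharTwo.add_eq_zero, div_eq_one_iff_eq (hσg τ)] at h
          refine hτ (RingEquiv.ext fun a => ?_)
          rcases eq_or_ne a 0 with rfl | ha
          · simp
          obtain ⟨i, rfl⟩ := hgen a ha
          rw [map_pow, ← h]; rfl
        rw [eval₂_add, eval₂_pow, eval₂_add, eval₂_X, eval₂_one,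
          FiniteField.pow_card_sub_one_eq_one _ hne, h2]
    obtain ⟨y, hy⟩ := heval R x
    have hfx : L (φ^[1] y) = L y := hceq (funext fun σ => by
      rw [hcφk, pow_one]
      by_cases hσ : σ = RingEquiv.refl F
      · subst hσ; simp [hg0]
      · rw [hy, hR.2 σ hσ, zero_mul, mul_zero])
    have := congrFun (hc0 (hfix y 1 one_pos (by omega) hfx)) (RingEquiv.refl F)
    rw [hy, show (g / (RingEquiv.refl F) g) = 1 by simp [hg0], hR.1, one_mul] at this
    exact hx this
  -- projections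
  have hproj : ∀ σ x, ∃ y, c y = Pi.single σ (c x σ) := by
    intro σ x
    by_cases hσ : σ = RingEquiv.refl F
    · exact ⟨1, by rw [hc0 hP1, hσ, hone, Pi.single_zero]⟩
    obtain ⟨R, hR1, hR0⟩ := exists_weight_poly hg0 hgen hσ
    obtain ⟨y, hy⟩ := heval R x
    refine ⟨y, funext fun τ => ?_⟩
    by_cases hτσ : τ = σ
    · subst hτσ; rw [hy, hR1, one_mul, Pi.single_eq_same]
    rw [Pi.single_eq_of_ne hτσ]
    by_cases hτ : τ = RingEquiv.refl F
    · subst hτ; exact hone y
    rw [hy, hR0 τ hτ hτσ, zero_mul]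
  -- each weight space is everything
  let W : (F ≃+* F) → Set P := fun σ => {y | ∀ τ, τ ≠ σ → c y τ = 0}
  have hW : ∀ σ y, y ∈ W σ → ∀ z, L y z = c y σ * σ z := fun σ y hy z => by
    rw [hc, Finset.sum_eq_single σ (fun τ _ hτ => by rw [hy τ hτ, zero_mul]) (by simp)]
  have hfull : ∀ σ y, y ∈ W σ → c y σ ≠ 0 → ∀ f, ∃ x ∈ W σ, c x σ = f := by
    intro σ y hy hy0 f
    rcases eq_or_ne f 0 with rfl | hf
    · exact ⟨1, fun τ _ => by rw [hc0 hP1]; rfl, by rw [hc0 hP1]; rfl⟩
    obtain ⟨u, hu⟩ : ∃ u, u = g / σ g := ⟨_, rfl⟩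
    have hu0 : u ≠ 0 := by rw [hu]; exact div_ne_zero hg0 (hσg σ)
    have hord : orderOf u = Fintype.card F - 1 := by
      have hdvd : u ^ (Fintype.card F - 1) = 1 := FiniteField.pow_card_sub_one_eq_one _ hu0
      have hle := Nat.le_of_dvd (by omega) (orderOf_dvd_of_pow_eq_one hdvd)
      by_contra hne
      have hpos : 0 < orderOf u := orderOf_pos_iff.mpr (isOfFinOrder_iff_pow_eq_one.mpr ⟨_, by omega, hdvd⟩)
      have hfx : L (φ^[orderOf u] y) = L y := hceq (funext fun τ => by
        rw [hcφk]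
        by_cases hτ : τ = σ
        · subst hτ; rw [← hu, pow_orderOf_eq_one, one_mul]
        · rw [hy τ hτ, mul_zero])
      exact hy0 (congrFun (hc0 (hfix y _ hpos (by omega) hfx)) σ)
    have hsurj : ∃ i : ℕ, u ^ i = f / c y σ := by
      let pw : Fin (Fintype.card F - 1) → {a : F // a ≠ 0} := fun i => ⟨u ^ (i : ℕ), pow_ne_zero _ hu0⟩
      have hpw : Function.Injective pw := fun i j h =>
        Fin.ext (pow_injOn_Iio_orderOf (by simp [hord]) (by simp [hord]) (congrArg Subtype.val h))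
      have hb := ((Fintype.bijective_iff_injective_and_card pw).mpr ⟨hpw, by
        rw [Fintype.card_fin, Fintype.card_subtype_compl, Fintype.card_subtype_eq]⟩).2
      obtain ⟨i, hi⟩ := hb ⟨f / c y σ, div_ne_zero hf hy0⟩
      exact ⟨i, congrArg Subtype.val hi⟩
    obtain ⟨i, hi⟩ := hsurj
    refine ⟨φ^[i] y, fun τ hτ => by rw [hcφk, hy τ hτ, mul_zero], ?_⟩
    rw [hcφk, ← hu, hi, div_mul_cancel₀ _ hy0]
  have hq0 : ∀ σ y, y ∈ W σ → q y = 0 := by
    intro σ y hy
    by_cases h0 : c y σ = 0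
    · exact (hker y (hL0 (funext fun τ => by
        by_cases hτ : τ = σ
        · rw [hτ]; exact h0
        · exact hy τ hτ))).1
    · have := hLq y
      rw [hW σ y hy, mul_eq_zero] at this
      simpa [h0] using this
  have hWmul : ∀ σ a b, a ∈ W σ → b ∈ W σ → a * b ∈ W σ := fun σ a b ha hb τ hτ => by
    rw [hcmul, Pi.add_apply, ha τ hτ, hb τ hτ, add_zero]
  have hrel : ∀ σ τ a b, a ∈ W σ → b ∈ W τ →
      c a σ * σ (β a b) = c b τ * τ (β a b) := by
    intro σ τ a b ha hb
    have h := hLq (a * b)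
    rw [hβ, hq0 σ a ha, hq0 τ b hb, zero_add, zero_add, hL, AddMonoidHom.add_apply, hW σ a ha,
      hW τ b hb] at h
    exact CharTwo.add_eq_zero.mp h
  have hpair : ∀ σ τ a b, a ∈ W σ → b ∈ W τ → β a b = 0 := by
    intro σ τ a b ha hb
    by_contra hne
    have hz : ∀ {σ a}, a ∈ W σ → c a σ = 0 → L a = 0 := fun {σ a} ha h0 => hL0 (funext fun τ => by
      by_cases hτ : τ = σ
      · rw [hτ]; exact h0
      · exact ha τ hτ)
    have ha0 : c a σ ≠ 0 := fun h => hne ((hker a (hz ha h)).2 b).1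
    have hb0 : c b τ ≠ 0 := fun h => hne ((hker b (hz hb h)).2 a).2
    by_cases hστ : σ = τ
    · subst hστ
      apply hne
      have := hβ a b
      rwa [hq0 σ a ha, hq0 σ b hb, hq0 σ _ (hWmul σ a b ha hb), zero_add, zero_add, eq_comm] at this
    let Wσ : Submonoid P :=
      { carrier := W σ, one_mem' := fun τ _ => by rw [hc0 hP1]; rfl
        mul_mem' := fun {a b} => hWmul σ a b }
    let Wτ : Submonoid P :=
      { carrier := W τ, one_mem' := fun τ _ => by rw [hc0 hP1]; rfl
        mul_mem' := fun {a b} => hWmul τ a b }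
    have hginv : ∀ σ, ∀ a ∈ W σ, a⁻¹ ∈ W σ := fun σ a ha τ hτ => by
      have h1 := congrFun (hcmul a a⁻¹) τ
      rw [mul_inv_cancel, hc0 hP1, Pi.add_apply, ha τ hτ, zero_add] at h1
      exact h1.symm
    let Gσ : Subgroup P := { Wσ with inv_mem' := fun {a} ha => hginv σ a ha }
    let Gτ : Subgroup P := { Wτ with inv_mem' := fun {a} ha => hginv τ a ha }
    have e1 : ∀ w, τ w = σ w ^ 2 := pair_eq (P := Gσ) (fun x => β x.1 b) (fun x => c x.1 σ) (c b τ) hb0
      (fun x y => hβl x.1 y.1 b) (fun x y => congrFun (hcmul x.1 y.1) σ)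
      (fun f => by
        obtain ⟨x, hx, hxf⟩ := hfull σ a ha ha0 f
        exact ⟨⟨x, hx⟩, hxf⟩)
      (fun x h => ((hker x.1 (hz x.2 h)).2 b).1)
      (fun x => hrel σ τ x.1 b x.2 hb) (x₀ := ⟨a, ha⟩) hne
    have e2 : ∀ w, σ w = τ w ^ 2 := pair_eq (P := Gτ) (fun x => β a x.1) (fun x => c x.1 τ) (c a σ) ha0
      (fun x y => hβr a x.1 y.1) (fun x y => congrFun (hcmul x.1 y.1) τ)
      (fun f => by
        obtain ⟨x, hx, hxf⟩ := hfull τ b hb hb0 f
        exact ⟨⟨x, hx⟩, hxf⟩)
      (fun x h => ((hker x.1 (hz x.2 h)).2 a).2)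
      (fun x => (hrel σ τ a x.1 ha x.2).symm) (x₀ := ⟨b, hb⟩) hne
    have h4 : ∀ v : F, v ^ 4 = v := by
      intro v
      obtain ⟨w, rfl⟩ := σ.surjective v
      conv_rhs => rw [e2, e1]
      ring
    -- one of the two weights is then the identity
    have hb2 : ∀ v : F, v = 0 ∨ v = 1 ∨ σ v = v ∨ σ v = v ^ 2 := by
      intro v
      by_cases h0 : v = 0; · exact Or.inl h0
      by_cases h1 : v = 1; · exact Or.inr (Or.inl h1)
      have hq : v ^ 2 + v + 1 = 0 := by
        refine (mul_eq_zero.mp (?_ : v * (v - 1) * (v ^ 2 + v + 1) = 0)).resolve_left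
          (mul_ne_zero h0 (sub_ne_zero.mpr h1))
        linear_combination h4 v
      have hσq : σ v ^ 2 + σ v + 1 = 0 := by simpa using congrArg σ hq
      rcases mul_eq_zero.mp (show (σ v - v) * (σ v + v + 1) = 0 by linear_combination hσq - hq) with h | h
      · exact Or.inr (Or.inr (Or.inl (sub_eq_zero.mp h)))
      · refine Or.inr (Or.inr (Or.inr ?_))
        linear_combination h - hq
    obtain ⟨v, hv0, hv1⟩ : ∃ v : F, v ≠ 0 ∧ v ≠ 1 := by
      by_contra hh
      push Not at hh
      have : (Finset.univ : Finset F) ⊆ {0, 1} := fun v _ => by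
        by_cases h : v = 0 <;> simp [h, hh v]
      have := (Finset.card_le_card this).trans Finset.card_le_two
      rw [Finset.card_univ] at this
      omega
    have hgv : ∀ ν : F ≃+* F, ν v = v → ν = RingEquiv.refl F := by
      intro ν hν
      have hq : v ^ 2 + v + 1 = 0 := by
        refine (mul_eq_zero.mp (?_ : v * (v - 1) * (v ^ 2 + v + 1) = 0)).resolve_left
          (mul_ne_zero hv0 (sub_ne_zero.mpr hv1))
        linear_combination h4 v
      refine RingEquiv.ext fun u => ?_
      show ν u = u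
      by_cases h0 : u = 0; · simp [h0]
      by_cases h1 : u = 1; · simp [h1]
      have hu : u ^ 2 + u + 1 = 0 := by
        refine (mul_eq_zero.mp (?_ : u * (u - 1) * (u ^ 2 + u + 1) = 0)).resolve_left
          (mul_ne_zero h0 (sub_ne_zero.mpr h1))
        linear_combination h4 u
      rcases mul_eq_zero.mp (show (u - v) * (u + v + 1) = 0 by linear_combination hu - hq) with h | h
      · rw [sub_eq_zero.mp h, hν]
      · rw [show u = -v - 1 by linear_combination h]; simp [hν]
    rcases hb2 v with h | h | h | h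
    · exact hv0 h
    · exact hv1 h
    · exact ha0 (hgv σ h ▸ hone a)
    · exact hb0 (hgv τ (by rw [e1, h, ← pow_mul]; exact h4 v) ▸ hone b)
  -- assemble
  choose π hπ using hproj
  have hπW : ∀ σ x, π σ x ∈ W σ := fun σ x τ hτ => by rw [hπ, Pi.single_eq_of_ne hτ]
  have key : ∀ s : Finset (F ≃+* F), ∃ y, c y = ∑ σ ∈ s, Pi.single σ (c x σ) ∧ q y = 0 ∧
      ∀ τ, ∀ b ∈ W τ, β y b = 0 := by
    intro s
    induction s using Finset.induction with
    | empty =>
      refine ⟨1, by rw [hc0 hP1, Finset.sum_empty], (hker 1 hP1).1, fun τ b _ => ((hker 1 hP1).2 b).1⟩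
    | @insert σ s hσs ih =>
      obtain ⟨y, hy1, hy2, hy3⟩ := ih
      refine ⟨y * π σ x, ?_, ?_, fun τ b hb => ?_⟩
      · rw [hcmul, hy1, hπ, Finset.sum_insert hσs, add_comm]
      · rw [hβ, hy2, hq0 σ _ (hπW σ x), hy3 σ _ (hπW σ x), add_zero, add_zero]
      · rw [hβl, hy3 τ b hb, hpair σ τ _ b (hπW σ x) hb, add_zero]
  obtain ⟨y, hy1, hy2, -⟩ := key Finset.univ
  rw [Finset.univ_sum_single] at hy1
  have hd0 : L (x⁻¹ * y) = 0 := by
    have h1 := hL x (x⁻¹ * y)
    rw [mul_inv_cancel_left, hceq hy1] at h1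
    exact left_eq_add.mp h1
  have h1 := hβ x (x⁻¹ * y)
  rw [mul_inv_cancel_left, hy2, (hker _ hd0).1, ((hker _ hd0).2 x).2, add_zero, add_zero] at h1
  exact h1.symm

end Cfsg.Agent.RankOne
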