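import Mathlib

/-! Additive and quadratic maps of a finite field of characteristic two. -/

namespace Cfsg.Agent.RankOne

variable {F : Type*} [Field F] [Fintype F] [CharP F 2]

theorem li_ringEquiv : LinearIndependent F (fun σ : F ≃+* F => ((σ : F →+* F) : F → F)) := by
  have h := (linearIndependent_monoidHom F F).comp
    (fun σ : F ≃+* F => ((σ : F →+* F) : F →* F)) (fun a b h => RingEquiv.ext fun x =>
      DFunLike.congr_fun h x)
  exact h

theorem finite_ringEquiv : Finite (F ≃+* F) :=
  Finite.of_injective (fun σ => (σ : F → F)) DFunLike.coe_injective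

theorem eq_zero_of_sum [Fintype (F ≃+* F)] {c : (F ≃+* F) → F} (h : ∀ x, ∑ σ, c σ * σ x = 0) :
    c = 0 :=
  funext fun σ => Fintype.linearIndependent_iff.mp (li_ringEquiv (F := F)) c
    (funext fun x => by
      rw [Finset.sum_apply]
      simp only [Pi.smul_apply, smul_eq_mul, Pi.zero_apply, RingEquiv.coe_toRingHom]
      exact h x) σ

theorem eq_zero_of_sum₂ [Fintype (F ≃+* F)] {c : (F ≃+* F) × (F ≃+* F) → F}
    (h : ∀ x y, ∑ p, c p * (p.1 x * p.2 y) = 0) : c = 0 := by
  have h1 : ∀ x, (fun τ => ∑ σ, c (σ, τ) * σ x) = 0 := fun x => eq_zero_of_sum fun y => by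
    rw [← h x y, Fintype.sum_prod_type_right]
    exact Finset.sum_congr rfl fun τ _ => by
      rw [Finset.sum_mul]
      exact Finset.sum_congr rfl fun σ _ => mul_assoc _ _ _
  funext ⟨σ, τ⟩
  exact congrFun (eq_zero_of_sum (c := fun σ => c (σ, τ)) fun x => congrFun (h1 x) τ) σ

theorem exists_coeff [Fintype (F ≃+* F)] (f : F →+ F) :
    ∃ c : (F ≃+* F) → F, ∀ x, f x = ∑ σ, c σ * σ x := by
  classical
  letI : Algebra (ZMod 2) F := ZMod.algebra F 2
  let lin : (F →+ F) → (F →ₗ[ZMod 2] F) := fun g => g.toZModLinearMap 2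
  let toA : (F ≃+* F) → (F →ₐ[ZMod 2] F) := fun σ =>
    { (σ : F →+* F) with
      commutes' := fun r => DFunLike.congr_fun (RingHom.ext_zmod
        ((σ : F →+* F).comp (algebraMap (ZMod 2) F)) (algebraMap (ZMod 2) F)) r }
  have hli : LinearIndependent F (fun σ : F ≃+* F => (toA σ).toLinearMap) :=
    (linearIndependent_toLinearMap (ZMod 2) F F).comp toA
      (fun a b h => RingEquiv.ext fun x => DFunLike.congr_fun h x)
  have hbij : Function.Bijective toA := by
    refine ⟨fun a b h => RingEquiv.ext fun x => DFunLike.congr_fun h x, fun φ => ?_⟩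
    exact ⟨RingEquiv.ofBijective φ.toRingHom (Finite.injective_iff_bijective.mp φ.toRingHom.injective),
      AlgHom.ext fun x => rfl⟩
  have hcard : Fintype.card (F ≃+* F) = Module.finrank F (F →ₗ[ZMod 2] F) := by
    rw [Module.finrank_linearMap_self, ← IsGalois.card_aut_eq_finrank, ← Nat.card_eq_fintype_card]
    exact Nat.card_congr ((Equiv.ofBijective toA hbij).trans
      (algEquivEquivAlgHom (ZMod 2) F).toEquiv.symm)
  haveI : Nonempty (F ≃+* F) := ⟨RingEquiv.refl F⟩
  have hspan := hli.span_eq_top_of_card_eq_finrank hcard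
  have hf : lin f ∈ Submodule.span F (Set.range fun σ : F ≃+* F => (toA σ).toLinearMap) :=
    hspan ▸ Submodule.mem_top
  obtain ⟨c, hc⟩ := Submodule.mem_span_range_iff_exists_fun F |>.mp hf
  refine ⟨c, fun x => ?_⟩
  have := DFunLike.congr_fun hc x
  simp only [LinearMap.sum_apply, LinearMap.smul_apply, smul_eq_mul] at this
  exact this.symm

theorem exists_coeff₂ [Fintype (F ≃+* F)] (B : F →+ F →+ F) :
    ∃ c : (F ≃+* F) × (F ≃+* F) → F, ∀ x y, B x y = ∑ p, c p * (p.1 x * p.2 y) := by
  choose r hr using fun x => exists_coeff (B x)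
  have hadd : ∀ x x', r (x + x') = r x + r x' := fun x x' => by
    refine sub_eq_zero.mp (eq_zero_of_sum fun y => ?_)
    simp only [Pi.sub_apply, Pi.add_apply, sub_mul, add_mul, Finset.sum_sub_distrib,
      Finset.sum_add_distrib, ← hr]
    simp
  choose d hd using fun τ : F ≃+* F => exists_coeff (AddMonoidHom.mk' (fun x => r x τ)
    fun x x' => congrFun (hadd x x') τ)
  refine ⟨fun p => d p.2 p.1, fun x y => ?_⟩
  rw [hr x y, Fintype.sum_prod_type_right]
  refine Finset.sum_congr rfl fun τ _ => ?_
  rw [show r x τ = ∑ σ, d τ σ * σ x from hd τ x, Finset.sum_mul]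
  exact Finset.sum_congr rfl fun σ _ => mul_assoc _ _ _

/-- A quadratic map is a combination of products of two automorphisms. -/
theorem exists_coeff_quad [Fintype (F ≃+* F)] {q : F → F}
    (hq : ∀ x y z : F, q (x + y + z) + q (x + y) + q (x + z) + q (y + z) + q x + q y + q z = 0) :
    ∃ c : (F ≃+* F) × (F ≃+* F) → F, ∀ x, q x = ∑ p, c p * (p.1 x * p.2 x) := by
  classical
  have h2 : ∀ a : F, a + a = 0 := CharTwo.add_self_eq_zero
  have hq0 : q 0 = 0 := by
    have := hq 0 0 0
    simp only [add_zero, h2, zero_add] at this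
    exact this
  let B : F →+ F →+ F := AddMonoidHom.mk' (fun x => AddMonoidHom.mk'
    (fun y => q (x + y) + q x + q y) (fun y z => by
      rw [← sub_eq_zero]
      have := hq x y z
      simp only [CharTwo.sub_eq_add, ← add_assoc]
      linear_combination this + h2 (q x))) (fun x x' => AddMonoidHom.ext fun y => by
      show q (x + x' + y) + q (x + x') + q y = q (x + y) + q x + q y + (q (x' + y) + q x' + q y)
      rw [← sub_eq_zero]
      have := hq x x' y
      simp only [CharTwo.sub_eq_add, ← add_assoc]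
      linear_combination this + h2 (q y))
  obtain ⟨c, hc⟩ := exists_coeff₂ B
  have hsym : ∀ p, c p.swap = c p := by
    intro p
    have : (fun p => c p.swap - c p) = 0 := eq_zero_of_sum₂ fun x y => by
      simp only [sub_mul, Finset.sum_sub_distrib, ← hc]
      rw [Fintype.sum_equiv (Equiv.prodComm _ _) (fun p => c p.swap * (p.1 x * p.2 y))
        (fun p => c p * (p.1 y * p.2 x)) (fun p => by
          simp only [Equiv.prodComm_apply, Prod.fst_swap, Prod.snd_swap]
          ring), ← hc]
      show q (y + x) + q y + q x - (q (x + y) + q x + q y) = 0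
      rw [add_comm y x]; ring
    exact sub_eq_zero.mp (congrFun this p)
  have hdiag : ∀ σ, c (σ, σ) = 0 := by
    intro σ
    refine congrFun (eq_zero_of_sum (c := fun σ => c (σ, σ)) fun z => ?_) σ
    obtain ⟨x, rfl⟩ := Finite.injective_iff_surjective.mp (frobenius_inj F 2) z
    have h0 : ∑ p, c p * (p.1 x * p.2 x) = 0 := by
      rw [← hc]
      show q (x + x) + q x + q x = 0
      rw [h2, hq0, zero_add, h2]
    rw [← Finset.sum_filter_add_sum_filter_not Finset.univ (fun p : (F ≃+* F) × (F ≃+* F) => p.1 = p.2)] at h0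
    rw [show ∑ p ∈ Finset.univ.filter (fun p : (F ≃+* F) × (F ≃+* F) => ¬ p.1 = p.2),
        c p * (p.1 x * p.2 x) = 0 from ?_, add_zero] at h0
    · rw [← h0]
      refine Finset.sum_bij (fun σ _ => (σ, σ)) (fun σ _ => by simp) (fun a _ b _ e => (Prod.ext_iff.mp e).1)
        (fun p hp => ⟨p.1, Finset.mem_univ _, Prod.ext rfl (Finset.mem_filter.mp hp).2⟩) fun σ _ => ?_
      simp [frobenius_def, sq]
    · refine Finset.sum_involution (fun p _ => p.swap) (fun p _ => ?_) (fun p hp _ e => ?_)
        (fun p hp => ?_) (fun p _ => Prod.swap_swap p)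
      · rw [hsym, Prod.fst_swap, Prod.snd_swap, mul_comm (p.2 x)]
        exact h2 _
      · exact (Finset.mem_filter.mp hp).2 (Prod.ext_iff.mp e).2
      · simp only [Finset.mem_filter, Finset.mem_univ, true_and, Prod.fst_swap, Prod.snd_swap] at hp ⊢
        exact fun h => hp h.symm
  let e := Fintype.equivFin (F ≃+* F)
  let l : (F ≃+* F) × (F ≃+* F) → F := fun p => if e p.1 < e p.2 then c p else 0
  have hl : ∀ p, c p = l p + l p.swap := by
    intro p
    simp only [l, Prod.fst_swap, Prod.snd_swap, hsym]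
    rcases lt_trichotomy (e p.1) (e p.2) with h | h | h
    · simp [h, h.not_gt]
    · obtain ⟨σ, τ⟩ := p
      cases e.injective h
      simp [hdiag]
    · simp [h, h.not_gt]
  let f : F →+ F := AddMonoidHom.mk' (fun x => q x + ∑ p, l p * (p.1 x * p.2 x)) fun x y => by
    have hB : q (x + y) + q x + q y = ∑ p, l p * (p.1 x * p.2 y) + ∑ p, l p * (p.1 y * p.2 x) := by
      rw [show q (x + y) + q x + q y = B x y from rfl, hc, Finset.sum_congr rfl fun p _ => by
        rw [hl p, add_mul], Finset.sum_add_distrib]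
      congr 1
      exact Fintype.sum_equiv (Equiv.prodComm _ _) _ _ fun p => by
        simp only [Equiv.prodComm_apply, Prod.fst_swap, Prod.snd_swap]; ring
    simp only [map_add, add_mul, mul_add, Finset.sum_add_distrib]
    linear_combination hB + h2 (∑ p, l p * (p.1 x * p.2 y)) + h2 (∑ p, l p * (p.1 y * p.2 x)) -
      h2 (q x) - h2 (q y)
  obtain ⟨d, hd⟩ := exists_coeff f
  let s : F ≃+* F := frobeniusEquiv F 2
  let D : (F ≃+* F) × (F ≃+* F) → F := fun p => if p.1 = p.2 then d (s.trans p.1) else 0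
  refine ⟨fun p => l p + D p, fun x => ?_⟩
  simp only [add_mul, Finset.sum_add_distrib]
  have hD : ∑ p, D p * (p.1 x * p.2 x) = f x := by
    rw [hd x, Fintype.sum_prod_type]
    refine Fintype.sum_bijective (fun σ => s.trans σ)
      ⟨fun a b h => RingEquiv.ext fun y => by
        obtain ⟨z, rfl⟩ := s.surjective y
        exact DFunLike.congr_fun h z, fun b => ⟨s.symm.trans b, RingEquiv.ext fun y => by simp⟩⟩ _ _ fun σ => ?_
    rw [Finset.sum_eq_single σ (fun b _ hb => by simp [D, Ne.symm hb]) (by simp)]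
    simp [D, s, frobenius_def, sq]
  rw [hD]
  show q x = _ + (q x + _)
  linear_combination -h2 (∑ p, l p * (p.1 x * p.2 x))

end Cfsg.Agent.RankOne
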