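import Cfsg.Prelude.Def_LieRecognition
import Mathlib

/-! Higman: in a Suzuki 2-group the centre consists of the involutions. -/
set_option linter.style.haveILetI false

namespace Cfsg.Agent.RankOne.Higman

universe u

variable {P : Type u} [Group P]

/-- The data of a Suzuki 2-group. -/
structure SuzData (K : Subgroup (MulAut P)) : Prop where
  fin : Finite P
  pgroup : IsPGroup 2 P
  nonabelian : ∃ x y : P, x * y ≠ y * x
  two : ∃ x y : P, x ≠ y ∧ x ≠ 1 ∧ x * x = 1 ∧ y ≠ 1 ∧ y * y = 1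
  cyclic : IsCyclic K
  reg : ∀ x y : P, x ≠ 1 → x * x = 1 → y ≠ 1 → y * y = 1 → ∃! k : K, (k : MulAut P) x = y

variable {K : Subgroup (MulAut P)}

theorem pow_four_eq (a : P) : a ^ 4 = a * a * (a * a) := by
  rw [show (4 : ℕ) = 2 + 2 from rfl, pow_add, sq]

/-- `S` is stable under `K`. -/
def Stable (K : Subgroup (MulAut P)) (S : Subgroup P) : Prop :=
  ∀ k : K, ∀ x ∈ S, (k : MulAut P) x ∈ S

section

variable (hK : SuzData K)
include hK

theorem inv_central {x : P} (hx : x * x = 1) : x ∈ Subgroup.center P := by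
  by_cases hx1 : x = 1
  · subst hx1; exact one_mem _
  haveI := hK.fin
  haveI : Nontrivial P := ⟨x, 1, hx1⟩
  haveI : Fact (Nat.Prime 2) := ⟨Nat.prime_two⟩
  haveI : Nontrivial (Subgroup.center P) := hK.pgroup.center_nontrivial
  obtain ⟨n, hn, hc⟩ := (hK.pgroup.to_subgroup (Subgroup.center P)).nontrivial_iff_card.mp inferInstance
  obtain ⟨z, hz⟩ := exists_prime_orderOf_dvd_card' (G := Subgroup.center P) 2
    (hc ▸ dvd_pow_self 2 (Nat.pos_iff_ne_zero.mp hn))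
  have hz1 : (z : P) ≠ 1 := fun e => by
    rw [Subtype.ext (a1 := z) (a2 := 1) e, orderOf_one] at hz
    exact absurd hz (by norm_num)
  have hz2 : (z : P) * z = 1 := by
    have := pow_orderOf_eq_one z
    rw [hz, sq] at this
    exact congrArg Subtype.val this
  obtain ⟨k, hk, -⟩ := hK.reg z x hz1 hz2 hx1 hx
  rw [Subgroup.mem_center_iff]
  intro g
  obtain ⟨g', rfl⟩ := (k : MulAut P).surjective g
  rw [← hk, ← map_mul, ← map_mul, Subgroup.mem_center_iff.mp z.2 g']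

theorem inv_comm {x : P} (hx : x * x = 1) (g : P) : g * x = x * g :=
  Subgroup.mem_center_iff.mp (inv_central hK hx) g

theorem sq_one_mul {x y : P} (hx : x * x = 1) (hy : y * y = 1) : x * y * (x * y) = 1 := by
  calc x * y * (x * y) = x * (y * x) * y := by group
    _ = (x * x) * (y * y) := by rw [inv_comm hK hx y]; group
    _ = 1 := by rw [hx, hy, one_mul]

theorem K_comm (k l : K) (x : P) : (k : MulAut P) ((l : MulAut P) x) = (l : MulAut P) ((k : MulAut P) x) := by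
  haveI := hK.cyclic
  have h : k * l = l * k := (IsCyclic.commGroup (α := K)).mul_comm k l
  have := congrArg (fun m : K => (m : MulAut P) x) h
  simpa using this

theorem K_fix {k : K} {x : P} (hx1 : x ≠ 1) (hx : x * x = 1) (h : (k : MulAut P) x = x) : k = 1 :=
  (hK.reg x x hx1 hx hx1 hx).unique h (by simp)

theorem K_eq_one_of_sq {u : K} (hu : u * u = 1) : u = 1 := by
  obtain ⟨x, -, -, hx1, hx, -, -⟩ := hK.two
  by_contra hne
  have hux : (u : MulAut P) x ≠ x := fun e => hne (K_fix hK hx1 hx e)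
  have hux2 : (u : MulAut P) x * (u : MulAut P) x = 1 := by rw [← map_mul, hx, map_one]
  have huu : (u : MulAut P) ((u : MulAut P) x) = x := by
    have := congrArg (fun m : K => (m : MulAut P) x) hu
    simpa using this
  refine hne (K_fix hK (x := x * (u : MulAut P) x) ?_ (sq_one_mul hK hx hux2) ?_)
  · intro e
    rw [mul_eq_one_iff_eq_inv] at e
    exact hux ((inv_injective (e.symm.trans (eq_inv_of_mul_eq_one_left hx))))
  · rw [map_mul, huu, inv_comm hK hx]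

theorem K_sqrt (k : K) : ∃ s : K, s * s = k := by
  haveI := hK.fin
  haveI := hK.cyclic
  haveI : Finite (MulAut P) := Finite.of_injective _ (DFunLike.coe_injective (F := MulAut P))
  have hinj : Function.Injective fun s : K => s * s := by
    intro s t h
    have h' : s * s = t * t := h
    refine mul_inv_eq_one.mp (K_eq_one_of_sq hK ?_)
    rw [show s * t⁻¹ * (s * t⁻¹) = s * (t⁻¹ * s) * t⁻¹ by group,
      (IsCyclic.commGroup (α := K)).mul_comm t⁻¹ s, show s * (s * t⁻¹) * t⁻¹ = (s * s) * (t * t)⁻¹ by group,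
      h', mul_inv_cancel]
  exact Finite.injective_iff_surjective.mp hinj k

/-- An alternating equivariant biadditive map with values in the involutions is trivial. -/
theorem beta_trivial {M A : Subgroup P} (hMK : Stable K M) (T : P → P) (B : P → P → P)
    (hTmul : ∀ x ∈ M, ∀ y ∈ M, T (x * y) = T x * T y) (hTsq : ∀ x ∈ M, T x * T x = 1)
    (hTker : ∀ x ∈ M, T x = 1 → x ∈ A)
    (hTeq : ∀ (k : K) (x : P), x ∈ M → T ((k : MulAut P) x) = (k : MulAut P) (T x))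
    (hBl : ∀ x ∈ M, ∀ x' ∈ M, ∀ y ∈ M, B (x * x') y = B x y * B x' y)
    (hBr : ∀ x ∈ M, ∀ y ∈ M, ∀ y' ∈ M, B x (y * y') = B x y * B x y')
    (hBAl : ∀ a ∈ A, ∀ y ∈ M, B a y = 1) (hBAr : ∀ x ∈ M, ∀ a ∈ A, B x a = 1)
    (hBsq : ∀ x ∈ M, ∀ y ∈ M, B x y * B x y = 1)
    (hBeq : ∀ (k : K) (x y : P), x ∈ M → y ∈ M →
      B ((k : MulAut P) x) ((k : MulAut P) y) = (k : MulAut P) (B x y))
    (hBself : ∀ x ∈ M, B x x = 1) {x y : P} (hx : x ∈ M) (hy : y ∈ M) : B x y = 1 := by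
  have hT1 : T 1 = 1 := by
    have := hTmul 1 M.one_mem 1 M.one_mem
    rwa [one_mul, left_eq_mul] at this
  have hdiff : ∀ p ∈ M, ∀ q ∈ M, T p = T q → ∃ a ∈ A, a ∈ M ∧ p = a * q := by
    intro p hp q hq e
    refine ⟨p * q⁻¹, hTker _ (mul_mem hp (inv_mem hq)) ?_, mul_mem hp (inv_mem hq), by group⟩
    have h1 := hTmul (p * q⁻¹) (mul_mem hp (inv_mem hq)) q hq
    rw [inv_mul_cancel_right, e, right_eq_mul] at h1
    exact h1
  by_cases hxA : x ∈ A
  · exact hBAl x hxA y hy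
  by_cases hyA : y ∈ A
  · exact hBAr x hx y hyA
  have hu1 : T x ≠ 1 := fun e => hxA (hTker x hx e)
  have key : ∀ s : K, B x ((s : MulAut P) ((s : MulAut P) x)) = 1 := by
    intro s
    by_cases hs : s = 1
    · simp [hs, hBself x hx]
    obtain ⟨u, hu⟩ : ∃ u, u = T x := ⟨_, rfl⟩
    rw [← hu] at hu1
    have hu2 : u * u = 1 := hu ▸ hTsq x hx
    have hsu2 : (s : MulAut P) u * (s : MulAut P) u = 1 := by rw [← map_mul, hu2, map_one]
    have hw1 : u * (s : MulAut P) u ≠ 1 := by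
      intro e
      rw [mul_eq_one_iff_eq_inv, inv_eq_of_mul_eq_one_right hsu2] at e
      exact hs (K_fix hK hu1 hu2 e.symm)
    obtain ⟨t, ht, -⟩ := hK.reg u _ hu1 hu2 hw1 (sq_one_mul hK hu2 hsu2)
    have htv : ∀ v : P, v * v = 1 → (t : MulAut P) v = v * (s : MulAut P) v := by
      intro v hv
      by_cases hv1 : v = 1
      · simp [hv1]
      obtain ⟨l, hl, -⟩ := hK.reg u v hu1 hu2 hv1 hv
      rw [← hl, K_comm hK t l, ht, map_mul, K_comm hK l s]
    have hsx := hMK s x hx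
    have hssx := hMK s _ hsx
    have h12 : x * (s : MulAut P) x ∈ M := mul_mem hx hsx
    have h23 : (s : MulAut P) x * (s : MulAut P) ((s : MulAut P) x) ∈ M := mul_mem hsx hssx
    obtain ⟨a, haA, haM, ha⟩ := hdiff _ (hMK t x hx) _ h12 (by
      rw [hTeq t x hx, hTmul x hx _ hsx, hTeq s x hx, ← hu, ht])
    obtain ⟨a', haA', haM', ha'⟩ := hdiff _ (hMK t _ hsx) _ h23 (by
      rw [hTeq t _ hsx, hTeq s x hx, hTmul _ hsx _ hssx, hTeq s _ hsx, hTeq s x hx, ← hu,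
        htv _ hsu2])
    have h1 := hBeq t x _ hx hsx
    rw [ha, ha', hBl a haM _ h12 _ (mul_mem haM' h23), hBAl a haA _ (mul_mem haM' h23), one_mul,
      hBr _ h12 a' haM' _ h23, hBAr _ h12 a' haA', one_mul, hBl x hx _ hsx _ h23,
      hBr x hx _ hsx _ hssx, hBr _ hsx _ hsx _ hssx, hBself _ hsx, one_mul,
      htv _ (hBsq x hx _ hsx), hBeq s x _ hx hsx] at h1
    have h2 := mul_right_cancel h1
    exact mul_left_cancel (h2.trans (mul_one _).symm)
  obtain ⟨k, hk, -⟩ := hK.reg (T x) (T y) hu1 (hTsq x hx) (fun e => hyA (hTker y hy e)) (hTsq y hy)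
  obtain ⟨a, haA, haM, ha⟩ := hdiff y hy _ (hMK k x hx) (by rw [hTeq k x hx, hk])
  rw [ha, hBr x hx a haM _ (hMK k x hx), hBAr x hx a haA, one_mul]
  obtain ⟨s, rfl⟩ := K_sqrt hK k
  simpa using key s

end

/-- Elements of `C` of order two modulo `A` and central modulo `A`. -/
def aboveSub (A C : Subgroup P) [hA : A.Normal] : Subgroup P where
  carrier := {y | y ∈ C ∧ y * y ∈ A ∧ ∀ x : P, y * x * y⁻¹ * x⁻¹ ∈ A}
  one_mem' := ⟨one_mem C, by simp, fun x => by simp⟩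
  mul_mem' := by
    rintro y z ⟨hy, hy2, hyc⟩ ⟨hz, hz2, hzc⟩
    refine ⟨mul_mem hy hz, ?_, fun x => ?_⟩
    · have e : y * z * (y * z) = y * (z * y * z⁻¹ * y⁻¹) * y⁻¹ * (y * y) * (z * z) := by group
      rw [e]
      exact mul_mem (mul_mem (hA.conj_mem _ (hzc y) y) hy2) hz2
    · have e : y * z * x * (y * z)⁻¹ * x⁻¹ =
          y * (z * x * z⁻¹ * x⁻¹) * y⁻¹ * (y * x * y⁻¹ * x⁻¹) := by group
      rw [e]
      exact mul_mem (hA.conj_mem _ (hzc x) y) (hyc x)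
  inv_mem' := by
    rintro y ⟨hy, hy2, hyc⟩
    refine ⟨inv_mem hy, ?_, fun x => ?_⟩
    · have := inv_mem hy2
      rwa [mul_inv_rev] at this
    · have e : y⁻¹ * x * y⁻¹⁻¹ * x⁻¹ = y⁻¹ * (y * x * y⁻¹ * x⁻¹)⁻¹ * y⁻¹⁻¹ := by group
      rw [e]
      exact hA.conj_mem _ (inv_mem (hyc x)) _

theorem mem_aboveSub {A C : Subgroup P} [A.Normal] {y : P} :
    y ∈ aboveSub A C ↔ y ∈ C ∧ y * y ∈ A ∧ ∀ x : P, y * x * y⁻¹ * x⁻¹ ∈ A := Iff.rfl

theorem aboveSub_stable {A C : Subgroup P} [A.Normal] (hA : Stable K A) (hC : Stable K C) :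
    Stable K (aboveSub A C) := by
  rintro k y ⟨hy, hy2, hyc⟩
  refine ⟨hC k y hy, ?_, fun x => ?_⟩
  · rw [← map_mul]; exact hA k _ hy2
  · obtain ⟨x', rfl⟩ := (k : MulAut P).surjective x
    rw [← map_inv, ← map_inv, ← map_mul, ← map_mul, ← map_mul]
    exact hA k _ (hyc x')

theorem aboveSub_normal {A C : Subgroup P} [hA : A.Normal] [hC : C.Normal] :
    (aboveSub A C).Normal := by
  refine ⟨?_⟩
  rintro y ⟨hy, hy2, hyc⟩ g
  refine ⟨hC.conj_mem y hy g, ?_, fun x => ?_⟩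
  · rw [show g * y * g⁻¹ * (g * y * g⁻¹) = g * (y * y) * g⁻¹ by group]
    exact hA.conj_mem _ hy2 g
  · rw [show g * y * g⁻¹ * x * (g * y * g⁻¹)⁻¹ * x⁻¹ =
      g * (y * (g⁻¹ * x * g) * y⁻¹ * (g⁻¹ * x * g)⁻¹) * g⁻¹ by group]
    exact hA.conj_mem _ (hyc _) g

theorem le_aboveSub {A C : Subgroup P} [hA : A.Normal] (h : A ≤ C) : A ≤ aboveSub A C := by
  intro a ha
  refine ⟨h ha, mul_mem ha ha, fun x => ?_⟩
  rw [show a * x * a⁻¹ * x⁻¹ = a * (x * a⁻¹ * x⁻¹) by group]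
  exact mul_mem ha (hA.conj_mem _ (inv_mem ha) x)

theorem exists_above [Finite P] (hp : IsPGroup 2 P) {A C : Subgroup P} [hA : A.Normal] [hC : C.Normal]
    (hne : ¬ C ≤ A) : ∃ y ∈ aboveSub A C, y ∉ A := by
  haveI : Fact (Nat.Prime 2) := ⟨Nat.prime_two⟩
  obtain ⟨N, hN⟩ := (Subgroup.nilpotent_iff_lowerCentralSeries (G := P)).mp hp.isNilpotent
  have hex : ∃ y ∈ C, y ∉ A ∧ ∀ x : P, y * x * y⁻¹ * x⁻¹ ∈ A := by
    obtain ⟨c, hc, hcA⟩ := SetLike.not_le_iff_exists.mp hne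
    by_contra hh
    push Not at hh
    have : ∀ k : ℕ, ∃ y ∈ C, y ∉ A ∧ y ∈ (⊤ : Subgroup P).lowerCentralSeries k := by
      intro k
      induction k with
      | zero => exact ⟨c, hc, hcA, trivial⟩
      | succ k ih =>
        obtain ⟨y, hy, hyA, hyk⟩ := ih
        obtain ⟨x, hx⟩ := hh y hy hyA
        refine ⟨_, ?_, hx, ?_⟩
        · rw [show y * x * y⁻¹ * x⁻¹ = y * (x * y⁻¹ * x⁻¹) by group]
          exact mul_mem hy (hC.conj_mem _ (inv_mem hy) x)
        · rw [Subgroup.lowerCentralSeries_succ]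
          exact Subgroup.commutator_mem_commutator hyk (Subgroup.mem_top x)
    obtain ⟨y, -, hyA, hyN⟩ := this N
    rw [hN, Subgroup.mem_bot] at hyN
    exact hyA (hyN ▸ one_mem A)
  obtain ⟨y, hy, hyA, hyc⟩ := hex
  let S : Subgroup P :=
    { carrier := {z | ∀ x : P, z * x * z⁻¹ * x⁻¹ ∈ A}
      one_mem' := fun x => by simp
      mul_mem' := fun {a b} ha hb x => by
        rw [show a * b * x * (a * b)⁻¹ * x⁻¹ = a * (b * x * b⁻¹ * x⁻¹) * a⁻¹ * (a * x * a⁻¹ * x⁻¹) by group]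
        exact mul_mem (hA.conj_mem _ (hb x) a) (ha x)
      inv_mem' := fun {a} ha x => by
        rw [show a⁻¹ * x * a⁻¹⁻¹ * x⁻¹ = a⁻¹ * (a * x * a⁻¹ * x⁻¹)⁻¹ * a⁻¹⁻¹ by group]
        exact hA.conj_mem _ (inv_mem (ha x)) _ }
  obtain ⟨k, hk⟩ := hp y
  have hex2 : ∀ m : ℕ, ∀ z ∈ C, z ∈ S → z ∉ A → z ^ 2 ^ m = 1 → ∃ w ∈ aboveSub A C, w ∉ A := by
    intro m
    induction m with
    | zero =>
      intro z _ _ hzA hz
      rw [pow_zero, pow_one] at hz
      exact absurd (hz ▸ one_mem A) hzA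
    | succ m ih =>
      intro z hzC hzS hzA hz
      by_cases h2 : z * z ∈ A
      · exact ⟨z, ⟨hzC, h2, hzS⟩, hzA⟩
      · refine ih (z * z) (mul_mem hzC hzC) (mul_mem hzS hzS) h2 ?_
        rw [← sq, ← pow_mul, ← pow_succ']
        exact hz
  exact hex2 k y hy hyc hyA hk

section

variable (hK : SuzData K)
include hK

/-- A maximal abelian normal stable subgroup cannot exist when the centre has exponent above two. -/
theorem center_sq {z : P} (hz : z ∈ Subgroup.center P) : z * z = 1 := by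
  by_contra hz2
  haveI := hK.fin
  haveI : Fact (Nat.Prime 2) := ⟨Nat.prime_two⟩
  -- every involution is the square of a central element
  have hroot : ∀ x : P, x * x = 1 → ∃ c ∈ Subgroup.center P, c * c = x := by
    intro x hx
    by_cases hx1 : x = 1
    · exact ⟨1, one_mem _, by rw [hx1, one_mul]⟩
    obtain ⟨m, hm⟩ := hK.pgroup z
    have : ∀ j : ℕ, ∀ w ∈ Subgroup.center P, w * w ≠ 1 → w ^ 2 ^ j = 1 →
        ∃ c ∈ Subgroup.center P, c * c ≠ 1 ∧ c * c * (c * c) = 1 := by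
      intro j
      induction j with
      | zero =>
        intro w _ hw h
        rw [pow_zero, pow_one] at h
        exact absurd (by rw [h, one_mul]) hw
      | succ j ih =>
        intro w hwc hw h
        by_cases h4 : w * w * (w * w) = 1
        · exact ⟨w, hwc, hw, h4⟩
        · exact ih (w * w) (mul_mem hwc hwc) h4 (by rw [← sq, ← pow_mul, ← pow_succ']; exact h)
    obtain ⟨c, hc, hc1, hc2⟩ := this m z hz hz2 hm
    obtain ⟨k, hk, -⟩ := hK.reg _ x hc1 hc2 hx1 hx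
    refine ⟨(k : MulAut P) c, ?_, by rw [← map_mul, hk]⟩
    rw [Subgroup.mem_center_iff]
    intro g
    obtain ⟨g', rfl⟩ := (k : MulAut P).surjective g
    rw [← map_mul, ← map_mul, Subgroup.mem_center_iff.mp hc g']
  -- choose `A`
  let p : Subgroup P → Prop := fun S => S.Normal ∧ Stable K S ∧ Subgroup.center P ≤ S ∧
    ∀ a ∈ S, ∀ b ∈ S, a * b = b * a
  have hpc : p (Subgroup.center P) := ⟨inferInstance, fun k x hx => by
    rw [Subgroup.mem_center_iff]
    intro g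
    obtain ⟨g', rfl⟩ := (k : MulAut P).surjective g
    rw [← map_mul, ← map_mul, Subgroup.mem_center_iff.mp hx g'], le_refl _,
    fun a _ b hb => Subgroup.mem_center_iff.mp hb a⟩
  obtain ⟨A, -, ⟨hAn, hAK, hZA, hAc⟩, hmax⟩ := Finite.exists_le_maximal hpc
  haveI := hAn
  have hcA : ∀ {a b : P}, a ∈ A → b ∈ A → Commute a b := fun ha hb => hAc _ ha _ hb
  have hinvA : ∀ x : P, x * x = 1 → x ∈ A := fun x hx => hZA (inv_central hK hx)
  -- exponent of `A`
  have hex : ∃ e : ℕ, ∀ a ∈ A, a ^ 2 ^ e = 1 := by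
    obtain ⟨n, hn⟩ := IsPGroup.iff_card.mp hK.pgroup
    exact ⟨n, fun a _ => by rw [← hn, pow_card_eq_one']⟩
  classical
  obtain ⟨e, he, hemin⟩ : ∃ e, (∀ a ∈ A, a ^ 2 ^ e = 1) ∧ ∀ j < e, ¬ ∀ a ∈ A, a ^ 2 ^ j = 1 :=
    ⟨Nat.find hex, Nat.find_spec hex, fun j hj => Nat.find_min hex hj⟩
  obtain ⟨x₀, -, -, hx₀1, hx₀, -, -⟩ := hK.two
  have he2 : 2 ≤ e := by
    obtain ⟨c, hc, hcc⟩ := hroot x₀ hx₀
    by_contra h
    interval_cases e
    · exact hx₀1 (by simpa using he x₀ (hinvA x₀ hx₀))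
    · exact hx₀1 (hcc ▸ by simpa [sq] using he c (hZA hc))
  obtain ⟨e, rfl⟩ : ∃ e', e = e' + 2 := ⟨e - 2, by omega⟩
  have hpow1 : ∀ (a : P) (i j : ℕ), i ≤ j → a ^ 2 ^ i = 1 → a ^ 2 ^ j = 1 := by
    intro a i j hij ha
    obtain ⟨d, rfl⟩ := Nat.exists_eq_add_of_le hij
    rw [pow_add, pow_mul, ha, one_pow]
  have hroots : ∀ x : P, x * x = 1 → ∃ a ∈ A, a ^ 2 ^ (e + 1) = x := by
    intro x hx
    by_cases hx1 : x = 1
    · exact ⟨1, one_mem A, by rw [hx1, one_pow]⟩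
    obtain ⟨a, ha, hne⟩ : ∃ a ∈ A, a ^ 2 ^ (e + 1) ≠ 1 := by
      by_contra hh
      push Not at hh
      exact hemin (e + 1) (by omega) hh
    have hsq : a ^ 2 ^ (e + 1) * a ^ 2 ^ (e + 1) = 1 := by
      rw [← pow_add, ← two_mul, ← pow_succ']; exact he a ha
    obtain ⟨k, hk, -⟩ := hK.reg _ x hne hsq hx1 hx
    exact ⟨(k : MulAut P) a, hAK k a ha, by rw [← map_pow, hk]⟩
  have hmemsq : ∀ j < e + 2, ∀ a ∈ A, a ^ 2 ^ j = 1 → ∃ b ∈ A, b * b = a := by
    intro j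
    induction j with
    | zero => intro _ a _ h; exact ⟨1, one_mem A, by rw [pow_zero, pow_one] at h; rw [h, one_mul]⟩
    | succ j ih =>
      intro hj a ha h
      have hw : a ^ 2 ^ j * a ^ 2 ^ j = 1 := by rw [← pow_add, ← two_mul, ← pow_succ']; exact h
      obtain ⟨r, hr, hrw⟩ := hroots _ hw
      obtain ⟨d, hd⟩ : ∃ d, e + 1 = j + (d + 1) := ⟨e - j, by omega⟩
      obtain ⟨b, hb⟩ : ∃ b, b = r ^ 2 ^ d := ⟨_, rfl⟩
      have hbA : b ∈ A := hb ▸ pow_mem hr _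
      have hbb : (b * b) ^ 2 ^ j = a ^ 2 ^ j := by
        rw [← hrw, hb, ← pow_add, ← pow_mul, hd]
        congr 1
        ring
      obtain ⟨c, hc, hcc⟩ := ih (by omega) (a * (b * b)⁻¹) (mul_mem ha (inv_mem (mul_mem hbA hbA))) (by
        rw [(hcA ha (inv_mem (mul_mem hbA hbA))).mul_pow, inv_pow, hbb, mul_inv_cancel])
      refine ⟨c * b, mul_mem hc hbA, ?_⟩
      calc c * b * (c * b) = c * (b * c) * b := by group
        _ = (c * c) * (b * b) := by rw [← (hcA hc hbA).eq]; group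
        _ = a := by rw [hcc]; group
  -- the top power map, applied to squares
  let T : P → P := fun y => (y * y) ^ 2 ^ (e + 1)
  have hTsqA : ∀ y : P, y * y ∈ A → T y * T y = 1 := fun y hy => by
    show (y * y) ^ 2 ^ (e + 1) * (y * y) ^ 2 ^ (e + 1) = 1
    rw [← pow_add, ← two_mul, ← pow_succ']; exact he _ hy
  have hTeq : ∀ (k : K) (y : P), T ((k : MulAut P) y) = (k : MulAut P) (T y) := fun k y => by
    simp only [T, map_pow, map_mul]
  -- `A` is its own centraliser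
  have hC : Subgroup.centralizer (A : Set P) ≤ A := by
    by_contra hne
    haveI : (Subgroup.centralizer (A : Set P)).Normal := inferInstance
    obtain ⟨y₀, hy₀, hy₀A⟩ := exists_above hK.pgroup hne
    have hAC : A ≤ Subgroup.centralizer (A : Set P) := fun a ha =>
      Subgroup.mem_centralizer_iff.mpr fun b hb => hAc b hb a ha
    have hCK : Stable K (Subgroup.centralizer (A : Set P)) := by
      intro k y hy
      rw [Subgroup.mem_centralizer_iff] at hy ⊢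
      intro b hb
      have hb' : (k : MulAut P).symm b ∈ A := by simpa using hAK k⁻¹ b hb
      have h2 := congrArg (k : MulAut P) (hy _ hb')
      simpa using h2
    have hMK := aboveSub_stable (K := K) hAK hCK
    obtain ⟨M, hM⟩ : ∃ M, M = aboveSub A (Subgroup.centralizer (A : Set P)) := ⟨_, rfl⟩
    have hMc : ∀ m ∈ M, ∀ a ∈ A, Commute m a := fun m hm a ha =>
      (Subgroup.mem_centralizer_iff.mp (mem_aboveSub.mp (hM ▸ hm)).1 a ha).symm
    have hM2 : ∀ m ∈ M, m * m ∈ A := fun m hm => (mem_aboveSub.mp (hM ▸ hm)).2.1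
    have hMcomm : ∀ m ∈ M, ∀ x, m * x * m⁻¹ * x⁻¹ ∈ A := fun m hm => (mem_aboveSub.mp (hM ▸ hm)).2.2
    let B : P → P → P := fun x y => x * y * x⁻¹ * y⁻¹
    have hBl : ∀ x ∈ M, ∀ x' ∈ M, ∀ y ∈ M, B (x * x') y = B x y * B x' y := by
      intro x hx x' hx' y _
      show x * x' * y * (x * x')⁻¹ * y⁻¹ = B x y * B x' y
      have h := (hMc x hx _ (hMcomm x' hx' y)).eq
      calc x * x' * y * (x * x')⁻¹ * y⁻¹ = (x * B x' y) * y * x⁻¹ * y⁻¹ := by simp only [B]; group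
        _ = B x' y * B x y := by rw [h]; simp only [B]; group
        _ = _ := (hcA (hMcomm x' hx' y) (hMcomm x hx y)).eq
    have hBsymm : ∀ x y, B x y = (B y x)⁻¹ := fun x y => by simp only [B]; group
    have hBr : ∀ x ∈ M, ∀ y ∈ M, ∀ y' ∈ M, B x (y * y') = B x y * B x y' := by
      intro x hx y hy y' hy'
      rw [hBsymm, hBl y hy y' hy' x hx, mul_inv_rev, ← hBsymm, ← hBsymm,
        (hcA (hMcomm x hx y') (hMcomm x hx y)).eq]
    have hBAl : ∀ a ∈ A, ∀ y ∈ M, B a y = 1 := fun a ha y hy => by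
      show a * y * a⁻¹ * y⁻¹ = 1
      rw [← (hMc y hy a ha).eq]; group
    have hBAr : ∀ x ∈ M, ∀ a ∈ A, B x a = 1 := fun x hx a ha => by
      show x * a * x⁻¹ * a⁻¹ = 1
      rw [(hMc x hx a ha).eq]; group
    have hBsq : ∀ x ∈ M, ∀ y ∈ M, B x y * B x y = 1 := fun x hx y hy => by
      rw [← hBr x hx y hy y hy]; exact hBAr x hx _ (hM2 y hy)
    have hTmul : ∀ x ∈ M, ∀ y ∈ M, T (x * y) = T x * T y := by
      intro x hx y hy
      have hc := hMcomm y hy x
      have he' : x * y * (x * y) = x * x * (y * y) * B y x := by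
        obtain ⟨b, hb⟩ : ∃ b, b = B y x := ⟨_, rfl⟩
        have hbx : Commute x b := hb ▸ hMc x hx _ hc
        have hby : Commute y b := hb ▸ hMc y hy _ hc
        rw [← hb]
        calc x * y * (x * y) = x * ((b * x) * (y * y)) := by rw [hb]; simp only [B]; group
          _ = x * ((x * b) * (y * y)) := by rw [hbx.eq]
          _ = x * (x * ((y * y) * b)) := by rw [mul_assoc x b, ((hby.mul_left hby).symm).eq]
          _ = _ := by group
      show (x * y * (x * y)) ^ 2 ^ (e + 1) = _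
      rw [he', (hcA (mul_mem (hM2 x hx) (hM2 y hy)) hc).mul_pow, (hcA (hM2 x hx) (hM2 y hy)).mul_pow,
        hpow1 (B y x) 1 (e + 1) (by omega) (by rw [pow_one, sq]; exact hBsq y hy x hx), mul_one]
    have hTker : ∀ x ∈ M, T x = 1 → x ∈ A := by
      intro x hx h
      obtain ⟨b, hb, hbb⟩ := hmemsq (e + 1) (by omega) _ (hM2 x hx) h
      have h1 : x * b⁻¹ * (x * b⁻¹) = 1 := by
        calc x * b⁻¹ * (x * b⁻¹) = x * (b⁻¹ * x) * b⁻¹ := by group
          _ = (x * x) * (b * b)⁻¹ := by rw [← (hMc x hx b⁻¹ (inv_mem hb)).eq]; group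
          _ = 1 := by rw [hbb, mul_inv_cancel]
      simpa using mul_mem (hinvA _ h1) hb
    have hzero : ∀ x ∈ M, ∀ y ∈ M, x * y = y * x := by
      intro x hx y hy
      have hb := beta_trivial hK (M := M) (A := A) (hM ▸ hMK) T B hTmul (fun m hm => hTsqA m (hM2 m hm))
        hTker (fun k x _ => hTeq k x) hBl hBr hBAl hBAr hBsq
        (fun k x y _ _ => by simp only [B, map_mul, map_inv]) (fun x _ => by simp only [B]; group) hx hy
      have hb' : x * y * x⁻¹ * y⁻¹ = 1 := hb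
      calc x * y = (x * y * x⁻¹ * y⁻¹) * (y * x) := by group
        _ = y * x := by rw [hb', one_mul]
    exact hy₀A (hmax (y := M) ⟨hM ▸ aboveSub_normal, hM ▸ hMK, hZA.trans (hM ▸ le_aboveSub hAC), hzero⟩
      (hM ▸ le_aboveSub hAC) (hM ▸ hy₀))
  have hCeq : ∀ y : P, (∀ a ∈ A, y * a = a * y) → y ∈ A := fun y h =>
    hC (Subgroup.mem_centralizer_iff.mpr fun a ha => (h a ha).symm)
  -- the action of the elements above `A`
  have hne : ¬ (⊤ : Subgroup P) ≤ A := by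
    intro h
    obtain ⟨x, y, hxy⟩ := hK.nonabelian
    exact hxy (hAc x (h trivial) y (h trivial))
  obtain ⟨y₀, hy₀, hy₀A⟩ := exists_above hK.pgroup hne
  obtain ⟨M, hM⟩ : ∃ M, M = aboveSub A (⊤ : Subgroup P) := ⟨_, rfl⟩
  rw [← hM] at hy₀
  have hMK : Stable K M := hM ▸ aboveSub_stable hAK (fun _ _ _ => trivial)
  have hM2 : ∀ m ∈ M, m * m ∈ A := fun m hm => (mem_aboveSub.mp (hM ▸ hm)).2.1
  have hMcomm : ∀ m ∈ M, ∀ x, m * x * m⁻¹ * x⁻¹ ∈ A := fun m hm => (mem_aboveSub.mp (hM ▸ hm)).2.2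
  let ν : P → P → P := fun y a => y * a * y⁻¹ * a⁻¹
  have hνA : ∀ y, ∀ a ∈ A, ν y a ∈ A := fun y a ha => mul_mem (hAn.conj_mem a ha y) (inv_mem ha)
  have hνmul : ∀ y, ∀ a ∈ A, ∀ b ∈ A, ν y (a * b) = ν y a * ν y b := by
    intro y a ha b hb
    show y * (a * b) * y⁻¹ * (a * b)⁻¹ = _
    calc y * (a * b) * y⁻¹ * (a * b)⁻¹ = (y * a * y⁻¹) * ν y b * a⁻¹ := by simp only [ν]; group
      _ = _ := by
        rw [mul_assoc, (hcA (hνA y b hb) (inv_mem ha)).eq]
        simp only [ν]; group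
  have hν1 : ∀ y, ν y 1 = 1 := fun y => by simp only [ν]; group
  have hνpow : ∀ y, ∀ a ∈ A, ∀ n : ℕ, ν y (a ^ n) = ν y a ^ n := by
    intro y a ha n
    induction n with
    | zero => simp [hν1]
    | succ n ih => rw [pow_succ, hνmul y _ (pow_mem ha n) a ha, ih, pow_succ]
  have hν4 : ∀ y, ∀ a ∈ A, a ^ 2 ^ 2 = 1 → ν y a = 1 := by
    intro y a ha h4
    have h2 : a * a * (a * a) = 1 := by rw [← pow_four_eq, ← h4]; norm_num
    obtain ⟨c, hc, hcc⟩ := hroot _ h2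
    have hcA' : c ∈ A := hZA hc
    have h1 : a * c⁻¹ * (a * c⁻¹) = 1 := by
      calc a * c⁻¹ * (a * c⁻¹) = a * (c⁻¹ * a) * c⁻¹ := by group
        _ = (a * a) * (c * c)⁻¹ := by rw [(hcA (inv_mem hcA') ha).eq]; group
        _ = 1 := by rw [hcc, mul_inv_cancel]
    have hac : a ∈ Subgroup.center P := by simpa using mul_mem (inv_central hK h1) hc
    show y * a * y⁻¹ * a⁻¹ = 1
    rw [Subgroup.mem_center_iff.mp hac y]; group
  obtain ⟨e, rfl⟩ : ∃ e', e = e' + 1 := by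
    rcases Nat.eq_zero_or_pos e with rfl | h
    · refine absurd (hCeq y₀ fun a ha => ?_) hy₀A
      have := hν4 y₀ a ha (he a ha)
      calc y₀ * a = (y₀ * a * y₀⁻¹ * a⁻¹) * (a * y₀) := by group
        _ = a * y₀ := by rw [show y₀ * a * y₀⁻¹ * a⁻¹ = 1 from this, one_mul]
    · exact ⟨e - 1, by omega⟩
  have hννA : ∀ y ∈ M, ∀ a ∈ A, ν y a * ν y a * ν y (ν y a) = 1 := by
    intro y hy a ha
    have hyy : y * y * a * (y * y)⁻¹ = a := by rw [(hcA (hM2 y hy) ha).eq]; group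
    have h1 : ν y (ν y a) = (ν y a)⁻¹ * (ν y a)⁻¹ := by
      calc ν y (ν y a) = (y * y * a * (y * y)⁻¹) * (y * a⁻¹ * y⁻¹) * (ν y a)⁻¹ := by simp only [ν]; group
        _ = _ := by rw [hyy]; simp only [ν]; group
    rw [h1]; group
  have hνsq : ∀ y ∈ M, ∀ a ∈ A, ν y a * ν y a = 1 := by
    intro y hy
    have hstep : ∀ j : ℕ, j ≤ e → (∀ a ∈ A, ν y a ^ 2 ^ (j + 1) = 1) → ∀ a ∈ A, ν y a * ν y a = 1 := by
      intro j
      induction j with
      | zero => intro _ h a ha; simpa [sq] using h a ha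
      | succ j ih =>
        intro hj h
        refine ih (by omega) fun a ha => ?_
        have hk : ν y a ^ 2 ^ (e + 1) = 1 := hpow1 _ (j + 2) (e + 1) (by omega) (h a ha)
        obtain ⟨b, hb, hbb⟩ := hmemsq (e + 1) (by omega) _ (hνA y a ha) hk
        have hb2 : b ^ 2 ^ (e + 2) = 1 := by
          rw [pow_succ' 2 (e + 1), pow_mul, sq, hbb, hk]
        obtain ⟨c, hc, hcc⟩ := hmemsq (e + 2) (by omega) b hb hb2
        have hc4 : ν y a = c ^ 4 := by rw [← hbb, ← hcc, pow_four_eq]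
        have h1 := hννA y hy a ha
        have h2 : (ν y a * ν y a) ^ 2 ^ j * ν y (ν y a) ^ 2 ^ j = 1 := by
          rw [← (hcA (mul_mem (hνA y a ha) (hνA y a ha)) (hνA y _ (hνA y a ha))).mul_pow, h1, one_pow]
        have h3 : ν y (ν y a) ^ 2 ^ j = 1 := by
          conv_lhs => rw [hc4, hνpow y c hc, ← pow_mul]
          rw [show 4 * 2 ^ j = 2 ^ (j + 1 + 1) by ring]
          exact h c hc
        rw [h3, mul_one, ← sq, ← pow_mul, ← pow_succ'] at h2
        exact h2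
    refine hstep e le_rfl fun a ha => ?_
    rw [← hνpow y a ha]
    refine hν4 y _ (pow_mem ha _) ?_
    rw [← pow_mul, ← pow_add]
    exact he a ha
  have hcomm4 : ∀ x ∈ M, ∀ y ∈ M, (x⁻¹ * y * x * y⁻¹) ^ 2 ^ 2 = 1 := by
    intro x hx y hy
    obtain ⟨c, hc⟩ : ∃ c, c = x⁻¹ * y * x * y⁻¹ := ⟨_, rfl⟩
    have hcAm : c ∈ A := by
      have := hMcomm x⁻¹ (inv_mem hx) y
      rw [inv_inv] at this
      exact hc ▸ this
    have h1 : c * c * ν y c = ν x⁻¹ (y * y) := by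
      calc c * c * ν y c = c * (c * ν y c) := by group
        _ = c * (ν y c * c) := by rw [(hcA hcAm (hνA y c hcAm)).eq]
        _ = _ := by simp only [ν, hc]; group
    have h2 : c * c * (c * c) = 1 := by
      have e1 : c * c = ν x⁻¹ (y * y) * (ν y c)⁻¹ := by rw [← h1]; group
      rw [e1]
      exact sq_one_mul hK (hνsq _ (inv_mem hx) _ (hM2 y hy))
        (by rw [← mul_inv_rev, hνsq y hy c hcAm, inv_one])
    rw [← hc, show (2 : ℕ) ^ 2 = 4 by norm_num, pow_four_eq]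
    exact h2
  have hTmul : ∀ x ∈ M, ∀ y ∈ M, T (x * y) = T x * T y := by
    intro x hx y hy
    have hc : x⁻¹ * y * x * y⁻¹ ∈ A := by simpa using hMcomm x⁻¹ (inv_mem hx) y
    show (x * y * (x * y)) ^ 2 ^ (e + 1 + 1) = _
    rw [show x * y * (x * y) = x * x * (x⁻¹ * y * x * y⁻¹) * (y * y) by group,
      (hcA (mul_mem (hM2 x hx) hc) (hM2 y hy)).mul_pow, (hcA (hM2 x hx) hc).mul_pow,
      hpow1 _ 2 (e + 1 + 1) (by omega) (hcomm4 x hx y hy), mul_one]
  have hTker : ∀ x ∈ M, T x = 1 → x ∈ A := by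
    intro y hy h
    obtain ⟨b, hb, hbb⟩ := hmemsq (e + 1 + 1) (by omega) _ (hM2 y hy) h
    obtain ⟨r, hr, hrr⟩ := hroots _ (hνsq y hy b⁻¹ (inv_mem hb))
    obtain ⟨d, hd⟩ : ∃ d, d = r ^ 2 ^ (e + 1) := ⟨_, rfl⟩
    have hdA : d ∈ A := hd ▸ pow_mem hr _
    have hdd : d * d = ν y b⁻¹ := by
      rw [← hrr, hd, ← pow_add, ← two_mul, ← pow_succ']
    have hd4 : ν y d⁻¹ = 1 := by
      refine hν4 y _ (inv_mem hdA) ?_
      rw [inv_pow, show d ^ 2 ^ 2 = d * d * (d * d) by norm_num [pow_four_eq], hdd, hνsq y hy b⁻¹ (inv_mem hb), inv_one]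
    obtain ⟨a, ha⟩ : ∃ a, a = b⁻¹ * d⁻¹ := ⟨_, rfl⟩
    have haA : a ∈ A := ha ▸ mul_mem (inv_mem hb) (inv_mem hdA)
    have hνa : ν y a = ν y b⁻¹ := by rw [ha, hνmul y _ (inv_mem hb) _ (inv_mem hdA), hd4, mul_one]
    have h1 : a * y * (a * y) = 1 := by
      calc a * y * (a * y) = a * (ν y a * a) * (y * y) := by simp only [ν]; group
        _ = a * a * ν y a * (b * b) := by rw [(hcA (hνA y a haA) haA).eq, hbb]; group
        _ = (b⁻¹ * d⁻¹) * (b⁻¹ * d⁻¹) * (d * d) * (b * b) := by rw [hνa, ← hdd, ha]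
        _ = (b⁻¹ * b⁻¹) * ((d⁻¹ * d⁻¹) * (d * d)) * (b * b) := by
          rw [show b⁻¹ * d⁻¹ * (b⁻¹ * d⁻¹) = b⁻¹ * (d⁻¹ * b⁻¹) * d⁻¹ by group,
            (hcA (inv_mem hdA) (inv_mem hb)).eq]
          group
        _ = 1 := by group
    simpa using mul_mem (inv_mem haA) (hinvA _ h1)
  let B : P → P → P := fun x y => ν x (y * y)
  have hall : ∀ x ∈ M, ∀ y ∈ M, B x y = 1 := by
    intro x hx y hy
    refine beta_trivial hK (M := M) (A := A) hMK T B hTmul (fun m hm => hTsqA m (hM2 m hm)) hTker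
      (fun k x _ => hTeq k x) ?_ ?_ ?_ ?_ ?_ ?_ ?_ hx hy
    · intro p hp p' hp' q hq
      have h := hνsq p' hp' _ (hM2 q hq)
      show ν (p * p') (q * q) = ν p (q * q) * ν p' (q * q)
      calc ν (p * p') (q * q) = p * ν p' (q * q) * p⁻¹ * ν p (q * q) := by simp only [ν]; group
        _ = ν p' (q * q) * ν p (q * q) := by rw [inv_comm hK h p]; group
        _ = _ := (hcA (hνA _ _ (hM2 q hq)) (hνA _ _ (hM2 q hq))).eq
    · intro p hp q hq q' hq'
      have hc : q⁻¹ * q' * q * q'⁻¹ ∈ A := by simpa using hMcomm q⁻¹ (inv_mem hq) q'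
      show ν p (q * q' * (q * q')) = ν p (q * q) * ν p (q' * q')
      rw [show q * q' * (q * q') = q * q * (q⁻¹ * q' * q * q'⁻¹) * (q' * q') by group,
        hνmul p _ (mul_mem (hM2 q hq) hc) _ (hM2 q' hq'), hνmul p _ (hM2 q hq) _ hc,
        hν4 p _ hc (hcomm4 q hq q' hq'), mul_one]
    · intro a ha q hq
      show a * (q * q) * a⁻¹ * (q * q)⁻¹ = 1
      rw [(hcA ha (hM2 q hq)).eq]; group
    · intro p hp a ha
      show ν p (a * a) = 1
      rw [hνmul p a ha a ha, hνsq p hp a ha]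
    · intro p hp q hq
      exact hνsq p hp _ (hM2 q hq)
    · intro k p q _ _
      simp only [B, ν, map_mul, map_inv]
    · intro p _
      show p * (p * p) * p⁻¹ * (p * p)⁻¹ = 1
      group
  refine hy₀A (hCeq y₀ fun b hb => ?_)
  obtain ⟨y, hy, hTy⟩ : ∃ y ∈ M, T y = b ^ 2 ^ (e + 1 + 1) := by
    have hb2 : b ^ 2 ^ (e + 1 + 1) * b ^ 2 ^ (e + 1 + 1) = 1 := by
      rw [← pow_add, ← two_mul, ← pow_succ']; exact he b hb
    by_cases hb1 : b ^ 2 ^ (e + 1 + 1) = 1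
    · exact ⟨1, M.one_mem, by rw [hb1]; simp [T]⟩
    obtain ⟨k, hk, -⟩ := hK.reg _ _ (fun h => hy₀A (hTker y₀ hy₀ h)) (hTsqA y₀ (hM2 y₀ hy₀)) hb1 hb2
    exact ⟨(k : MulAut P) y₀, hMK k _ hy₀, by rw [hTeq, hk]⟩
  have hTy' : (y * y) ^ 2 ^ (e + 1 + 1) = b ^ 2 ^ (e + 1 + 1) := hTy
  obtain ⟨c, hc, hcc⟩ := hmemsq (e + 1 + 1) (by omega) (b * (y * y)⁻¹) (mul_mem hb (inv_mem (hM2 y hy))) (by
    rw [(hcA hb (inv_mem (hM2 y hy))).mul_pow, inv_pow, hTy', mul_inv_cancel])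
  have hνb : ν y₀ b = 1 := by
    have hb' : b = (c * c) * (y * y) := by rw [hcc]; group
    rw [hb', hνmul y₀ _ (mul_mem hc hc) _ (hM2 y hy), hνmul y₀ c hc c hc, hνsq y₀ hy₀ c hc, one_mul]
    exact hall y₀ hy₀ y hy
  calc y₀ * b = ν y₀ b * (b * y₀) := by simp only [ν]; group
    _ = b * y₀ := by rw [hνb, one_mul]

end

theorem exists_suzData (hP : Cfsg.IsSuzukiTwoGroup P) : ∃ K : Subgroup (MulAut P), SuzData K := by
  obtain ⟨h1, h2, h3, h4, K, h5, h6⟩ := hP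
  exact ⟨K, h1, h2, h3, h4, h5, h6⟩

end Cfsg.Agent.RankOne.Higman
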