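import Cfsg.Agent.Lib.RankOne.Higman
import Mathlib.GroupTheory.Perm.Cycle.Type

/-! Higman: a stable normal abelian subgroup of a Suzuki 2-group has exponent at most four. -/
set_option linter.style.haveILetI false

namespace Cfsg.Agent.RankOne.Higman

universe u

variable {P : Type u} [Group P] {K : Subgroup (MulAut P)} (hK : SuzData K)
include hK

theorem exists_top {a : P} (ha : a ≠ 1) : ∃ m : ℕ, a ^ 2 ^ m ≠ 1 ∧ a ^ 2 ^ m * a ^ 2 ^ m = 1 := by
  have hex : ∃ m : ℕ, a ^ 2 ^ m = 1 := hK.pgroup a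
  classical
  have h0 : Nat.find hex ≠ 0 := fun h => ha (by simpa [h] using Nat.find_spec hex)
  refine ⟨Nat.find hex - 1, Nat.find_min hex (by omega), ?_⟩
  rw [← pow_add, ← two_mul, ← pow_succ', show Nat.find hex - 1 + 1 = Nat.find hex by omega]
  exact Nat.find_spec hex

theorem inv_mem_of_stable {S : Subgroup P} (hS : Stable K S) {a : P} (ha : a ∈ S) (ha1 : a ≠ 1)
    {x : P} (hx : x * x = 1) : x ∈ S := by
  by_cases hx1 : x = 1
  · rw [hx1]; exact one_mem S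
  obtain ⟨m, hm1, hm2⟩ := exists_top hK ha1
  obtain ⟨k, hk, -⟩ := hK.reg _ x hm1 hm2 hx1 hx
  exact hk ▸ hS k _ (pow_mem ha _)

theorem K_fix_all {k : K} {x : P} (hx1 : x ≠ 1) (h : (k : MulAut P) x = x) : k = 1 := by
  obtain ⟨m, hm1, hm2⟩ := exists_top hK hx1
  exact K_fix hK hm1 hm2 (by rw [map_pow, h])

theorem mem_of_coset_fixed {H : Subgroup P} (hH : Stable K H) {y : P} {k₁ : K} (hk₁ : k₁ ≠ 1)
    (h₁ : y⁻¹ * (k₁ : MulAut P) y ∈ H) : y ∈ H := by
  classical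
  haveI := hK.fin
  haveI : Finite (MulAut P) := Finite.of_injective _ (DFunLike.coe_injective (F := MulAut P))
  by_contra hy
  have h : ∀ i : ℕ, y⁻¹ * ((k₁ ^ i : K) : MulAut P) y ∈ H := by
    intro i
    induction i with
    | zero => simp
    | succ i ih =>
      have e : y⁻¹ * ((k₁ ^ (i + 1) : K) : MulAut P) y =
          (y⁻¹ * (k₁ : MulAut P) y) * (k₁ : MulAut P) (y⁻¹ * ((k₁ ^ i : K) : MulAut P) y) := by
        rw [pow_succ', Subgroup.coe_mul, MulAut.mul_apply, map_mul, map_inv]; group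
      rw [e]
      exact mul_mem h₁ (hH k₁ _ ih)
  obtain ⟨r, hr, hrd⟩ := Nat.exists_prime_and_dvd (mt orderOf_eq_one_iff.mp hk₁)
  haveI : Fact r.Prime := ⟨hr⟩
  obtain ⟨k, hk, hki⟩ : ∃ k : K, orderOf k = r ∧ ∃ i : ℕ, k = k₁ ^ i := by
    obtain ⟨d, hd⟩ := hrd
    have hd0 : d ≠ 0 := fun h0 => (orderOf_pos k₁).ne' (by rw [hd, h0, mul_zero])
    refine ⟨k₁ ^ d, ?_, d, rfl⟩
    rw [orderOf_pow_of_dvd hd0 ⟨r, by rw [hd, mul_comm]⟩, hd, Nat.mul_div_cancel _ (Nat.pos_of_ne_zero hd0)]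
  have hr2 : r ≠ 2 := by
    rintro rfl
    have hsq : k * k = 1 := by
      have := pow_orderOf_eq_one k
      rwa [hk, sq] at this
    rw [K_eq_one_of_sq hK hsq, orderOf_one] at hk
    exact absurd hk (by norm_num)
  let C := {m : P // y⁻¹ * m ∈ H}
  have hmap : ∀ l : Subgroup.zpowers k, ∀ m : P, y⁻¹ * m ∈ H → y⁻¹ * ((l : K) : MulAut P) m ∈ H := by
    rintro ⟨l, hl⟩ m hm
    obtain ⟨i, rfl⟩ := hki
    obtain ⟨j, rfl⟩ := (Submonoid.mem_powers_iff _ _).mp (mem_powers_iff_mem_zpowers.mpr hl)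
    simp only [← pow_mul]
    obtain ⟨l, hl'⟩ : ∃ l, l = k₁ ^ (i * j) := ⟨_, rfl⟩
    rw [← hl']
    have e : y⁻¹ * (l : MulAut P) m = (y⁻¹ * (l : MulAut P) y) * (l : MulAut P) (y⁻¹ * m) := by
      rw [map_mul, map_inv]; group
    rw [e]
    exact mul_mem (hl' ▸ h (i * j)) (hH l _ hm)
  let act : Subgroup.zpowers k →* Equiv.Perm C :=
    MonoidHom.mk' (fun l =>
      { toFun := fun m => ⟨((l : K) : MulAut P) m.1, hmap l m.1 m.2⟩
        invFun := fun m => ⟨((l⁻¹ : Subgroup.zpowers k).1 : MulAut P) m.1, hmap l⁻¹ m.1 m.2⟩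
        left_inv := fun m => Subtype.ext (by simp)
        right_inv := fun m => Subtype.ext (by simp) })
      fun a b => Equiv.ext fun m => Subtype.ext (by simp)
  haveI : Fintype C := Fintype.ofFinite _
  have hcard : ¬ r ∣ Fintype.card C := by
    intro hd
    obtain ⟨n, hn⟩ := IsPGroup.iff_card.mp (hK.pgroup.to_subgroup H)
    have e : Nat.card C = Nat.card H := Nat.card_congr
      { toFun := fun m => ⟨y⁻¹ * m.1, m.2⟩
        invFun := fun m => ⟨y * m.1, by rw [inv_mul_cancel_left]; exact m.2⟩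
        left_inv := fun m => Subtype.ext (mul_inv_cancel_left _ _)
        right_inv := fun m => Subtype.ext (inv_mul_cancel_left _ _) }
    rw [← Nat.card_eq_fintype_card, e, hn] at hd
    exact hr2 ((Nat.prime_dvd_prime_iff_eq hr Nat.prime_two).mp (hr.dvd_of_dvd_pow hd))
  obtain ⟨m, hm⟩ := Equiv.Perm.exists_fixed_point_of_prime (p := r) (n := 1) hcard (σ := act ⟨k, Subgroup.mem_zpowers k⟩)
    (by rw [← map_pow, pow_one]; convert map_one act; exact Subtype.ext (by simp [← hk, pow_orderOf_eq_one]))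
  have hm1 : m.1 ≠ 1 := fun e => hy (by
    have := m.2
    rw [e, mul_one] at this
    simpa using this)
  rw [show k = 1 from K_fix_all hK hm1 (congrArg Subtype.val hm), orderOf_one] at hk
  exact hr.one_lt.ne hk

/-- A stable normal abelian subgroup has exponent at most four. -/
theorem abelian_pow_four {B₀ : Subgroup P} (hBn : B₀.Normal) (hBK : Stable K B₀)
    (hBc : ∀ a ∈ B₀, ∀ b ∈ B₀, a * b = b * a) {a₀ : P} (ha₀B : a₀ ∈ B₀) : a₀ ^ 4 = 1 := by
  by_contra ha₀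
  haveI := hK.fin
  haveI : Fact (Nat.Prime 2) := ⟨Nat.prime_two⟩
  -- choose `A`
  let p : Subgroup P → Prop := fun S => S.Normal ∧ Stable K S ∧ Subgroup.center P ≤ S ∧
    ∀ a ∈ S, ∀ b ∈ S, a * b = b * a
  have hpc : p B₀ := ⟨hBn, hBK, fun x hx => inv_mem_of_stable hK hBK ha₀B
    (fun e => ha₀ (by rw [e, one_pow])) (center_sq hK hx), hBc⟩
  obtain ⟨A, hBA, ⟨hAn, hAK, hZA, hAc⟩, hmax⟩ := Finite.exists_le_maximal hpc
  haveI := hAn
  have hcA : ∀ {a b : P}, a ∈ A → b ∈ A → Commute a b := fun ha hb => hAc _ ha _ hb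
  have hinvA : ∀ x : P, x * x = 1 → x ∈ A := fun x hx => hZA (inv_central hK hx)
  -- exponent of `A`
  have hex : ∃ e : ℕ, ∀ a ∈ A, a ^ 2 ^ e = 1 := by
    obtain ⟨n, hn⟩ := IsPGroup.iff_card.mp hK.pgroup
    exact ⟨n, fun a _ => by rw [← hn, pow_card_eq_one']⟩
  classical
  have hpow1' : ∀ (a : P) (i j : ℕ), i ≤ j → a ^ 2 ^ i = 1 → a ^ 2 ^ j = 1 := by
    intro a i j hij ha
    obtain ⟨d, rfl⟩ := Nat.exists_eq_add_of_le hij
    rw [pow_add, pow_mul, ha, one_pow]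
  obtain ⟨e, he, hemin⟩ : ∃ e, (∀ a ∈ A, a ^ 2 ^ e = 1) ∧ ∀ j < e, ¬ ∀ a ∈ A, a ^ 2 ^ j = 1 :=
    ⟨Nat.find hex, Nat.find_spec hex, fun j hj => Nat.find_min hex hj⟩
  have he2 : 3 ≤ e := by
    by_contra h
    refine ha₀ ?_
    have := hpow1' a₀ e 2 (by omega) (he a₀ (hBA ha₀B))
    simpa using this
  obtain ⟨e, rfl⟩ : ∃ e', e = e' + 3 := ⟨e - 3, by omega⟩
  have hpow1 : ∀ (a : P) (i j : ℕ), i ≤ j → a ^ 2 ^ i = 1 → a ^ 2 ^ j = 1 := by
    intro a i j hij ha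
    obtain ⟨d, rfl⟩ := Nat.exists_eq_add_of_le hij
    rw [pow_add, pow_mul, ha, one_pow]
  have hroots : ∀ x : P, x * x = 1 → ∃ a ∈ A, a ^ 2 ^ (e + 2) = x := by
    intro x hx
    by_cases hx1 : x = 1
    · exact ⟨1, one_mem A, by rw [hx1, one_pow]⟩
    obtain ⟨a, ha, hne⟩ : ∃ a ∈ A, a ^ 2 ^ (e + 2) ≠ 1 := by
      by_contra hh
      push Not at hh
      exact hemin (e + 2) (by omega) hh
    have hsq : a ^ 2 ^ (e + 2) * a ^ 2 ^ (e + 2) = 1 := by
      rw [← pow_add, ← two_mul, ← pow_succ']; exact he a ha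
    obtain ⟨k, hk, -⟩ := hK.reg _ x hne hsq hx1 hx
    exact ⟨(k : MulAut P) a, hAK k a ha, by rw [← map_pow, hk]⟩
  have hmemsq : ∀ j < e + 3, ∀ a ∈ A, a ^ 2 ^ j = 1 → ∃ b ∈ A, b * b = a := by
    intro j
    induction j with
    | zero => intro _ a _ h; exact ⟨1, one_mem A, by rw [pow_zero, pow_one] at h; rw [h, one_mul]⟩
    | succ j ih =>
      intro hj a ha h
      have hw : a ^ 2 ^ j * a ^ 2 ^ j = 1 := by rw [← pow_add, ← two_mul, ← pow_succ']; exact h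
      obtain ⟨r, hr, hrw⟩ := hroots _ hw
      obtain ⟨d, hd⟩ : ∃ d, e + 2 = j + (d + 1) := ⟨e + 1 - j, by omega⟩
      obtain ⟨b, hb⟩ : ∃ b, b = r ^ 2 ^ d := ⟨_, rfl⟩
      have hbA : b ∈ A := hb ▸ pow_mem hr _
      have hbb : (b * b) ^ 2 ^ j = a ^ 2 ^ j := by
        rw [← hrw, hb, ← pow_add, ← pow_mul, hd]
        congr 1
        ring
      obtain ⟨c, hc, hcc⟩ := ih (by omega) (a * (b * b)⁻¹) (mul_mem ha (inv_mem (mul_mem hbA hbA))) (by
        rw [(hcA ha (inv_mem (mul_mem hbA hbA))).mul_pow, inv_pow, hbb, mul_inv_cancel])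
      refine ⟨c * b, mul_mem hc hbA, ?_⟩
      calc c * b * (c * b) = c * (b * c) * b := by group
        _ = (c * c) * (b * b) := by rw [← (hcA hc hbA).eq]; group
        _ = a := by rw [hcc]; group
  -- the top power map, applied to squares
  let T : P → P := fun y => (y * y) ^ 2 ^ (e + 2)
  have hTsqA : ∀ y : P, y * y ∈ A → T y * T y = 1 := fun y hy => by
    show (y * y) ^ 2 ^ (e + 2) * (y * y) ^ 2 ^ (e + 2) = 1
    rw [← pow_add, ← two_mul, ← pow_succ']; exact he _ hy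
  have hTeq : ∀ (k : K) (y : P), T ((k : MulAut P) y) = (k : MulAut P) (T y) := fun k y => by
    simp only [T, map_pow, map_mul]
  -- `A` is its own centraliser
  have hC : Subgroup.centralizer (A : Set P) ≤ A := by
    by_contra hne
    haveI : (Subgroup.centralizer (A : Set P)).Normal := inferInstance
    obtain ⟨y₀, hy₀, hy₀A⟩ := exists_above hK.pgroup hne
    have hAC : A ≤ Subgroup.centralizer (A : Set P) := fun a ha =>
      Subgroup.mem_centralizer_iff.mpr fun b hb => hAc b hb a ha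
    have hCK : Stable K (Subgroup.centralizer (A : Set P)) := by
      intro k y hy
      rw [Subgroup.mem_centralizer_iff] at hy ⊢
      intro b hb
      have hb' : (k : MulAut P).symm b ∈ A := by simpa using hAK k⁻¹ b hb
      have h2 := congrArg (k : MulAut P) (hy _ hb')
      simpa using h2
    have hMK := aboveSub_stable (K := K) hAK hCK
    obtain ⟨M, hM⟩ : ∃ M, M = aboveSub A (Subgroup.centralizer (A : Set P)) := ⟨_, rfl⟩
    have hMc : ∀ m ∈ M, ∀ a ∈ A, Commute m a := fun m hm a ha =>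
      (Subgroup.mem_centralizer_iff.mp (mem_aboveSub.mp (hM ▸ hm)).1 a ha).symm
    have hM2 : ∀ m ∈ M, m * m ∈ A := fun m hm => (mem_aboveSub.mp (hM ▸ hm)).2.1
    have hMcomm : ∀ m ∈ M, ∀ x, m * x * m⁻¹ * x⁻¹ ∈ A := fun m hm => (mem_aboveSub.mp (hM ▸ hm)).2.2
    let B : P → P → P := fun x y => x * y * x⁻¹ * y⁻¹
    have hBl : ∀ x ∈ M, ∀ x' ∈ M, ∀ y ∈ M, B (x * x') y = B x y * B x' y := by
      intro x hx x' hx' y _
      show x * x' * y * (x * x')⁻¹ * y⁻¹ = B x y * B x' y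
      have h := (hMc x hx _ (hMcomm x' hx' y)).eq
      calc x * x' * y * (x * x')⁻¹ * y⁻¹ = (x * B x' y) * y * x⁻¹ * y⁻¹ := by simp only [B]; group
        _ = B x' y * B x y := by rw [h]; simp only [B]; group
        _ = _ := (hcA (hMcomm x' hx' y) (hMcomm x hx y)).eq
    have hBsymm : ∀ x y, B x y = (B y x)⁻¹ := fun x y => by simp only [B]; group
    have hBr : ∀ x ∈ M, ∀ y ∈ M, ∀ y' ∈ M, B x (y * y') = B x y * B x y' := by
      intro x hx y hy y' hy'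
      rw [hBsymm, hBl y hy y' hy' x hx, mul_inv_rev, ← hBsymm, ← hBsymm,
        (hcA (hMcomm x hx y') (hMcomm x hx y)).eq]
    have hBAl : ∀ a ∈ A, ∀ y ∈ M, B a y = 1 := fun a ha y hy => by
      show a * y * a⁻¹ * y⁻¹ = 1
      rw [← (hMc y hy a ha).eq]; group
    have hBAr : ∀ x ∈ M, ∀ a ∈ A, B x a = 1 := fun x hx a ha => by
      show x * a * x⁻¹ * a⁻¹ = 1
      rw [(hMc x hx a ha).eq]; group
    have hBsq : ∀ x ∈ M, ∀ y ∈ M, B x y * B x y = 1 := fun x hx y hy => by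
      rw [← hBr x hx y hy y hy]; exact hBAr x hx _ (hM2 y hy)
    have hTmul : ∀ x ∈ M, ∀ y ∈ M, T (x * y) = T x * T y := by
      intro x hx y hy
      have hc := hMcomm y hy x
      have he' : x * y * (x * y) = x * x * (y * y) * B y x := by
        obtain ⟨b, hb⟩ : ∃ b, b = B y x := ⟨_, rfl⟩
        have hbx : Commute x b := hb ▸ hMc x hx _ hc
        have hby : Commute y b := hb ▸ hMc y hy _ hc
        rw [← hb]
        calc x * y * (x * y) = x * ((b * x) * (y * y)) := by rw [hb]; simp only [B]; group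
          _ = x * ((x * b) * (y * y)) := by rw [hbx.eq]
          _ = x * (x * ((y * y) * b)) := by rw [mul_assoc x b, ((hby.mul_left hby).symm).eq]
          _ = _ := by group
      show (x * y * (x * y)) ^ 2 ^ (e + 2) = _
      rw [he', (hcA (mul_mem (hM2 x hx) (hM2 y hy)) hc).mul_pow, (hcA (hM2 x hx) (hM2 y hy)).mul_pow,
        hpow1 (B y x) 1 (e + 2) (by omega) (by rw [pow_one, sq]; exact hBsq y hy x hx), mul_one]
    have hTker : ∀ x ∈ M, T x = 1 → x ∈ A := by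
      intro x hx h
      obtain ⟨b, hb, hbb⟩ := hmemsq (e + 2) (by omega) _ (hM2 x hx) h
      have h1 : x * b⁻¹ * (x * b⁻¹) = 1 := by
        calc x * b⁻¹ * (x * b⁻¹) = x * (b⁻¹ * x) * b⁻¹ := by group
          _ = (x * x) * (b * b)⁻¹ := by rw [← (hMc x hx b⁻¹ (inv_mem hb)).eq]; group
          _ = 1 := by rw [hbb, mul_inv_cancel]
      simpa using mul_mem (hinvA _ h1) hb
    have hzero : ∀ x ∈ M, ∀ y ∈ M, x * y = y * x := by
      intro x hx y hy
      have hb := beta_trivial hK (M := M) (A := A) (hM ▸ hMK) T B hTmul (fun m hm => hTsqA m (hM2 m hm))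
        hTker (fun k x _ => hTeq k x) hBl hBr hBAl hBAr hBsq
        (fun k x y _ _ => by simp only [B, map_mul, map_inv]) (fun x _ => by simp only [B]; group) hx hy
      have hb' : x * y * x⁻¹ * y⁻¹ = 1 := hb
      calc x * y = (x * y * x⁻¹ * y⁻¹) * (y * x) := by group
        _ = y * x := by rw [hb', one_mul]
    exact hy₀A (hmax (y := M) ⟨hM ▸ aboveSub_normal, hM ▸ hMK, hZA.trans (hM ▸ le_aboveSub hAC), hzero⟩
      (hM ▸ le_aboveSub hAC) (hM ▸ hy₀))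
  have hCeq : ∀ y : P, (∀ a ∈ A, y * a = a * y) → y ∈ A := fun y h =>
    hC (Subgroup.mem_centralizer_iff.mpr fun a ha => (h a ha).symm)
  -- the action of the elements above `A`
  have hne : ¬ (⊤ : Subgroup P) ≤ A := by
    intro h
    obtain ⟨x, y, hxy⟩ := hK.nonabelian
    exact hxy (hAc x (h trivial) y (h trivial))
  obtain ⟨y₀, hy₀, hy₀A⟩ := exists_above hK.pgroup hne
  obtain ⟨M, hM⟩ : ∃ M, M = aboveSub A (⊤ : Subgroup P) := ⟨_, rfl⟩
  rw [← hM] at hy₀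
  have hMK : Stable K M := hM ▸ aboveSub_stable hAK (fun _ _ _ => trivial)
  have hM2 : ∀ m ∈ M, m * m ∈ A := fun m hm => (mem_aboveSub.mp (hM ▸ hm)).2.1
  have hMcomm : ∀ m ∈ M, ∀ x, m * x * m⁻¹ * x⁻¹ ∈ A := fun m hm => (mem_aboveSub.mp (hM ▸ hm)).2.2
  let ν : P → P → P := fun y a => y * a * y⁻¹ * a⁻¹
  have hνA : ∀ y, ∀ a ∈ A, ν y a ∈ A := fun y a ha => mul_mem (hAn.conj_mem a ha y) (inv_mem ha)
  have hνmul : ∀ y, ∀ a ∈ A, ∀ b ∈ A, ν y (a * b) = ν y a * ν y b := by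
    intro y a ha b hb
    show y * (a * b) * y⁻¹ * (a * b)⁻¹ = _
    calc y * (a * b) * y⁻¹ * (a * b)⁻¹ = (y * a * y⁻¹) * ν y b * a⁻¹ := by simp only [ν]; group
      _ = _ := by
        rw [mul_assoc, (hcA (hνA y b hb) (inv_mem ha)).eq]
        simp only [ν]; group
  have hν1 : ∀ y, ν y 1 = 1 := fun y => by simp only [ν]; group
  have hνpow : ∀ y, ∀ a ∈ A, ∀ n : ℕ, ν y (a ^ n) = ν y a ^ n := by
    intro y a ha n
    induction n with
    | zero => simp [hν1]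
    | succ n ih => rw [pow_succ, hνmul y _ (pow_mem ha n) a ha, ih, pow_succ]
  have hννA : ∀ y ∈ M, ∀ a ∈ A, ν y a * ν y a * ν y (ν y a) = 1 := by
    intro y hy a ha
    have hyy : y * y * a * (y * y)⁻¹ = a := by rw [(hcA (hM2 y hy) ha).eq]; group
    have h1 : ν y (ν y a) = (ν y a)⁻¹ * (ν y a)⁻¹ := by
      calc ν y (ν y a) = (y * y * a * (y * y)⁻¹) * (y * a⁻¹ * y⁻¹) * (ν y a)⁻¹ := by simp only [ν]; group
        _ = _ := by rw [hyy]; simp only [ν]; group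
    rw [h1]; group
  -- the first derivative on the top powers
  let δ : P → P → P := fun y a => ν y a ^ 2 ^ (e + 1)
  have hδmul : ∀ y, ∀ a ∈ A, ∀ b ∈ A, δ y (a * b) = δ y a * δ y b := fun y a ha b hb => by
    simp only [δ, hνmul y a ha b hb, (hcA (hνA y a ha) (hνA y b hb)).mul_pow]
  have hνtop : ∀ y, ∀ a ∈ A, ν y a ^ 2 ^ (e + 2) = 1 := by
    intro y a ha
    rw [← hνpow y a ha]
    have h : a ^ 2 ^ (e + 2) * a ^ 2 ^ (e + 2) = 1 := by
      rw [← pow_add, ← two_mul, ← pow_succ']; exact he a ha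
    show y * _ * y⁻¹ * _ = 1
    rw [inv_comm hK h y]; group
  have hδ2 : ∀ y, ∀ a ∈ A, δ y a * δ y a = 1 := fun y a ha => by
    simp only [δ]
    rw [← pow_add, ← two_mul, ← pow_succ']
    exact hνtop y a ha
  have hδsq : ∀ y, ∀ c ∈ A, δ y (c * c) = 1 := fun y c hc => by rw [hδmul y c hc c hc, hδ2 y c hc]
  have hδwd : ∀ y, ∀ a ∈ A, ∀ b ∈ A, a ^ 2 ^ (e + 2) = b ^ 2 ^ (e + 2) → δ y a = δ y b := by
    intro y a ha b hb hab
    obtain ⟨c, hc, hcc⟩ := hmemsq (e + 2) (by omega) (b⁻¹ * a) (mul_mem (inv_mem hb) ha) (by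
      rw [(hcA (inv_mem hb) ha).mul_pow, inv_pow, hab, inv_mul_cancel])
    rw [show a = b * (c * c) by rw [hcc, mul_inv_cancel_left], hδmul y b hb _ (mul_mem hc hc),
      hδsq y c hc, mul_one]
  have hroot' : ∀ y, ∀ a ∈ A, ∃ b ∈ A, b ^ 2 ^ (e + 2) = δ y a := fun y a ha =>
    hroots _ (hδ2 y a ha)
  have hidem : ∀ y ∈ M, ∀ a ∈ A, ∀ b ∈ A, b ^ 2 ^ (e + 2) = δ y a → δ y b = δ y a := by
    intro y hy a ha b hb hba
    obtain ⟨c, hc, hcc⟩ := hmemsq (e + 2) (by omega) _ (hνA y a ha) (hνtop y a ha)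
    rw [hδwd y b hb c hc (by
      rw [hba]; simp only [δ]; rw [← hcc, ← sq, ← pow_mul, ← pow_succ'])]
    have h1 := hννA y hy a ha
    conv_lhs at h1 => arg 2; rw [← hcc, hνmul y c hc c hc]
    have h2 : (ν y a * ν y a * (ν y c * ν y c)) ^ 2 ^ e = 1 := by rw [h1, one_pow]
    rw [(hcA (mul_mem (hνA y a ha) (hνA y a ha)) (mul_mem (hνA y c hc) (hνA y c hc))).mul_pow, ← sq,
      ← sq, ← pow_mul, ← pow_mul, ← pow_succ'] at h2
    exact mul_left_cancel ((show δ y a * δ y c = 1 from h2).trans (hδ2 y a ha).symm)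
  have hadd : ∀ x y, ∀ a ∈ A, δ (x * y) a = δ x a * δ y a := by
    intro x y a ha
    obtain ⟨c, hc, hcc⟩ := hmemsq (e + 2) (by omega) _ (hνA y a ha) (hνtop y a ha)
    have e1 : ν (x * y) a = ν x (ν y a) * ν y a * ν x a := by simp only [ν]; group
    have e2 : δ x (ν y a) = 1 := by rw [← hcc]; exact hδsq x c hc
    simp only [δ] at e2 ⊢
    rw [e1, (hcA (mul_mem (hνA x _ (hνA y a ha)) (hνA y a ha)) (hνA x a ha)).mul_pow,
      (hcA (hνA x _ (hνA y a ha)) (hνA y a ha)).mul_pow, e2, one_mul]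
    exact (hcA (pow_mem (hνA y a ha) _) (pow_mem (hνA x a ha) _)).eq
  have hcomm' : ∀ x ∈ M, ∀ y ∈ M, ∀ a ∈ A, ∀ b ∈ A, ∀ c ∈ A, b ^ 2 ^ (e + 2) = δ x a →
      c ^ 2 ^ (e + 2) = δ y a → δ x c = δ y b := by
    intro x hx y hy a ha b hb c hc hbx hcy
    have h1 := hidem (x * y) (mul_mem hx hy) a ha (b * c) (mul_mem hb hc) (by
      rw [(hcA hb hc).mul_pow, hbx, hcy, hadd x y a ha])
    rw [hδmul (x * y) b hb c hc, hadd x y b hb, hadd x y c hc, hadd x y a ha,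
      hidem x hx a ha b hb hbx, hidem y hy a ha c hc hcy] at h1
    have hA' : ∀ p q, q ∈ A → δ p q ∈ A := fun p q hq => pow_mem (hνA p q hq) _
    have h2 : δ y b * δ x c = 1 := by
      refine mul_left_cancel (a := δ x a) (mul_right_cancel (b := δ y a) ?_)
      rw [mul_one, ← h1]
      group
    exact mul_left_cancel (h2.trans (hδ2 y b hb).symm)
  have hδk : ∀ (k : K) y a, δ ((k : MulAut P) y) ((k : MulAut P) a) = (k : MulAut P) (δ y a) :=
    fun k y a => by simp only [δ, ν, map_pow, map_mul, map_inv]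
  have hdich : ∀ y ∈ M, (∀ a ∈ A, δ y a = 1) ∨ ∀ a ∈ A, δ y a = a ^ 2 ^ (e + 2) := by
    intro y hy
    by_contra hcon
    push Not at hcon
    obtain ⟨⟨a₁, ha₁, hne₁⟩, a₂, ha₂, hne₂⟩ := hcon
    obtain ⟨u, hu, hua⟩ := hroot' y a₁ ha₁
    obtain ⟨v, hv, hva⟩ := hroot' y a₂ ha₂
    obtain ⟨w, hw⟩ : ∃ w, w = a₂ * v := ⟨_, rfl⟩
    have hwA : w ∈ A := hw ▸ mul_mem ha₂ hv
    have hδu : δ y u = u ^ 2 ^ (e + 2) := by rw [hua, hidem y hy a₁ ha₁ u hu hua]
    have hδw : δ y w = 1 := by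
      rw [hw, hδmul y a₂ ha₂ v hv, hidem y hy a₂ ha₂ v hv hva, hδ2 y a₂ ha₂]
    have hw1 : w ^ 2 ^ (e + 2) ≠ 1 := fun h => hne₂ (by
      rw [hw, (hcA ha₂ hv).mul_pow, hva] at h
      exact (mul_right_cancel (h.trans (hδ2 y a₂ ha₂).symm)).symm)
    obtain ⟨z, hz⟩ : ∃ z, z = u * w := ⟨_, rfl⟩
    have hzA : z ∈ A := hz ▸ mul_mem hu hwA
    have hδz : δ y z = u ^ 2 ^ (e + 2) := by rw [hz, hδmul y u hu w hwA, hδw, mul_one, hδu]
    have hzu : δ y z ≠ z ^ 2 ^ (e + 2) := by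
      rw [hδz, hz, (hcA hu hwA).mul_pow]
      exact fun h => hw1 (left_eq_mul.mp h)
    have hz1 : z ^ 2 ^ (e + 2) ≠ 1 := by
      intro h
      apply hne₁
      rw [← hua, ← hδz, hδwd y z hzA 1 A.one_mem (by rw [h, one_pow])]
      simp [δ, hν1]
    let D : P → Set P := fun a => {x | x ∈ M ∧ δ x a = a ^ 2 ^ (e + 2)}
    have hsub : D z ⊆ D u := by
      rintro x ⟨hx, hxz⟩
      refine ⟨hx, ?_⟩
      rw [hcomm' x hx y hy z hzA z hzA u hu hxz.symm hδz.symm, hδz]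
    have hyu : y ∈ D u ∧ y ∉ D z := ⟨⟨hy, hδu⟩, fun h => hzu h.2⟩
    have hlt : (D z).ncard < (D u).ncard :=
      Set.ncard_lt_ncard ⟨hsub, fun h => hyu.2 (h hyu.1)⟩ (Set.toFinite _)
    have hu1 : u ^ 2 ^ (e + 2) ≠ 1 := hua ▸ hne₁
    obtain ⟨k, hk, -⟩ := hK.reg _ _ hu1 (by rw [← pow_add, ← two_mul, ← pow_succ']; exact he u hu)
      hz1 (by rw [← pow_add, ← two_mul, ← pow_succ']; exact he z hzA)
    have hle : (D u).ncard ≤ (D z).ncard := by
      refine Set.ncard_le_ncard_of_injOn (fun x => (k : MulAut P) x) ?_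
        ((k : MulAut P).injective.injOn) (Set.toFinite _)
      rintro x ⟨hx, hxu⟩
      refine ⟨hMK k x hx, ?_⟩
      rw [← hδwd _ ((k : MulAut P) u) (hAK k u hu) z hzA (by rw [← map_pow, hk]), hδk, hxu, hk]
    omega
  let M0 : Subgroup P :=
    { carrier := {x | x ∈ M ∧ ∀ a ∈ A, δ x a = 1}
      one_mem' := ⟨M.one_mem, fun a _ => by simp [δ, ν]⟩
      mul_mem' := fun {x x'} hx hx' => ⟨mul_mem hx.1 hx'.1, fun a ha => by
        rw [hadd x x' a ha, hx.2 a ha, hx'.2 a ha, one_mul]⟩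
      inv_mem' := fun {x} hx => ⟨inv_mem hx.1, fun a ha => by
        have h := hadd x⁻¹ x a ha
        rw [inv_mul_cancel, hx.2 a ha, mul_one] at h
        rw [← h]; simp [δ, ν]⟩ }
  have hM0K : Stable K M0 := by
    rintro k x ⟨hx, hx0⟩
    refine ⟨hMK k x hx, fun a ha => ?_⟩
    have ha' : (k : MulAut P).symm a ∈ A := by simpa using hAK k⁻¹ a ha
    rw [← (k : MulAut P).apply_symm_apply a, hδk, hx0 _ ha', map_one]
  have hδ0 : ∀ y ∈ M, ∀ a ∈ A, δ y a = 1 := by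
    intro y hy
    obtain ⟨x, x', hxx, hx1, hx, hx'1, hx'⟩ := hK.two
    obtain ⟨k, hkx, -⟩ := hK.reg x x' hx1 hx hx'1 hx'
    have hk₁ : k ≠ 1 := fun e => hxx (by simpa [e] using hkx)
    refine (mem_of_coset_fixed hK hM0K (y := y) hk₁ (k₁ := k) ⟨mul_mem (inv_mem hy) (hMK k y hy), ?_⟩).2
    intro a ha
    have hyi : ∀ a ∈ A, δ y⁻¹ a = δ y a := by
      intro a ha
      have h := hadd y⁻¹ y a ha
      rw [inv_mul_cancel] at h
      refine mul_right_cancel (b := δ y a) (h.symm.trans ?_)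
      rw [hδ2 y a ha]; simp [δ, ν]
    rw [hadd _ _ a ha, hyi a ha]
    rcases hdich y hy with h | h
    · rcases hdich _ (hMK k y hy) with h' | h'
      · rw [h a ha, h' a ha, one_mul]
      · obtain ⟨b, hb, hb1⟩ : ∃ b ∈ A, b ^ 2 ^ (e + 2) ≠ 1 := by
          by_contra hh
          push Not at hh
          exact hemin (e + 2) (by omega) hh
        refine absurd ?_ hb1
        have hb' : (k : MulAut P).symm b ∈ A := by simpa using hAK k⁻¹ b hb
        rw [← h' b hb, ← (k : MulAut P).apply_symm_apply b, hδk, h _ hb', map_one]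
    · have hb' : (k : MulAut P).symm a ∈ A := by simpa using hAK k⁻¹ a ha
      have h1 : δ ((k : MulAut P) y) a = δ y a := by
        conv_lhs => rw [← (k : MulAut P).apply_symm_apply a, hδk, h _ hb', map_pow,
          MulEquiv.apply_symm_apply]
        rw [h a ha]
      rw [h1, hδ2 y a ha]
  have hνsq : ∀ y ∈ M, ∀ a ∈ A, ν y a * ν y a = 1 := by
    intro y hy
    have hstep : ∀ j : ℕ, j ≤ e → (∀ a ∈ A, ν y a ^ 2 ^ (j + 1) = 1) → ∀ a ∈ A, ν y a * ν y a = 1 := by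
      intro j
      induction j with
      | zero => intro _ h a ha; simpa [sq] using h a ha
      | succ j ih =>
        intro hj h
        refine ih (by omega) fun a ha => ?_
        have hk : ν y a ^ 2 ^ (e + 1) = 1 := hpow1 _ (j + 2) (e + 1) (by omega) (h a ha)
        obtain ⟨b, hb, hbb⟩ := hmemsq (e + 1) (by omega) _ (hνA y a ha) hk
        have hb2 : b ^ 2 ^ (e + 2) = 1 := by
          rw [pow_succ' 2 (e + 1), pow_mul, sq, hbb, hk]
        obtain ⟨c, hc, hcc⟩ := hmemsq (e + 2) (by omega) b hb hb2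
        have hc4 : ν y a = c ^ 4 := by rw [← hbb, ← hcc, pow_four_eq]
        have h1 := hννA y hy a ha
        have h2 : (ν y a * ν y a) ^ 2 ^ j * ν y (ν y a) ^ 2 ^ j = 1 := by
          rw [← (hcA (mul_mem (hνA y a ha) (hνA y a ha)) (hνA y _ (hνA y a ha))).mul_pow, h1, one_pow]
        have h3 : ν y (ν y a) ^ 2 ^ j = 1 := by
          conv_lhs => rw [hc4, hνpow y c hc, ← pow_mul]
          rw [show 4 * 2 ^ j = 2 ^ (j + 1 + 1) by ring]
          exact h c hc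
        rw [h3, mul_one, ← sq, ← pow_mul, ← pow_succ'] at h2
        exact h2
    exact hstep e le_rfl (hδ0 y hy)
  have hν4 : ∀ y ∈ M, ∀ a ∈ A, a ^ 2 ^ 2 = 1 → ν y a = 1 := by
    intro y hy a ha h4
    obtain ⟨c, hc, hcc⟩ := hmemsq 2 (by omega) a ha h4
    rw [← hcc, hνmul y c hc c hc, hνsq y hy c hc]
  have hcomm4 : ∀ x ∈ M, ∀ y ∈ M, (x⁻¹ * y * x * y⁻¹) ^ 2 ^ 2 = 1 := by
    intro x hx y hy
    obtain ⟨c, hc⟩ : ∃ c, c = x⁻¹ * y * x * y⁻¹ := ⟨_, rfl⟩
    have hcAm : c ∈ A := by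
      have := hMcomm x⁻¹ (inv_mem hx) y
      rw [inv_inv] at this
      exact hc ▸ this
    have h1 : c * c * ν y c = ν x⁻¹ (y * y) := by
      calc c * c * ν y c = c * (c * ν y c) := by group
        _ = c * (ν y c * c) := by rw [(hcA hcAm (hνA y c hcAm)).eq]
        _ = _ := by simp only [ν, hc]; group
    have h2 : c * c * (c * c) = 1 := by
      have e1 : c * c = ν x⁻¹ (y * y) * (ν y c)⁻¹ := by rw [← h1]; group
      rw [e1]
      exact sq_one_mul hK (hνsq _ (inv_mem hx) _ (hM2 y hy))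
        (by rw [← mul_inv_rev, hνsq y hy c hcAm, inv_one])
    rw [← hc, show (2 : ℕ) ^ 2 = 4 by norm_num, pow_four_eq]
    exact h2
  have hTmul : ∀ x ∈ M, ∀ y ∈ M, T (x * y) = T x * T y := by
    intro x hx y hy
    have hc : x⁻¹ * y * x * y⁻¹ ∈ A := by simpa using hMcomm x⁻¹ (inv_mem hx) y
    show (x * y * (x * y)) ^ 2 ^ (e + 2) = _
    rw [show x * y * (x * y) = x * x * (x⁻¹ * y * x * y⁻¹) * (y * y) by group,
      (hcA (mul_mem (hM2 x hx) hc) (hM2 y hy)).mul_pow, (hcA (hM2 x hx) hc).mul_pow,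
      hpow1 _ 2 (e + 2) (by omega) (hcomm4 x hx y hy), mul_one]
  have hTker : ∀ x ∈ M, T x = 1 → x ∈ A := by
    intro y hy h
    obtain ⟨b, hb, hbb⟩ := hmemsq (e + 2) (by omega) _ (hM2 y hy) h
    obtain ⟨r, hr, hrr⟩ := hroots _ (hνsq y hy b⁻¹ (inv_mem hb))
    obtain ⟨d, hd⟩ : ∃ d, d = r ^ 2 ^ (e + 1) := ⟨_, rfl⟩
    have hdA : d ∈ A := hd ▸ pow_mem hr _
    have hdd : d * d = ν y b⁻¹ := by
      rw [← hrr, hd, ← pow_add, ← two_mul, ← pow_succ']
    have hd4 : ν y d⁻¹ = 1 := by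
      refine hν4 y hy _ (inv_mem hdA) ?_
      rw [inv_pow, show d ^ 2 ^ 2 = d * d * (d * d) by norm_num [pow_four_eq], hdd, hνsq y hy b⁻¹ (inv_mem hb), inv_one]
    obtain ⟨a, ha⟩ : ∃ a, a = b⁻¹ * d⁻¹ := ⟨_, rfl⟩
    have haA : a ∈ A := ha ▸ mul_mem (inv_mem hb) (inv_mem hdA)
    have hνa : ν y a = ν y b⁻¹ := by rw [ha, hνmul y _ (inv_mem hb) _ (inv_mem hdA), hd4, mul_one]
    have h1 : a * y * (a * y) = 1 := by
      calc a * y * (a * y) = a * (ν y a * a) * (y * y) := by simp only [ν]; group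
        _ = a * a * ν y a * (b * b) := by rw [(hcA (hνA y a haA) haA).eq, hbb]; group
        _ = (b⁻¹ * d⁻¹) * (b⁻¹ * d⁻¹) * (d * d) * (b * b) := by rw [hνa, ← hdd, ha]
        _ = (b⁻¹ * b⁻¹) * ((d⁻¹ * d⁻¹) * (d * d)) * (b * b) := by
          rw [show b⁻¹ * d⁻¹ * (b⁻¹ * d⁻¹) = b⁻¹ * (d⁻¹ * b⁻¹) * d⁻¹ by group,
            (hcA (inv_mem hdA) (inv_mem hb)).eq]
          group
        _ = 1 := by group
    simpa using mul_mem (inv_mem haA) (hinvA _ h1)
  let B : P → P → P := fun x y => ν x (y * y)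
  have hall : ∀ x ∈ M, ∀ y ∈ M, B x y = 1 := by
    intro x hx y hy
    refine beta_trivial hK (M := M) (A := A) hMK T B hTmul (fun m hm => hTsqA m (hM2 m hm)) hTker
      (fun k x _ => hTeq k x) ?_ ?_ ?_ ?_ ?_ ?_ ?_ hx hy
    · intro p hp p' hp' q hq
      have h := hνsq p' hp' _ (hM2 q hq)
      show ν (p * p') (q * q) = ν p (q * q) * ν p' (q * q)
      calc ν (p * p') (q * q) = p * ν p' (q * q) * p⁻¹ * ν p (q * q) := by simp only [ν]; group
        _ = ν p' (q * q) * ν p (q * q) := by rw [inv_comm hK h p]; group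
        _ = _ := (hcA (hνA _ _ (hM2 q hq)) (hνA _ _ (hM2 q hq))).eq
    · intro p hp q hq q' hq'
      have hc : q⁻¹ * q' * q * q'⁻¹ ∈ A := by simpa using hMcomm q⁻¹ (inv_mem hq) q'
      show ν p (q * q' * (q * q')) = ν p (q * q) * ν p (q' * q')
      rw [show q * q' * (q * q') = q * q * (q⁻¹ * q' * q * q'⁻¹) * (q' * q') by group,
        hνmul p _ (mul_mem (hM2 q hq) hc) _ (hM2 q' hq'), hνmul p _ (hM2 q hq) _ hc,
        hν4 p hp _ hc (hcomm4 q hq q' hq'), mul_one]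
    · intro a ha q hq
      show a * (q * q) * a⁻¹ * (q * q)⁻¹ = 1
      rw [(hcA ha (hM2 q hq)).eq]; group
    · intro p hp a ha
      show ν p (a * a) = 1
      rw [hνmul p a ha a ha, hνsq p hp a ha]
    · intro p hp q hq
      exact hνsq p hp _ (hM2 q hq)
    · intro k p q _ _
      simp only [B, ν, map_mul, map_inv]
    · intro p _
      show p * (p * p) * p⁻¹ * (p * p)⁻¹ = 1
      group
  refine hy₀A (hCeq y₀ fun b hb => ?_)
  obtain ⟨y, hy, hTy⟩ : ∃ y ∈ M, T y = b ^ 2 ^ (e + 2) := by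
    have hb2 : b ^ 2 ^ (e + 2) * b ^ 2 ^ (e + 2) = 1 := by
      rw [← pow_add, ← two_mul, ← pow_succ']; exact he b hb
    by_cases hb1 : b ^ 2 ^ (e + 2) = 1
    · exact ⟨1, M.one_mem, by rw [hb1]; simp [T]⟩
    obtain ⟨k, hk, -⟩ := hK.reg _ _ (fun h => hy₀A (hTker y₀ hy₀ h)) (hTsqA y₀ (hM2 y₀ hy₀)) hb1 hb2
    exact ⟨(k : MulAut P) y₀, hMK k _ hy₀, by rw [hTeq, hk]⟩
  have hTy' : (y * y) ^ 2 ^ (e + 2) = b ^ 2 ^ (e + 2) := hTy
  obtain ⟨c, hc, hcc⟩ := hmemsq (e + 2) (by omega) (b * (y * y)⁻¹) (mul_mem hb (inv_mem (hM2 y hy))) (by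
    rw [(hcA hb (inv_mem (hM2 y hy))).mul_pow, inv_pow, hTy', mul_inv_cancel])
  have hνb : ν y₀ b = 1 := by
    have hb' : b = (c * c) * (y * y) := by rw [hcc]; group
    rw [hb', hνmul y₀ _ (mul_mem hc hc) _ (hM2 y hy), hνmul y₀ c hc c hc, hνsq y₀ hy₀ c hc, one_mul]
    exact hall y₀ hy₀ y hy
  calc y₀ * b = ν y₀ b * (b * y₀) := by simp only [ν]; group
    _ = b * y₀ := by rw [hνb, one_mul]

end Cfsg.Agent.RankOne.Higman
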