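import Cfsg.Prelude.Def_LieRecognition
import Mathlib

/-! The 2-group of type A: recognition by a squaring map, and coordinates of a regular module. -/

set_option linter.style.haveILetI false

namespace Cfsg.Agent.RankOne

universe u v

/-- A transitive abelian group of automorphisms makes an elementary abelian group a field. -/
theorem exists_field_coords {V : Type u} [CommGroup V] [Finite V] {K : Type v} [CommGroup K]
    (f : K → V →* V) (hf1 : ∀ x, f 1 x = x) (hfm : ∀ k l x, f (k * l) x = f k (f l x))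
    (hreg : ∀ x y : V, x ≠ 1 → y ≠ 1 → ∃ k, f k x = y) {n : ℕ} (hn : n ≠ 0)
    (hcard : Nat.card V = 2 ^ n) :
    ∃ (ψ : V → GaloisField 2 n) (χ : K →* GaloisField 2 n), Function.Bijective ψ ∧
      (∀ x y, ψ (x * y) = ψ x + ψ y) ∧ ∀ k x, ψ (f k x) = χ k * ψ x := by
  classical
  haveI := Fintype.ofFinite V
  haveI : Nontrivial V := Finite.one_lt_card_iff_nontrivial.mp (hcard ▸ Nat.one_lt_two_pow hn)
  obtain ⟨e, he⟩ := exists_ne (1 : V)
  let ρ : K → AddMonoid.End (Additive V) := fun k => MonoidHom.toAdditive (f k)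
  have hρ : ∀ k l, ρ k * ρ l = ρ (k * l) := fun k l =>
    AddMonoidHom.ext fun x => (congrArg Additive.ofMul (hfm k l x.toMul)).symm
  let C : Subring (AddMonoid.End (Additive V)) := Subring.centralizer (Set.range ρ)
  have hρC : ∀ k, ρ k ∈ C := by
    intro k
    rw [Subring.mem_centralizer_iff]
    rintro _ ⟨l, rfl⟩
    rw [hρ, hρ, mul_comm]
  have hdet : ∀ c ∈ C, ∀ d ∈ C, c (Additive.ofMul e) = d (Additive.ofMul e) → c = d := by
    intro c hc d hd h
    refine DFunLike.ext c d fun x => ?_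
    by_cases hx : x.toMul = 1
    · rw [show x = 0 from hx, map_zero, map_zero]
    obtain ⟨l, hl⟩ := hreg e x.toMul he hx
    have hlx : ρ l (Additive.ofMul e) = x := congrArg Additive.ofMul hl
    rw [← hlx]
    have h1 := DFunLike.congr_fun (Subring.mem_centralizer_iff.mp hc _ ⟨l, rfl⟩) (Additive.ofMul e)
    have h2 := DFunLike.congr_fun (Subring.mem_centralizer_iff.mp hd _ ⟨l, rfl⟩) (Additive.ofMul e)
    change ρ l (c _) = c (ρ l _) at h1
    change ρ l (d _) = d (ρ l _) at h2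
    rw [← h1, ← h2, h]
  have hform : ∀ c : C, c = 0 ∨ ∃ k, (c : AddMonoid.End (Additive V)) = ρ k := by
    intro c
    by_cases hc : ((c : AddMonoid.End (Additive V)) (Additive.ofMul e)).toMul = 1
    · exact Or.inl (Subtype.ext (hdet _ c.2 _ C.zero_mem hc))
    · obtain ⟨k, hk⟩ := hreg e _ he hc
      exact Or.inr ⟨k, hdet _ c.2 _ (hρC k) (congrArg Additive.ofMul hk).symm⟩
  have hf : IsField C := by
    refine ⟨⟨0, 1, fun h => he ?_⟩, fun a b => ?_, fun {a} ha => ?_⟩
    · exact congrArg Additive.toMul (DFunLike.congr_fun (congrArg Subtype.val h) (Additive.ofMul e)).symm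
    · rcases hform a with rfl | ⟨k, hk⟩
      · simp
      rcases hform b with rfl | ⟨l, hl⟩
      · simp
      exact Subtype.ext (by rw [Subring.coe_mul, Subring.coe_mul, hk, hl, hρ, hρ, mul_comm])
    · rcases hform a with rfl | ⟨k, hk⟩
      · exact absurd rfl ha
      refine ⟨⟨ρ k⁻¹, hρC _⟩, Subtype.ext ?_⟩
      rw [Subring.coe_mul, hk, hρ, mul_inv_cancel]
      exact AddMonoidHom.ext fun x => congrArg Additive.ofMul (hf1 x.toMul)
  letI : Field C := hf.toField
  let ev : C → V := fun c => ((c : AddMonoid.End (Additive V)) (Additive.ofMul e)).toMul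
  have hev : Function.Bijective ev := by
    refine ⟨fun c d h => Subtype.ext (hdet _ c.2 _ d.2 (congrArg Additive.ofMul h)), fun x => ?_⟩
    by_cases hx : x = 1
    · exact ⟨0, hx ▸ rfl⟩
    · obtain ⟨k, hk⟩ := hreg e x he hx
      exact ⟨⟨ρ k, hρC k⟩, hk⟩
  haveI : Finite C := Finite.of_injective ev hev.1
  haveI := Fintype.ofFinite C
  haveI := Fintype.ofFinite (GaloisField 2 n)
  let iso : C ≃+* GaloisField 2 n := FiniteField.ringEquivOfCardEq (by
    rw [← Nat.card_eq_fintype_card, ← Nat.card_eq_fintype_card, Nat.card_congr (Equiv.ofBijective ev hev),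
      hcard, GaloisField.card 2 n hn])
  let eq := Equiv.ofBijective ev hev
  have heq : ∀ x, ev (eq.symm x) = x := eq.apply_symm_apply
  refine ⟨fun x => iso (eq.symm x),
    { toFun := fun k => iso ⟨ρ k, hρC k⟩
      map_one' := ?_
      map_mul' := fun k l => ?_ }, iso.bijective.comp eq.symm.bijective, fun x y => ?_, fun k x => ?_⟩
  · exact (congrArg iso (hev.1 (hf1 e) : (⟨ρ 1, hρC 1⟩ : C) = 1)).trans (map_one iso)
  · rw [← map_mul]
    exact congrArg iso (Subtype.ext (hρ k l).symm)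
  · rw [← map_add]
    refine congrArg iso (hev.1 ?_)
    rw [heq]
    exact (congrArg₂ (· * ·) (heq x) (heq y)).symm
  · show iso (eq.symm (f k x)) = iso ⟨ρ k, hρC k⟩ * iso (eq.symm x)
    rw [← map_mul]
    refine congrArg iso (hev.1 ?_)
    rw [heq]
    exact (congrArg (f k) (heq x)).symm

section TypeA

variable {F : Type v} [Field F] (φ : F →+* F)

/-- The matrix with parameters `x` and `y`. -/
noncomputable def aMat (x y : F) : GL (Fin 3) F :=
  Matrix.GeneralLinearGroup.mkOfDetNeZero !![1, 0, 0; x, 1, 0; y, φ x, 1]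
    (by simp [Matrix.det_fin_three])

theorem aMat_mul (x y x' y' : F) :
    aMat φ x y * aMat φ x' y' = aMat φ (x + x') (y + y' + φ x * x') := by
  refine Units.ext ?_
  show !![1, 0, 0; x, 1, 0; y, φ x, 1] * !![1, 0, 0; x', 1, 0; y', φ x', 1] =
    !![1, 0, 0; x + x', 1, 0; y + y' + φ x * x', φ (x + x'), 1]
  ext i j
  fin_cases i <;> fin_cases j <;> simp [Matrix.mul_apply, Fin.sum_univ_three] <;> ring

theorem aMat_zero : aMat φ 0 0 = 1 := by
  refine Units.ext ?_
  show !![1, 0, 0; (0 : F), 1, 0; 0, φ 0, 1] = 1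
  ext i j
  fin_cases i <;> fin_cases j <;> simp

theorem aMat_inj {x y x' y' : F} (h : aMat φ x y = aMat φ x' y') : x = x' ∧ y = y' := by
  have h' : (!![1, 0, 0; x, 1, 0; y, φ x, 1] : Matrix (Fin 3) (Fin 3) F) =
      !![1, 0, 0; x', 1, 0; y', φ x', 1] := congrArg Units.val h
  exact ⟨by simpa using congrFun (congrFun h' 1) 0, by simpa using congrFun (congrFun h' 2) 0⟩

theorem aMat_mem (x y : F) : aMat φ x y ∈ Cfsg.suzukiTypeA F φ :=
  Subgroup.subset_closure ⟨x, y, rfl⟩

theorem aMat_inv (x y : F) : (aMat φ x y)⁻¹ = aMat φ (-x) (-y + φ x * x) := by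
  refine inv_eq_of_mul_eq_one_right ?_
  rw [aMat_mul, ← aMat_zero φ]
  congr 1 <;> ring

theorem exists_eq_aMat {g : GL (Fin 3) F} (hg : g ∈ Cfsg.suzukiTypeA F φ) :
    ∃ x y, g = aMat φ x y := by
  induction hg using Subgroup.closure_induction with
  | mem g hg => obtain ⟨x, y, h⟩ := hg; exact ⟨x, y, Units.ext h⟩
  | one => exact ⟨0, 0, (aMat_zero φ).symm⟩
  | mul g h _ _ ihg ihh =>
    obtain ⟨x, y, rfl⟩ := ihg
    obtain ⟨x', y', rfl⟩ := ihh
    exact ⟨_, _, aMat_mul φ x y x' y'⟩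
  | inv g _ ih => obtain ⟨x, y, rfl⟩ := ih; exact ⟨_, _, aMat_inv φ x y⟩

theorem aMat_bijective :
    Function.Bijective fun p : F × F => (⟨aMat φ p.1 p.2, aMat_mem φ _ _⟩ : Cfsg.suzukiTypeA F φ) := by
  refine ⟨fun p r h => Prod.ext_iff.mpr (aMat_inj φ (congrArg Subtype.val h)), fun g => ?_⟩
  obtain ⟨x, y, h⟩ := exists_eq_aMat φ g.2
  exact ⟨(x, y), Subtype.ext h.symm⟩

/-- A central extension of `F` by `F` with squaring map `x ↦ x φ(x)` is of type A. -/
theorem nonempty_mulEquiv_typeA [Finite F] [CharP F 2] {P : Type u} [Group P]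
    (α e : P → F) (hα : ∀ a b, α (a * b) = α a + α b) (hαs : Function.Surjective α)
    (hcen : ∀ z, α z = 0 → ∀ g, g * z = z * g)
    (hemul : ∀ z w, α z = 0 → α w = 0 → e (z * w) = e z + e w)
    (hesurj : ∀ y, ∃ z, α z = 0 ∧ e z = y) (heinj : ∀ z, α z = 0 → e z = 0 → z = 1)
    (hsq : ∀ p, e (p * p) = α p * φ (α p)) :
    Nonempty (P ≃* Cfsg.suzukiTypeA F φ) := by
  classical
  let A := Cfsg.suzukiTypeA F φ
  have h2 : ∀ a : F, a + a = 0 := CharTwo.add_self_eq_zero
  have hα1 : α 1 = 0 := by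
    have := hα 1 1
    rwa [one_mul, left_eq_add] at this
  have hαinv : ∀ a, α a⁻¹ = α a := fun a => by
    have := hα a a⁻¹
    rw [mul_inv_cancel, hα1] at this
    exact ((CharTwo.add_eq_zero).mp this.symm).symm
  have he1 : e 1 = 0 := by
    have := hemul 1 1 hα1 hα1
    rwa [one_mul, left_eq_add] at this
  have heinv : ∀ z, α z = 0 → e z⁻¹ = e z := fun z hz => by
    have := hemul z z⁻¹ hz ((hαinv z).trans hz)
    rw [mul_inv_cancel, he1] at this
    exact ((CharTwo.add_eq_zero).mp this.symm).symm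
  let D : Subgroup (P × A) :=
    { carrier := {u | ∃ x y, (u.2 : GL (Fin 3) F) = aMat φ x y ∧ α u.1 = x}
      one_mem' := ⟨0, 0, (aMat_zero φ).symm, hα1⟩
      mul_mem' := by
        rintro u w ⟨x, y, hu, hx⟩ ⟨x', y', hw, hx'⟩
        exact ⟨_, _, by rw [Prod.snd_mul, Subgroup.coe_mul, hu, hw, aMat_mul],
          by rw [Prod.fst_mul, hα, hx, hx']⟩
      inv_mem' := by
        rintro u ⟨x, y, hu, hx⟩
        exact ⟨_, _, by rw [Prod.snd_inv, Subgroup.coe_inv, hu, aMat_inv],
          by rw [Prod.fst_inv, hαinv, hx, CharTwo.neg_eq]⟩ }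
  let N0 : Subgroup (P × A) :=
    { carrier := {u | α u.1 = 0 ∧ (u.2 : GL (Fin 3) F) = aMat φ 0 (e u.1)}
      one_mem' := ⟨hα1, by rw [Prod.fst_one, he1, aMat_zero]; rfl⟩
      mul_mem' := by
        rintro u w ⟨hu, hu'⟩ ⟨hw, hw'⟩
        refine ⟨by rw [Prod.fst_mul, hα, hu, hw, add_zero], ?_⟩
        rw [Prod.snd_mul, Subgroup.coe_mul, hu', hw', aMat_mul, Prod.fst_mul, hemul _ _ hu hw]
        simp
      inv_mem' := by
        rintro u ⟨hu, hu'⟩
        refine ⟨by rw [Prod.fst_inv, hαinv, hu], ?_⟩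
        rw [Prod.snd_inv, Subgroup.coe_inv, hu', aMat_inv, Prod.fst_inv, heinv _ hu]
        simp [CharTwo.neg_eq] }
  have hN0c : ∀ u ∈ N0, ∀ w ∈ D, w * u = u * w := by
    rintro u ⟨hu, hu'⟩ w ⟨x, y, hw, hx⟩
    refine Prod.ext (hcen _ hu _) (Subtype.ext ?_)
    rw [Prod.snd_mul, Prod.snd_mul, Subgroup.coe_mul, Subgroup.coe_mul, hu', hw, aMat_mul, aMat_mul]
    simp [add_comm]
  have hD2 : ∀ u ∈ D, u * u ∈ N0 := by
    rintro u ⟨x, y, hu, hx⟩
    refine ⟨by rw [Prod.fst_mul, hα, h2], ?_⟩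
    rw [Prod.snd_mul, Subgroup.coe_mul, hu, aMat_mul, Prod.fst_mul, hsq, hx, h2, h2, zero_add, mul_comm]
  have hN0D : N0 ≤ D := fun u hu => ⟨0, _, hu.2, hu.1⟩
  haveI : Finite A := Finite.of_surjective _ (aMat_bijective φ).2
  let p : Subgroup (P × A) → Prop := fun R => N0 ≤ R ∧ R ≤ D ∧ ∀ u ∈ R, α u.1 = 0 → u ∈ N0
  haveI : Finite P := by
    obtain ⟨g, hg⟩ : ∃ g : P → F × F, Function.Injective g := by
      choose s hs using hαs
      refine ⟨fun a => (α a, e ((s (α a))⁻¹ * a)), fun a b h => ?_⟩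
      obtain ⟨h1, h3⟩ := Prod.ext_iff.mp h
      simp only at h1 h3
      rw [← h1] at h3
      have ha : α ((s (α a))⁻¹ * a) = 0 := by rw [hα, hαinv, hs, h2]
      have hb : α ((s (α a))⁻¹ * b) = 0 := by rw [hα, hαinv, hs, h1, h2]
      have := heinj (((s (α a))⁻¹ * a) * ((s (α a))⁻¹ * b)⁻¹) (by rw [hα, hαinv, ha, hb, add_zero])
        (by rw [hemul _ _ ha ((hαinv _).trans hb), heinv _ hb, h3, h2])
      rw [mul_inv_eq_one] at this
      exact mul_left_cancel this
    exact Finite.of_injective g hg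
  obtain ⟨R, -, ⟨hNR, hRD, hR⟩, hmax⟩ :=
    Finite.exists_le_maximal (p := p) (a := N0) ⟨le_refl _, hN0D, fun _ h _ => h⟩
  have hcommR : ∀ u ∈ D, ∀ w ∈ D, u * w * u⁻¹ * w⁻¹ ∈ N0 := by
    intro u hu w hw
    have hc := hN0c _ (hD2 u hu) w hw
    rw [show u * w * u⁻¹ * w⁻¹ = u * u * (u⁻¹ * w * (u⁻¹ * w)) * (w⁻¹ * w⁻¹) by group]
    exact mul_mem (mul_mem (hD2 u hu) (hD2 _ (mul_mem (inv_mem hu) hw))) (hD2 _ (inv_mem hw))
  have hfull : ∀ d ∈ D, ∃ r ∈ R, α (r⁻¹ * d).1 = 0 := by
    intro d hd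
    by_contra hh
    push Not at hh
    let R' : Subgroup (P × A) :=
      { carrier := {u | u ∈ R ∨ u * d⁻¹ ∈ R}
        one_mem' := Or.inl (one_mem R)
        mul_mem' := by
          have key : ∀ r ∈ R, d * r * d⁻¹ ∈ R := fun r hr => by
            have := mul_mem (hNR (hcommR d hd r (hRD hr))) hr
            rwa [inv_mul_cancel_right] at this
          have hdd : d * d ∈ R := hNR (hD2 d hd)
          rintro u w (hu | hu) (hw | hw)
          · exact Or.inl (mul_mem hu hw)
          · exact Or.inr (by rw [mul_assoc]; exact mul_mem hu hw)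
          · refine Or.inr ?_
            rw [show u * w * d⁻¹ = u * d⁻¹ * (d * w * d⁻¹) by group]
            exact mul_mem hu (key w hw)
          · refine Or.inl ?_
            rw [show u * w = u * d⁻¹ * (d * (w * d⁻¹) * d⁻¹) * (d * d) by group]
            exact mul_mem (mul_mem hu (key _ hw)) hdd
        inv_mem' := by
          rintro u (hu | hu)
          · exact Or.inl (inv_mem hu)
          · refine Or.inr ?_
            have key : d⁻¹ * (u * d⁻¹)⁻¹ * d⁻¹⁻¹ ∈ R := by
              have := mul_mem (hNR (hcommR d⁻¹ (inv_mem hd) _ (hRD (inv_mem hu)))) (inv_mem hu)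
              rwa [inv_mul_cancel_right] at this
            rw [show u⁻¹ * d⁻¹ = d⁻¹ * (u * d⁻¹)⁻¹ * d⁻¹⁻¹ * (d * d)⁻¹ by group]
            exact mul_mem key (inv_mem (hNR (hD2 d hd))) }
    have hle : R ≤ R' := fun u hu => Or.inl hu
    have hp : p R' := by
      refine ⟨hNR.trans hle, ?_, ?_⟩
      · rintro u (hu | hu)
        · exact hRD hu
        · have := mul_mem (hRD hu) hd
          rwa [inv_mul_cancel_right] at this
      · rintro u (hu | hu) h0
        · exact hR u hu h0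
        · exfalso
          refine hh _ hu ?_
          rw [show (u * d⁻¹)⁻¹ * d = d * u⁻¹ * d by group, Prod.fst_mul, Prod.fst_mul, Prod.fst_inv,
            hα, hα, hαinv, h0, add_zero, h2]
    refine hh d (hmax hp hle (Or.inr ?_)) (by simp [hα1])
    rw [mul_inv_cancel]; exact one_mem R
  have hex : ∀ a : P, ∃ b : A, (a, b) ∈ R := by
    intro a
    obtain ⟨r, hr, h0⟩ := hfull (a, ⟨aMat φ (α a) 0, aMat_mem φ _ _⟩) ⟨_, _, rfl, rfl⟩
    let z := (r⁻¹ * (a, (⟨aMat φ (α a) 0, aMat_mem φ _ _⟩ : A))).1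
    have hz : (z, (⟨aMat φ 0 (e z), aMat_mem φ _ _⟩ : A)) ∈ N0 := ⟨h0, rfl⟩
    refine ⟨r.2 * ⟨aMat φ 0 (e z), aMat_mem φ _ _⟩, ?_⟩
    convert mul_mem hr (hNR hz) using 1
    exact Prod.ext (by simp [z]) rfl
  have huniq : ∀ (a : P) (b b' : A), (a, b) ∈ R → (a, b') ∈ R → b = b' := by
    intro a b b' h h'
    have hm := mul_mem (inv_mem h) h'
    obtain ⟨-, h3⟩ := hR _ hm (by simp [hα1])
    simp only [Prod.mk_mul_mk, Prod.inv_mk, inv_mul_cancel, he1, aMat_zero] at h3
    exact inv_mul_eq_one.mp (Subtype.ext h3)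
  choose g hg using hex
  let G : P →* A := MonoidHom.mk' g fun a b =>
    huniq (a * b) _ _ (hg _) (by simpa using mul_mem (hg a) (hg b))
  have hinj : Function.Injective G := by
    refine (injective_iff_map_eq_one G).mpr fun a ha => ?_
    obtain ⟨x, y, hxy, hax⟩ := hRD (hg a)
    change g a = 1 at ha
    have hx0 : α a = 0 := by
      have h3 : aMat φ x y = aMat φ 0 0 := by rw [← hxy, aMat_zero]; exact congrArg Subtype.val ha
      exact hax.trans (aMat_inj φ h3).1
    obtain ⟨-, h3⟩ := hR _ (hg a) hx0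
    refine heinj a hx0 ?_
    have h4 : aMat φ 0 0 = aMat φ 0 (e a) := by
      rw [← h3, aMat_zero]; exact (congrArg Subtype.val ha).symm
    exact (aMat_inj φ h4).2.symm
  choose s hs using hαs
  choose t ht0 ht using hesurj
  have hinj2 : Function.Injective fun p : F × F => s p.1 * t p.2 := by
    rintro ⟨x, y⟩ ⟨x', y'⟩ h
    have hx : x = x' := by simpa [hα, hs, ht0] using congrArg α h
    subst hx
    have := congrArg e (mul_left_cancel (h : s x * t y = s x * t y'))
    simp only [ht] at this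
    rw [this]
  have hcardle : Nat.card A ≤ Nat.card P := by
    rw [← Nat.card_congr (Equiv.ofBijective _ (aMat_bijective φ))]
    exact Nat.card_le_card_of_injective _ hinj2
  exact ⟨MulEquiv.ofBijective G
    ((Nat.bijective_iff_injective_and_card G).mpr ⟨hinj, le_antisymm
      (Nat.card_le_card_of_injective G hinj) hcardle⟩)⟩

end TypeA

end Cfsg.Agent.RankOne
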