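import Cfsg.Agent.Lib.RankOne.HigmanAb
import Cfsg.Agent.Lib.RankOne.FieldWeights
import Cfsg.Agent.Lib.RankOne.TypeA

/-! Higman: a Suzuki 2-group has squares and commutators in its centre. -/
set_option linter.style.haveILetI false
set_option linter.unusedSectionVars false

namespace Cfsg.Agent.RankOne.Higman

universe u

variable {P : Type u} [Group P] {K : Subgroup (MulAut P)} (hK : SuzData K)
include hK

/-- The subgroup generated by the squares. -/
theorem sqSub_props {N : Subgroup P} (hN : N = Subgroup.closure (Set.range fun x : P => x * x)) :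
    N.Normal ∧ Stable K N ∧ ∀ x : P, x * x ∈ N := by
  subst hN
  refine ⟨⟨fun n hn g => ?_⟩, fun k n hn => ?_, fun x => Subgroup.subset_closure ⟨x, rfl⟩⟩
  · refine Subgroup.closure_induction (fun n hn => ?_) ?_ (fun a b _ _ ha hb => ?_) (fun a _ ha => ?_) hn
    · obtain ⟨x, rfl⟩ := hn
      exact Subgroup.subset_closure ⟨g * x * g⁻¹, by group⟩
    · simp
    · rw [show g * (a * b) * g⁻¹ = (g * a * g⁻¹) * (g * b * g⁻¹) by group]
      exact mul_mem ha hb
    · rw [show g * a⁻¹ * g⁻¹ = (g * a * g⁻¹)⁻¹ by group]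
      exact inv_mem ha
  · refine Subgroup.closure_induction (fun n hn => ?_) ?_ (fun a b _ _ ha hb => ?_) (fun a _ ha => ?_) hn
    · obtain ⟨x, rfl⟩ := hn
      exact Subgroup.subset_closure ⟨(k : MulAut P) x, (map_mul _ x x).symm⟩
    · simp
    · rw [map_mul]; exact mul_mem ha hb
    · rw [map_inv]; exact inv_mem ha

/-- A nonabelian stable subgroup is again a Suzuki 2-group. -/
theorem exists_restrict {N : Subgroup P} (hN : Stable K N) (hne : ∃ a b : N, a * b ≠ b * a) :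
    ∃ K' : Subgroup (MulAut N), SuzData K' := by
  obtain ⟨a, b, hab⟩ := hne
  have ha : (a : P) ≠ 1 := fun e => hab (Subtype.ext (by simp [e]))
  obtain ⟨x, y, hxy, hx1, hx, hy1, hy⟩ := hK.two
  have hinvN : ∀ z : P, z * z = 1 → z ∈ N := fun z hz => inv_mem_of_stable hK hN a.2 ha hz
  let r : K →* MulAut N := MonoidHom.mk' (fun k =>
    { toFun := fun n => ⟨(k : MulAut P) n, hN k n n.2⟩
      invFun := fun n => ⟨((k⁻¹ : K) : MulAut P) n, hN k⁻¹ n n.2⟩
      left_inv := fun n => Subtype.ext (by simp)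
      right_inv := fun n => Subtype.ext (by simp)
      map_mul' := fun n m => Subtype.ext (map_mul (k : MulAut P) (n : P) m) })
    fun k l => MulEquiv.ext fun n => Subtype.ext (by simp)
  haveI := hK.fin
  haveI := hK.cyclic
  refine ⟨r.range, inferInstance, hK.pgroup.to_subgroup N, ⟨a, b, hab⟩,
    ⟨⟨x, hinvN x hx⟩, ⟨y, hinvN y hy⟩, fun e => hxy (congrArg Subtype.val e),
      fun e => hx1 (congrArg Subtype.val e), Subtype.ext hx, fun e => hy1 (congrArg Subtype.val e),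
      Subtype.ext hy⟩, isCyclic_of_surjective _ r.rangeRestrict_surjective, fun u v hu1 hu hv1 hv => ?_⟩
  obtain ⟨k, hk, huniq⟩ := hK.reg u v (fun e => hu1 (Subtype.ext e)) (congrArg Subtype.val hu)
    (fun e => hv1 (Subtype.ext e)) (congrArg Subtype.val hv)
  refine ⟨⟨r k, k, rfl⟩, Subtype.ext hk, ?_⟩
  rintro ⟨-, l, rfl⟩ hl
  exact Subtype.ext (congrArg r (huniq l (congrArg Subtype.val hl)))

/-- The subgroup generated by the squares is abelian. -/
theorem sqSub_comm {N : Subgroup P} (hN : N = Subgroup.closure (Set.range fun x : P => x * x)) :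
    ∀ a ∈ N, ∀ b ∈ N, a * b = b * a := by
  haveI := hK.fin
  obtain ⟨hNn, hNK, hNsq⟩ := sqSub_props hK hN
  by_contra hcon
  push Not at hcon
  obtain ⟨a, ha, b, hb, hab⟩ := hcon
  have hne : ¬ N ≤ Subgroup.center P := fun h => hab ((Subgroup.mem_center_iff.mp (h hb) a))
  obtain ⟨y, hy, hyZ⟩ := exists_above hK.pgroup (A := Subgroup.center P) hne
  obtain ⟨hyN, -, hyc⟩ := mem_aboveSub.mp hy
  have hle : N ≤ Subgroup.centralizer {y} := by
    rw [hN, Subgroup.closure_le]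
    rintro - ⟨x, rfl⟩
    rw [SetLike.mem_coe, Subgroup.mem_centralizer_singleton_iff]
    obtain ⟨c, hc⟩ : ∃ c, c = y * x * y⁻¹ * x⁻¹ := ⟨_, rfl⟩
    have hcZ : c ∈ Subgroup.center P := hc ▸ hyc x
    calc (x * x) * y = (c * c) * (x * x) * y := by rw [center_sq hK hcZ, one_mul]
      _ = c * (c * x) * x * y := by group
      _ = c * (x * c) * x * y := by rw [Subgroup.mem_center_iff.mp hcZ x]
      _ = y * (x * x) := by rw [hc]; group
  obtain ⟨K', hK'⟩ := exists_restrict hK hNK ⟨⟨a, ha⟩, ⟨b, hb⟩, fun e => hab (congrArg Subtype.val e)⟩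
  have hyc' : (⟨y, hyN⟩ : N) ∈ Subgroup.center N := Subgroup.mem_center_iff.mpr fun g =>
    Subtype.ext (Subgroup.mem_centralizer_singleton_iff.mp (hle g.2))
  exact hyZ (inv_central hK (congrArg Subtype.val (center_sq hK' hyc')))

/-- In a Suzuki 2-group every square is central. -/
theorem sq_central (x₁ : P) : x₁ * x₁ ∈ Subgroup.center P := by
  classical
  by_contra hx₁
  haveI := hK.fin
  haveI : Fact (Nat.Prime 2) := ⟨Nat.prime_two⟩
  obtain ⟨N, hN⟩ : ∃ N, N = Subgroup.closure (Set.range fun x : P => x * x) := ⟨_, rfl⟩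
  obtain ⟨hNn, hNK, hNsq⟩ := sqSub_props hK hN
  haveI := hNn
  have hNc := sqSub_comm hK hN
  have hN4 : ∀ a ∈ N, a * a * (a * a) = 1 := fun a ha => by
    rw [← pow_four_eq]; exact abelian_pow_four hK hNn hNK hNc ha
  have hNzz : ∀ a ∈ N, a * a ∈ Subgroup.center P := fun a ha => inv_central hK (hN4 a ha)
  have hcen : ∀ z ∈ Subgroup.center P, ∀ g, g * z = z * g := fun z hz g => Subgroup.mem_center_iff.mp hz g
  -- every involution is a square in `N`
  have hsqrt : ∀ z ∈ Subgroup.center P, ∃ a ∈ N, a * a = z := by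
    intro z hz
    by_cases hz1 : z = 1
    · exact ⟨1, N.one_mem, by rw [hz1, one_mul]⟩
    obtain ⟨k, hk, -⟩ := hK.reg _ z (fun h => hx₁ (inv_central hK h))
      (hN4 _ (hNsq x₁)) hz1 (center_sq hK hz)
    exact ⟨(k : MulAut P) (x₁ * x₁), hNK k _ (hNsq x₁), by rw [← map_mul, hk]⟩
  -- `N` is self-centralising
  have hCN : ∀ x : P, (∀ a ∈ N, x * a = a * x) → x ∈ N := by
    intro x hx
    obtain ⟨C, hC⟩ : ∃ C, C = Subgroup.centralizer (N : Set P) := ⟨_, rfl⟩
    haveI hCn : C.Normal := hC ▸ inferInstance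
    have hCK : Stable K C := by
      intro k y hy
      rw [hC, Subgroup.mem_centralizer_iff] at hy ⊢
      intro b hb
      have hb' : (k : MulAut P).symm b ∈ N := by simpa using hNK k⁻¹ b hb
      simpa using congrArg (k : MulAut P) (hy _ hb')
    have hNC : N ≤ C := hC ▸ fun a ha => Subgroup.mem_centralizer_iff.mpr fun b hb => hNc b hb a ha
    have hCc : ∀ a ∈ C, ∀ b ∈ C, a * b = b * a := by
      by_contra hcon
      push Not at hcon
      obtain ⟨a, ha, b, hb, hab⟩ := hcon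
      obtain ⟨K', hK'⟩ := exists_restrict hK hCK ⟨⟨a, ha⟩, ⟨b, hb⟩, fun e => hab (congrArg Subtype.val e)⟩
      have h : (⟨x₁ * x₁, hNC (hNsq x₁)⟩ : C) ∈ Subgroup.center C :=
        Subgroup.mem_center_iff.mpr fun g => Subtype.ext
          ((Subgroup.mem_centralizer_iff.mp (hC ▸ g.2) _ (hNsq x₁)).symm)
      exact hx₁ (inv_central hK (congrArg Subtype.val (center_sq hK' h)))
    have hxC : x ∈ C := hC ▸ Subgroup.mem_centralizer_iff.mpr fun a ha => (hx a ha).symm
    have hx4 := abelian_pow_four hK hCn hCK hCc hxC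
    obtain ⟨a, ha, hax⟩ := hsqrt _ (inv_central hK (x := x * x) (by rw [← pow_four_eq]; exact hx4))
    have h1 : x * a⁻¹ * (x * a⁻¹) = 1 := by
      calc x * a⁻¹ * (x * a⁻¹) = x * (a⁻¹ * x) * a⁻¹ := by group
        _ = (x * x) * (a * a)⁻¹ := by rw [← hx a⁻¹ (inv_mem ha)]; group
        _ = 1 := by rw [hax, mul_inv_cancel]
    simpa using mul_mem (inv_mem_of_stable hK hNK (hNsq x₁) (fun e => hx₁ (e ▸ one_mem _)) h1) ha
  -- coordinates on the centre
  obtain ⟨x₀, y₀, hxy₀, hx₀1, hx₀, hy₀1, hy₀⟩ := hK.two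
  obtain ⟨Z, hZ⟩ : ∃ Z, Z = Subgroup.center P := ⟨_, rfl⟩
  have hZi : ∀ x, x ∈ Z ↔ x * x = 1 := fun x =>
    hZ ▸ ⟨center_sq hK, inv_central hK⟩
  have hZK : Stable K Z := fun k x hx =>
    (hZi _).mpr (by rw [← map_mul, (hZi x).mp hx, map_one])
  obtain ⟨n, hn⟩ := IsPGroup.iff_card.mp (hK.pgroup.to_subgroup Z)
  have hq : 2 < 2 ^ n := by
    haveI := Fintype.ofFinite Z
    rw [← hn, Nat.card_eq_fintype_card, Fintype.two_lt_card_iff]
    exact ⟨1, ⟨x₀, (hZi _).mpr hx₀⟩, ⟨y₀, (hZi _).mpr hy₀⟩, fun e => hx₀1 (congrArg Subtype.val e).symm,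
      fun e => hy₀1 (congrArg Subtype.val e).symm, fun e => hxy₀ (congrArg Subtype.val e)⟩
  have hn0 : n ≠ 0 := by rintro rfl; simp at hq
  letI cZ : CommGroup Z :=
    { (inferInstance : Group Z) with
      mul_comm := fun a b => Subtype.ext (hcen _ (hZ ▸ b.2) a) }
  haveI := hK.cyclic
  letI cK : CommGroup K := IsCyclic.commGroup
  haveI : Finite (MulAut P) := Finite.of_injective _ (DFunLike.coe_injective (F := MulAut P))
  let fZ : K → Z →* Z := fun k =>
    ((k : MulAut P).toMonoidHom.comp Z.subtype).codRestrict Z fun x => hZK k x x.2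
  obtain ⟨ψ, χ, hψ, hψm, hψk⟩ := exists_field_coords fZ (fun x => Subtype.ext rfl)
    (fun k l x => Subtype.ext rfl) (fun a b ha hb => by
      obtain ⟨k, hk, -⟩ := hK.reg a.1 b.1 (fun e => ha (Subtype.ext e)) ((hZi _).mp a.2)
        (fun e => hb (Subtype.ext e)) ((hZi _).mp b.2)
      exact ⟨k, Subtype.ext hk⟩) hn0 hn
  haveI := Fintype.ofFinite (GaloisField 2 n)
  let w : P → GaloisField 2 n := fun z => if h : z ∈ Z then ψ ⟨z, h⟩ else 0
  have hψ1 : ψ 1 = 0 := by
    have := hψm 1 1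
    rwa [one_mul, left_eq_add] at this
  have hw : ∀ {z} (h : z ∈ Z), w z = ψ ⟨z, h⟩ := fun h => dif_pos h
  have hwm : ∀ z r, z ∈ Z → r ∈ Z → w (z * r) = w z + w r := fun z r hz hr => by
    rw [hw hz, hw hr, hw (mul_mem hz hr)]; exact hψm ⟨z, hz⟩ ⟨r, hr⟩
  have hwk : ∀ (k : K) z, z ∈ Z → w ((k : MulAut P) z) = χ k * w z := fun k z hz => by
    rw [hw hz, hw (hZK k z hz)]; exact hψk k ⟨z, hz⟩
  have hw1 : w 1 = 0 := (hw Z.one_mem).trans hψ1
  have hw0 : ∀ z ∈ Z, w z = 0 → z = 1 := fun z hz h => by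
    rw [hw hz] at h
    exact congrArg Subtype.val (hψ.1 (h.trans hψ1.symm))
  have hws : ∀ f, ∃ a ∈ N, w (a * a) = f := fun f => by
    obtain ⟨z, rfl⟩ := hψ.2 f
    obtain ⟨a, ha, haz⟩ := hsqrt z (hZ ▸ z.2)
    exact ⟨a, ha, by rw [haz, hw z.2]⟩
  obtain ⟨k₀, hk₀⟩ := IsCyclic.exists_monoid_generator (α := K)
  obtain ⟨g, hg⟩ : ∃ g, g = χ k₀ := ⟨_, rfl⟩
  have hχne : ∀ k, χ k ≠ 0 := fun k h => by
    have h1 : χ k * χ k⁻¹ = 1 := by rw [← map_mul, mul_inv_cancel, map_one]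
    rw [h, zero_mul] at h1
    exact zero_ne_one h1
  have hg0 : g ≠ 0 := hg ▸ hχne k₀
  have hgen : ∀ f, f ≠ 0 → ∃ i : ℕ, g ^ i = f := by
    intro f hf
    obtain ⟨z, hz⟩ := hψ.2 f
    obtain ⟨u, hu⟩ := hψ.2 1
    have hz1 : (z : P) ≠ 1 := fun e => hf (by rw [← hz, show z = 1 from Subtype.ext e, hψ1])
    have hu1 : (u : P) ≠ 1 := fun e => one_ne_zero (hu.symm.trans (by rw [show u = 1 from Subtype.ext e, hψ1]))
    obtain ⟨k, hk, -⟩ := hK.reg u z hu1 ((hZi _).mp u.2) hz1 ((hZi _).mp z.2)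
    obtain ⟨i, rfl⟩ := (Submonoid.mem_powers_iff _ _).mp (hk₀ k)
    refine ⟨i, ?_⟩
    have h := hψk (k₀ ^ i) u
    rw [show fZ (k₀ ^ i) u = z from Subtype.ext hk, hz, hu, mul_one, map_pow, ← hg] at h
    exact h.symm
  -- the action on `N`
  let ν : P → P → P := fun x a => x * a * x⁻¹ * a⁻¹
  have hνN : ∀ x, ∀ a ∈ N, ν x a ∈ N := fun x a ha => mul_mem (hNn.conj_mem a ha x) (inv_mem ha)
  have hν1 : ∀ x, ∀ z ∈ Z, ν x z = 1 := fun x z hz => by
    show x * z * x⁻¹ * z⁻¹ = 1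
    rw [hcen z (hZ ▸ hz) x]; group
  have hνm : ∀ x, ∀ a ∈ N, ∀ b ∈ N, ν x (a * b) = ν x a * ν x b := by
    intro x a ha b hb
    calc ν x (a * b) = ν x a * (a * ν x b) * a⁻¹ := by simp only [ν]; group
      _ = _ := by rw [hNc a ha _ (hνN x b hb)]; group
  have hνZ : ∀ x, ∀ a ∈ N, ν x a ∈ Z := fun x a ha => (hZi _).mpr (by
    rw [← hνm x a ha a ha, hν1 x _ (hZ ▸ hNzz a ha)])
  have hνadd : ∀ x y, ∀ a ∈ N, ν (x * y) a = ν x a * ν y a := by
    intro x y a ha
    calc ν (x * y) a = ν x (ν y a) * ν y a * ν x a := by simp only [ν]; group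
      _ = ν y a * ν x a := by rw [hν1 x _ (hνZ y a ha), one_mul]
      _ = _ := hNc _ (hνN y a ha) _ (hνN x a ha)
  choose s hs hsw using hws
  have hswd : ∀ x, ∀ a ∈ N, ν x a = ν x (s (w (a * a))) := by
    intro x a ha
    obtain ⟨b, hb⟩ : ∃ b, b = s (w (a * a)) := ⟨_, rfl⟩
    have hbN : b ∈ N := hb ▸ hs _
    have hsq : a * a = b * b := by
      refine mul_inv_eq_one.mp (hw0 _ (hZ ▸ mul_mem (hNzz a ha) (inv_mem (hNzz b hbN))) ?_)
      have h1 := hwm (a * a * (b * b)⁻¹) (b * b) (hZ ▸ mul_mem (hNzz a ha) (inv_mem (hNzz b hbN)))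
        (hZ ▸ hNzz b hbN)
      rw [inv_mul_cancel_right, hb, hsw, right_eq_add] at h1
      rw [hb]; exact h1
    rw [← hb]
    have hz : b⁻¹ * a ∈ Z := (hZi _).mpr (by
      calc b⁻¹ * a * (b⁻¹ * a) = b⁻¹ * (a * b⁻¹) * a := by group
        _ = (b * b)⁻¹ * (a * a) := by rw [hNc a ha b⁻¹ (inv_mem hbN)]; group
        _ = 1 := by rw [hsq, inv_mul_cancel])
    conv_lhs => rw [show a = b * (b⁻¹ * a) by group]
    rw [hνm x b hbN _ (mul_mem (inv_mem hbN) ha), hν1 x _ hz, mul_one]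
  let L : P → GaloisField 2 n →+ GaloisField 2 n := fun x =>
    AddMonoidHom.mk' (fun f => w (ν x (s f))) fun f f' => by
      obtain ⟨a, b, ha, hb⟩ : ∃ a b, a = s f ∧ b = s f' := ⟨_, _, rfl, rfl⟩
      have haN : a ∈ N := ha ▸ hs f
      have hbN : b ∈ N := hb ▸ hs f'
      have hsq : w (a * b * (a * b)) = f + f' := by
        rw [show a * b * (a * b) = a * (b * a) * b by group, hNc b hbN a haN,
          show a * (a * b) * b = a * a * (b * b) by group,
          hwm _ _ (hZ ▸ hNzz a haN) (hZ ▸ hNzz b hbN), ha, hb, hsw, hsw]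
      show w (ν x (s (f + f'))) = w (ν x (s f)) + w (ν x (s f'))
      rw [← hsq, ← hswd x _ (mul_mem haN hbN), hνm x a haN b hbN, hwm _ _ (hνZ x a haN) (hνZ x b hbN),
        ha, hb]
  have hLa : ∀ x, ∀ a ∈ N, L x (w (a * a)) = w (ν x a) := fun x a ha => congrArg w (hswd x a ha).symm
  have hLmem : ∀ x, L x = 0 → x ∈ N := by
    intro x hx
    refine hCN x fun a ha => ?_
    have h := hw0 _ (hνZ x a ha) (by rw [← hLa x a ha, hx, AddMonoidHom.zero_apply])
    exact mul_inv_eq_one.mp (show x * a * (a * x)⁻¹ = 1 by rw [← h]; simp only [ν]; group)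
  have hLmul : ∀ x y, L (x * y) = L x + L y := fun x y => AddMonoidHom.ext fun f => by
    show w (ν (x * y) (s f)) = w (ν x (s f)) + w (ν y (s f))
    rw [hνadd x y _ (hs f), hwm _ _ (hνZ x _ (hs f)) (hνZ y _ (hs f))]
  let φ : P → P := fun x => (k₀ : MulAut P) x
  have hφ : ∀ x f, L (φ x) (g * f) = g * L x f := by
    intro x f
    have hgf : g * f = w ((k₀ : MulAut P) (s f) * (k₀ : MulAut P) (s f)) := by
      rw [← map_mul, hwk _ _ (hZ ▸ hNzz _ (hs f)), hsw, hg]
    rw [hgf, hLa _ _ (hNK k₀ _ (hs f))]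
    show w (ν ((k₀ : MulAut P) x) ((k₀ : MulAut P) (s f))) = g * w (ν x (s f))
    rw [hg, ← hwk _ _ (hνZ x _ (hs f))]
    simp only [ν, map_mul, map_inv]
  let c : P → P → P := fun x y => x⁻¹ * y * x * y⁻¹
  have hcN : ∀ x y, c x y ∈ N := fun x y => by
    show x⁻¹ * y * x * y⁻¹ ∈ N
    rw [show x⁻¹ * y * x * y⁻¹ = (x⁻¹ * x⁻¹) * (x * y * (x * y)) * (y⁻¹ * y⁻¹) by group]
    exact mul_mem (mul_mem (hNsq _) (hNsq _)) (hNsq _)
  have hcc : ∀ x y, c x y * c x y ∈ Z := fun x y => hZ ▸ hNzz _ (hcN x y)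
  let q : P → GaloisField 2 n := fun x => w (x * x * (x * x))
  let β : P → P → GaloisField 2 n := fun x y => w (c x y * c x y)
  have hsqconj : ∀ (g : P), ∀ a ∈ N, g * a * g⁻¹ * (g * a * g⁻¹) = a * a := fun g a ha => by
    rw [show g * a * g⁻¹ * (g * a * g⁻¹) = g * (a * a) * g⁻¹ by group, hcen _ (hNzz a ha) g]; group
  have hmul4 : ∀ a ∈ N, ∀ b ∈ N, a * b * (a * b) = a * a * (b * b) := fun a ha b hb => by
    rw [show a * b * (a * b) = a * (b * a) * b by group, hNc b hb a ha]; group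
  have hβ : ∀ x y, q (x * y) = q x + q y + β x y := by
    intro x y
    show w (x * y * (x * y) * (x * y * (x * y))) = _
    rw [show x * y * (x * y) = x * x * c x y * (y * y) by simp only [c]; group,
      hmul4 _ (mul_mem (hNsq x) (hcN x y)) _ (hNsq y), hmul4 _ (hNsq x) _ (hcN x y),
      hwm _ _ (mul_mem (hZ ▸ hNzz _ (hNsq x)) (hcc x y)) (hZ ▸ hNzz _ (hNsq y)),
      hwm _ _ (hZ ▸ hNzz _ (hNsq x)) (hcc x y)]
    exact add_right_comm _ _ _
  have hβl : ∀ x x' y, β (x * x') y = β x y + β x' y := by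
    intro x x' y
    show w (c (x * x') y * c (x * x') y) = _
    rw [show c (x * x') y = x'⁻¹ * c x y * x'⁻¹⁻¹ * c x' y by simp only [c]; group,
      hmul4 _ (hNn.conj_mem _ (hcN x y) _) _ (hcN x' y), hsqconj _ _ (hcN x y),
      hwm _ _ (hcc x y) (hcc x' y)]
  have hβr : ∀ x y y', β x (y * y') = β x y + β x y' := by
    intro x y y'
    show w (c x (y * y') * c x (y * y')) = _
    rw [show c x (y * y') = c x y * (y * c x y' * y⁻¹) by simp only [c]; group,
      hmul4 _ (hcN x y) _ (hNn.conj_mem _ (hcN x y') _), hsqconj _ _ (hcN x y'),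
      hwm _ _ (hcc x y) (hcc x y')]
  have hLq : ∀ x, L x (q x) = 0 := fun x => by
    show L x (w (x * x * (x * x))) = 0
    rw [hLa x _ (hNsq x), show ν x (x * x) = 1 by simp only [ν]; group, hw1]
  have hker : ∀ x, L x = 0 → q x = 0 ∧ ∀ y, β x y = 0 ∧ β y x = 0 := by
    intro x hx
    have hxN := hLmem x hx
    refine ⟨?_, fun y => ⟨?_, ?_⟩⟩
    · show w (x * x * (x * x)) = 0
      rw [hN4 x hxN, hw1]
    · show w (c x y * c x y) = 0
      have h1 : c x y = x⁻¹ * ν y x * x := by simp only [c, ν]; group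
      have h2 : c x y = ν y x := by
        rw [h1, mul_assoc, ← hcen _ (hZ ▸ hνZ y x hxN) x]; group
      rw [h2, (hZi _).mp (hνZ y x hxN), hw1]
    · show w (c y x * c y x) = 0
      have h1 : c y x = ν y⁻¹ x := by simp only [c, ν]; group
      rw [h1, (hZi _).mp (hνZ _ x hxN), hw1]
  have hcardF : Fintype.card (GaloisField 2 n) = 2 ^ n := by
    rw [← Nat.card_eq_fintype_card, GaloisField.card 2 n hn0]
  have hfix : ∀ x (j : ℕ), 0 < j → j < Fintype.card (GaloisField 2 n) - 1 →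
      L (φ^[j] x) = L x → L x = 0 := by
    intro x j hj hj' hLj
    have hiter : φ^[j] x = ((k₀ ^ j : K) : MulAut P) x := by
      clear hLj hj hj'
      induction j with
      | zero => simp
      | succ j ih => rw [Function.iterate_succ_apply', ih, pow_succ']; rfl
    have hk1 : k₀ ^ j ≠ 1 := by
      intro e
      have hgj : g ^ j = 1 := by rw [hg, ← map_pow, e, map_one]
      have : (Finset.univ.filter fun f : GaloisField 2 n => f ≠ 0) ⊆ (Finset.range j).image (g ^ ·) := by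
        intro f hf
        obtain ⟨i, rfl⟩ := hgen f (Finset.mem_filter.mp hf).2
        exact Finset.mem_image.mpr ⟨i % j, Finset.mem_range.mpr (Nat.mod_lt _ hj), (pow_eq_pow_mod i hgj).symm⟩
      have h := (Finset.card_le_card this).trans Finset.card_image_le
      rw [Finset.filter_ne', Finset.card_erase_of_mem (Finset.mem_univ _), Finset.card_univ,
        Finset.card_range] at h
      omega
    have h0 : L (x⁻¹ * ((k₀ ^ j : K) : MulAut P) x) = 0 := by
      have h1 := hLmul x (x⁻¹ * ((k₀ ^ j : K) : MulAut P) x)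
      rw [mul_inv_cancel_left, ← hiter, hLj, left_eq_add] at h1
      rw [← hiter]
      exact h1
    have hxN : x ∈ N := mem_of_coset_fixed hK hNK hk1 (hLmem _ h0)
    refine AddMonoidHom.ext fun f => ?_
    show w (ν x (s f)) = 0
    rw [show ν x (s f) = 1 by simp only [ν]; rw [hNc x hxN _ (hs f)]; group, hw1]
  have key := quad_eq_zero (g := g) hg0 hgen L hLmul q β hβ hβl hβr hLq hker φ hφ hfix (hcardF ▸ hq) x₁
  exact hx₁ (inv_central hK (hw0 _ (hZ ▸ hNzz _ (hNsq x₁)) key))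

/-- In a Suzuki 2-group every commutator is central. -/
theorem comm_central (x y : P) : x⁻¹ * y⁻¹ * x * y ∈ Subgroup.center P := by
  rw [show x⁻¹ * y⁻¹ * x * y = (x⁻¹ * x⁻¹) * (x * y⁻¹ * (x * y⁻¹)) * (y * y) by group]
  exact mul_mem (mul_mem (sq_central hK _) (sq_central hK _)) (sq_central hK _)

end Cfsg.Agent.RankOne.Higman
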