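import Cfsg.Agent.Lib.RankOne.HigmanClass

/-! Higman: a Suzuki 2-group with `q - 1` involutions has order `q ^ 2` or `q ^ 3`. -/
set_option linter.style.haveILetI false
set_option linter.unusedSectionVars false

namespace Cfsg.Agent.RankOne.Higman

universe u

variable {P : Type u} [Group P] {K : Subgroup (MulAut P)} (hK : SuzData K)
include hK

theorem exists_sign : ∃ ε : P → ℤ, (∀ z, ε z = 1 ∨ ε z = -1) ∧
    (∀ a ∈ Subgroup.center P, ∀ b ∈ Subgroup.center P, ε (a * b) = ε a * ε b) ∧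
    ∃ z ∈ Subgroup.center P, ε z = -1 := by
  classical
  haveI := hK.fin
  haveI : Fact (Nat.Prime 2) := ⟨Nat.prime_two⟩
  obtain ⟨x, -, -, hx1, hx, -, -⟩ := hK.two
  obtain ⟨n, hn⟩ := IsPGroup.iff_card.mp (hK.pgroup.to_subgroup (Subgroup.center P))
  have hn0 : n ≠ 0 := by
    rintro rfl
    rw [pow_zero] at hn
    exact hx1 (Subgroup.mem_bot.mp (Subgroup.eq_bot_of_card_eq _ hn ▸ inv_central hK hx))
  obtain ⟨H, hH⟩ := Sylow.exists_subgroup_card_pow_prime (G := Subgroup.center P) 2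
    (n := n - 1) (hn ▸ pow_dvd_pow 2 (by omega))
  have hidx : H.index = 2 := by
    have h := H.card_mul_index
    rw [hH, hn] at h
    refine Nat.eq_of_mul_eq_mul_left (show 0 < 2 ^ (n - 1) by positivity) (h.trans ?_)
    rw [← pow_succ]; congr 1; omega
  let ε : P → ℤ := fun z => if hz : z ∈ Subgroup.center P then (if (⟨z, hz⟩ : Subgroup.center P) ∈ H then 1 else -1) else 1
  refine ⟨ε, fun z => ?_, fun a ha b hb => ?_, ?_⟩
  · simp only [ε]; split_ifs <;> simp
  · have hab := H.mul_mem_iff_of_index_two hidx (a := ⟨a, ha⟩) (b := ⟨b, hb⟩)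
    simp only [ε, dif_pos ha, dif_pos hb, dif_pos (mul_mem ha hb)]
    have hab' : (⟨a * b, mul_mem ha hb⟩ : Subgroup.center P) ∈ H ↔
        ((⟨a, ha⟩ : Subgroup.center P) ∈ H ↔ (⟨b, hb⟩ : Subgroup.center P) ∈ H) := hab
    by_cases h1 : (⟨a, ha⟩ : Subgroup.center P) ∈ H <;> by_cases h2 : (⟨b, hb⟩ : Subgroup.center P) ∈ H <;>
      simp [h1, h2, hab']
  · obtain ⟨z, hz⟩ : ∃ z, z ∉ H := by
      by_contra hh
      push Not at hh
      rw [Subgroup.index_eq_one.mpr (eq_top_iff.mpr fun z _ => hh z)] at hidx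
      omega
    exact ⟨z, z.2, by simp [ε, hz]⟩

theorem order_eq : Nat.card P = Nat.card (Subgroup.center P) ^ 2 ∨
    Nat.card P = Nat.card (Subgroup.center P) ^ 3 := by
  classical
  haveI := hK.fin
  haveI : Fact (Nat.Prime 2) := ⟨Nat.prime_two⟩
  haveI := Fintype.ofFinite P
  haveI : Finite (MulAut P) := Finite.of_injective _ (DFunLike.coe_injective (F := MulAut P))
  haveI := Fintype.ofFinite K
  obtain ⟨ε, hε1, hεm, z₀, hz₀, hεz₀⟩ := exists_sign hK
  have hε0 : ε 1 = 1 := by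
    have h := hεm 1 (one_mem _) 1 (one_mem _)
    rw [mul_one] at h
    rcases hε1 1 with e | e
    · exact e
    · rw [e] at h; norm_num at h
  have hsq := sq_central hK
  have hcom := comm_central hK
  obtain ⟨x₀, -, -, hx₀1, hx₀, -, -⟩ := hK.two
  obtain ⟨Z, hZ⟩ : ∃ Z, Z = (Finset.univ.filter fun p : P => p ∈ Subgroup.center P) := ⟨_, rfl⟩
  have hZm : ∀ p, p ∈ Z ↔ p ∈ Subgroup.center P := fun p => by simp [hZ]
  have hZcard : Nat.card (Subgroup.center P) = Z.card := by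
    rw [Nat.card_eq_fintype_card, hZ, Fintype.card_of_subtype]
    intro x; simp
  -- the sum over the centre vanishes
  have hsum0 : ∑ p ∈ Z, ε p = 0 := by
    have h : ∑ p ∈ Z, ε p = ∑ p ∈ Z, ε (z₀ * p) := by
      refine Finset.sum_nbij' (fun p => z₀⁻¹ * p) (fun p => z₀ * p) (fun p hp => ?_) (fun p hp => ?_)
        (fun p _ => mul_inv_cancel_left _ _) (fun p _ => inv_mul_cancel_left _ _)
        (fun p _ => by rw [mul_inv_cancel_left])
      · exact (hZm _).mpr (mul_mem (inv_mem hz₀) ((hZm _).mp hp))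
      · exact (hZm _).mpr (mul_mem hz₀ ((hZm _).mp hp))
    have h2 : ∑ p ∈ Z, ε (z₀ * p) = -∑ p ∈ Z, ε p := by
      rw [← Finset.sum_neg_distrib]
      exact Finset.sum_congr rfl fun p hp => by rw [hεm _ hz₀ _ ((hZm _).mp hp), hεz₀, neg_one_mul]
    omega
  have h1Z : (1 : P) ∈ Z := (hZm 1).mpr (one_mem _)
  have horb : ∀ z ∈ Z, z ≠ 1 → ∑ k : K, ε ((k : MulAut P) z) = -1 := by
    intro z hz hz1
    have hz2 := center_sq hK ((hZm z).mp hz)
    have h : ∑ k : K, ε ((k : MulAut P) z) = ∑ p ∈ Z.erase 1, ε p := by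
      refine Finset.sum_bij (fun k _ => (k : MulAut P) z) (fun k _ => ?_) (fun k _ l _ e => ?_)
        (fun p hp => ?_) (fun k _ => rfl)
      · refine Finset.mem_erase.mpr ⟨fun e => hz1 (by simpa using e), (hZm _).mpr ?_⟩
        exact inv_central hK (by rw [← map_mul, hz2, map_one])
      · exact (hK.reg z _ hz1 hz2 (fun e => hz1 (by simpa using e))
          (by rw [← map_mul, hz2, map_one])).unique rfl e.symm
      · obtain ⟨hp1, hp⟩ := Finset.mem_erase.mp hp
        obtain ⟨k, hk, -⟩ := hK.reg z p hz1 hz2 hp1 (center_sq hK ((hZm p).mp hp))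
        exact ⟨k, Finset.mem_univ _, hk⟩
    have h2 := Finset.add_sum_erase Z ε h1Z
    rw [hsum0, hε0] at h2
    omega
  have hKcard : (Fintype.card K : ℤ) = (Z.card : ℤ) - 1 := by
    have h : Fintype.card K = (Z.erase 1).card := by
      refine Finset.card_bij (fun k _ => (k : MulAut P) x₀) (fun k _ => ?_) (fun k _ l _ e => ?_) (fun p hp => ?_)
      · refine Finset.mem_erase.mpr ⟨fun e => hx₀1 (by simpa using e), (hZm _).mpr ?_⟩
        exact inv_central hK (by rw [← map_mul, hx₀, map_one])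
      · exact (hK.reg x₀ _ hx₀1 hx₀ (fun e => hx₀1 (by simpa using e))
          (by rw [← map_mul, hx₀, map_one])).unique rfl e.symm
      · obtain ⟨hp1, hp⟩ := Finset.mem_erase.mp hp
        obtain ⟨k, hk, -⟩ := hK.reg x₀ p hx₀1 hx₀ hp1 (center_sq hK ((hZm p).mp hp))
        exact ⟨k, Finset.mem_univ _, hk⟩
    rw [h, Finset.card_erase_of_mem h1Z, Nat.cast_sub (Finset.card_pos.mpr ⟨1, h1Z⟩)]
    simp
  obtain ⟨S, hS⟩ : ∃ S, S = ∑ p : P, ε (p * p) := ⟨_, rfl⟩
  have hinv : ∀ p : P, p ∈ Z ↔ p * p = 1 := fun p =>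
    (hZm p).trans ⟨center_sq hK, inv_central hK⟩
  have hS1 : ((Z.card : ℤ) - 1) * S = (Z.card : ℤ) * Z.card - (Fintype.card P : ℤ) := by
    have h : ∑ k : K, ∑ p : P, ε ((k : MulAut P) (p * p)) = (Fintype.card K : ℤ) * S := by
      have e : ∀ k : K, ∑ p : P, ε ((k : MulAut P) (p * p)) = S := fun k => by
        rw [hS]
        exact Fintype.sum_equiv (k : MulAut P).toEquiv _ _ fun p => by simp [map_mul]
      simp only [e]
      simp [Finset.card_univ]
    rw [Finset.sum_comm, hKcard] at h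
    rw [← h, ← Finset.sum_filter_add_sum_filter_not Finset.univ (fun p : P => p ∈ Z)]
    have e1 : ∀ p ∈ Finset.univ.filter (fun p : P => p ∈ Z),
        ∑ k : K, ε ((k : MulAut P) (p * p)) = (Z.card : ℤ) - 1 := fun p hp => by
      rw [(hinv p).mp (Finset.mem_filter.mp hp).2]
      simp [hε0, Finset.card_univ, hKcard]
    have e2 : ∀ p ∈ Finset.univ.filter (fun p : P => ¬ p ∈ Z),
        ∑ k : K, ε ((k : MulAut P) (p * p)) = -1 := fun p hp =>
      horb _ ((hZm _).mpr (hsq p)) fun e => (Finset.mem_filter.mp hp).2 ((hinv p).mpr e)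
    rw [Finset.sum_congr rfl e1, Finset.sum_congr rfl e2]
    have e3 : Finset.univ.filter (fun p : P => p ∈ Z) = Z := Finset.filter_univ_mem Z
    have e4 : (Finset.univ.filter (fun p : P => ¬ p ∈ Z)).card = Fintype.card P - Z.card := by
      have := Finset.card_filter_add_card_filter_not (s := (Finset.univ : Finset P)) (fun p => p ∈ Z)
      rw [e3, Finset.card_univ] at this
      omega
    rw [e3, Finset.sum_const, Finset.sum_const, e4, nsmul_eq_mul, nsmul_eq_mul,
      Nat.cast_sub (Finset.card_le_univ Z)]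
    ring
  -- the square of the sum
  let B : P → P → ℤ := fun u v => ε (v⁻¹ * u * v * u⁻¹)
  have hcc : ∀ u v : P, v⁻¹ * u * v * u⁻¹ ∈ Subgroup.center P := fun u v => by
    simpa using hcom v u⁻¹
  have hBr : ∀ u v v', B u (v * v') = B u v * B u v' := by
    intro u v v'
    show ε ((v * v')⁻¹ * u * (v * v') * u⁻¹) = _
    rw [show (v * v')⁻¹ * u * (v * v') * u⁻¹ = v'⁻¹ * (v⁻¹ * u * v * u⁻¹) * v' * (v'⁻¹ * u * v' * u⁻¹) by group,
      Subgroup.mem_center_iff.mp (hcc u v) v'⁻¹, mul_assoc (v⁻¹ * u * v * u⁻¹) v'⁻¹ v', inv_mul_cancel, mul_one,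
      hεm _ (hcc u v) _ (hcc u v')]
  have hBl : ∀ u u' v, B (u * u') v = B u v * B u' v := by
    intro u u' v
    show ε (v⁻¹ * (u * u') * v * (u * u')⁻¹) = _
    rw [show v⁻¹ * (u * u') * v * (u * u')⁻¹ = v⁻¹ * u * v * (v⁻¹ * u' * v * u'⁻¹) * u⁻¹ by group,
      mul_assoc _ (v⁻¹ * u' * v * u'⁻¹) u⁻¹, ← Subgroup.mem_center_iff.mp (hcc u' v) u⁻¹, ← mul_assoc,
      hεm _ (hcc u v) _ (hcc u' v)]
  obtain ⟨R, hR⟩ : ∃ R : Subgroup P, ∀ u, u ∈ R ↔ ∀ v, B u v = 1 := by
    have h1 : ∀ v, B 1 v = 1 := fun v => by simp [B, hε0]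
    exact ⟨{ carrier := {u | ∀ v, B u v = 1}
             one_mem' := h1
             mul_mem' := fun {a b} (ha : ∀ v, B a v = 1) (hb : ∀ v, B b v = 1) v => by
               rw [hBl, ha v, hb v, one_mul]
             inv_mem' := fun {a} (ha : ∀ v, B a v = 1) v => by
               have h := hBl a⁻¹ a v
               rw [inv_mul_cancel, ha v, mul_one, h1] at h
               exact h.symm },
      fun u => Iff.rfl⟩
  have hinner : ∀ u, ∑ v : P, B u v = if u ∈ R then (Fintype.card P : ℤ) else 0 := by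
    intro u
    split_ifs with hu
    · rw [Finset.sum_congr rfl fun v _ => (hR u).mp hu v]; simp [Finset.card_univ]
    · rw [hR] at hu
      push Not at hu
      obtain ⟨w, hw⟩ := hu
      have h : ∑ v : P, B u v = ∑ v : P, B u (w * v) :=
        (Fintype.sum_equiv (Equiv.mulLeft w) _ _ fun v => rfl).symm
      simp only [hBr, ← Finset.mul_sum] at h
      rcases hε1 (w⁻¹ * u * w * u⁻¹) with e | e
      · exact absurd e hw
      · rw [show B u w = -1 from e] at h; omega
  have hterm : ∀ v u : P, ε (v * v) * ε (v * u * (v * u)) = ε (u * u) * B u v := by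
    intro v u
    have hv := hεm _ (hsq v) _ (hsq v)
    rw [center_sq hK (hsq v), hε0] at hv
    rw [show v * u * (v * u) = (v * v) * (v⁻¹ * u * v * u⁻¹) * (u * u) by group,
      hεm _ (mul_mem (hsq v) (hcc u v)) _ (hsq u), hεm _ (hsq v) _ (hcc u v)]
    show _ = ε (u * u) * ε (v⁻¹ * u * v * u⁻¹)
    linear_combination (-(ε (v⁻¹ * u * v * u⁻¹)) * ε (u * u)) * hv
  have hS2 : S * S = (Fintype.card P : ℤ) * ∑ u ∈ Finset.univ.filter (· ∈ R), ε (u * u) := by
    conv_lhs => arg 1; rw [hS]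
    rw [Finset.sum_mul]
    rw [Finset.sum_congr rfl fun v _ => show ε (v * v) * S = ∑ u : P, ε (u * u) * B u v from by
      rw [hS, ← Fintype.sum_equiv (Equiv.mulLeft v) (fun u => ε (v * u * (v * u))) (fun w => ε (w * w))
        (fun u => rfl), Finset.mul_sum]
      exact Finset.sum_congr rfl fun u _ => hterm v u]
    rw [Finset.sum_comm, Finset.mul_sum, Finset.sum_filter]
    refine Finset.sum_congr rfl fun u _ => ?_
    rw [← Finset.mul_sum, hinner]
    split_ifs <;> ring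
  have hRsum : ∑ u ∈ Finset.univ.filter (· ∈ R), ε (u * u) = 0 ∨
      ∃ j : ℕ, ∑ u ∈ Finset.univ.filter (· ∈ R), ε (u * u) = 2 ^ j := by
    by_cases h : ∀ u ∈ R, ε (u * u) = 1
    · obtain ⟨j, hj⟩ := IsPGroup.iff_card.mp (hK.pgroup.to_subgroup R)
      refine Or.inr ⟨j, ?_⟩
      rw [Finset.sum_congr rfl fun u hu => h u (Finset.mem_filter.mp hu).2, Finset.sum_const, nsmul_one,
        ← Fintype.card_subtype, ← Nat.card_eq_fintype_card,
        show Nat.card {x // x ∈ R} = 2 ^ j from hj]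
      push_cast; rfl
    · push Not at h
      obtain ⟨w, hwR, hw⟩ := h
      left
      have h : ∑ u ∈ Finset.univ.filter (· ∈ R), ε (u * u) =
          ∑ u ∈ Finset.univ.filter (· ∈ R), ε (w * u * (w * u)) := by
        refine Finset.sum_nbij' (fun p => w⁻¹ * p) (fun p => w * p) (fun p hp => ?_) (fun p hp => ?_)
          (fun p _ => mul_inv_cancel_left _ _) (fun p _ => inv_mul_cancel_left _ _)
          (fun p _ => by rw [mul_inv_cancel_left])
        · exact Finset.mem_filter.mpr ⟨Finset.mem_univ _, mul_mem (inv_mem hwR) (Finset.mem_filter.mp hp).2⟩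
        · exact Finset.mem_filter.mpr ⟨Finset.mem_univ _, mul_mem hwR (Finset.mem_filter.mp hp).2⟩
      have h' : ∀ u ∈ Finset.univ.filter (· ∈ R), ε (w * u * (w * u)) = -ε (u * u) := fun u hu => by
        have hw' : ε (w * w) = -1 := (hε1 _).resolve_left hw
        have h1 := hterm w u
        rw [show B u w = 1 from (hR u).mp (Finset.mem_filter.mp hu).2 w, hw'] at h1
        linarith
      rw [Finset.sum_congr rfl h', Finset.sum_neg_distrib] at h
      omega
  -- arithmetic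
  obtain ⟨n, hn⟩ := IsPGroup.iff_card.mp (hK.pgroup.to_subgroup (Subgroup.center P))
  obtain ⟨d, hd⟩ := IsPGroup.iff_card.mp hK.pgroup
  rw [← Nat.card_eq_fintype_card, hd, ← hZcard, hn] at hS1
  rw [← Nat.card_eq_fintype_card, hd] at hS2
  push_cast at hS1 hS2
  have hn0 : n ≠ 0 := by
    rintro rfl
    rw [pow_zero] at hn
    exact hx₀1 (Subgroup.mem_bot.mp (Subgroup.eq_bot_of_card_eq _ hn ▸ inv_central hK hx₀))
  obtain ⟨m, r, hr, rfl⟩ : ∃ m r, r < n ∧ d = n * m + r :=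
    ⟨d / n, d % n, Nat.mod_lt _ (Nat.pos_of_ne_zero hn0), (Nat.div_add_mod d n).symm⟩
  have hr0 : r = 0 := by
    have h1 : ((2 : ℤ) ^ n - 1) ∣ (2 : ℤ) ^ r - 1 := by
      have h2 : ((2 : ℤ) ^ n - 1) ∣ (2 ^ n) ^ m - 1 := by
        simpa using sub_dvd_pow_sub_pow ((2 : ℤ) ^ n) 1 m
      have h3 : (2 : ℤ) ^ r - 1 = ((2 : ℤ) ^ n - 1) * (((2 : ℤ) ^ n + 1) - S) -
          ((2 ^ n) ^ m - 1) * 2 ^ r := by
        rw [← pow_mul, show ((2 : ℤ) ^ n - 1) * (((2 : ℤ) ^ n + 1) - S) =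
          2 ^ n * 2 ^ n - 1 - (2 ^ n * 2 ^ n - 2 ^ (n * m + r)) by rw [← hS1]; ring, pow_add]
        ring
      rw [h3]
      exact dvd_sub (dvd_mul_right _ _) (h2.mul_right _)
    by_contra hr0
    have hlt : (2 : ℤ) ^ r < 2 ^ n := pow_lt_pow_right₀ (by norm_num) hr
    have h1' : (2 : ℤ) ≤ 2 ^ r := le_self_pow₀ (by norm_num) hr0
    have := Int.le_of_dvd (by linarith) h1
    linarith
  subst hr0
  rw [add_zero] at *
  rw [hd, hn, ← pow_mul, ← pow_mul]
  rcases lt_or_ge m 4 with hm | hm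
  · have hlt : Nat.card (Subgroup.center P) < Nat.card P := by
      rcases (Subgroup.card_le_card_group (Subgroup.center P)).lt_or_eq with h | h
      · exact h
      · obtain ⟨a, b, hab⟩ := hK.nonabelian
        exact absurd (Subgroup.mem_center_iff.mp (Subgroup.eq_top_of_card_eq _ h ▸ Subgroup.mem_top b) a) hab
    rw [hn, hd] at hlt
    have hm2 : n < n * m := (Nat.pow_lt_pow_iff_right (by norm_num)).mp hlt
    interval_cases m
    · omega
    · omega
    · exact Or.inl rfl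
    · exact Or.inr rfl
  · exfalso
    obtain ⟨e, rfl⟩ : ∃ e, m = e + 2 := ⟨m - 2, by omega⟩
    obtain ⟨t, ht⟩ : ∃ t : ℕ, t = ∑ i ∈ Finset.range e, (2 ^ n) ^ i := ⟨_, rfl⟩
    have hgeom : ((t : ℤ)) * (2 ^ n - 1) = (2 ^ n) ^ e - 1 := by
      rw [ht]; push_cast; exact geom_sum_mul _ _
    have hq2 : (2 : ℤ) ≤ 2 ^ n := le_self_pow₀ (by norm_num) hn0
    have hSt : S = -((2 ^ n) ^ 2 * t) := by
      refine mul_left_cancel₀ (show (2 : ℤ) ^ n - 1 ≠ 0 by linarith) ?_
      rw [hS1, mul_add, pow_add, pow_mul, pow_mul]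
      linear_combination ((2 : ℤ) ^ n) ^ 2 * hgeom
    have ht1 : 1 < t ∧ ¬ 2 ∣ t := by
      obtain ⟨f, rfl⟩ : ∃ f, e = f + 2 := ⟨e - 2, by omega⟩
      rw [ht, Finset.sum_range_succ', Finset.sum_range_succ']
      have h2n : 2 ≤ 2 ^ n := Nat.le_self_pow hn0 2
      have hev : 2 ∣ ∑ x ∈ Finset.range f, (2 ^ n) ^ (x + 1 + 1) :=
        Finset.dvd_sum fun x _ => dvd_pow (dvd_pow_self 2 hn0) (by omega)
      have h2d : 2 ∣ 2 ^ n := dvd_pow_self 2 hn0
      simp only [zero_add, pow_one, pow_zero]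
      omega
    have htdvd : ∃ j, t ∣ 2 ^ j := by
      rcases hRsum with h | ⟨j, hj⟩
      · exfalso
        rw [h, mul_zero, hSt, neg_mul_neg] at hS2
        have : (0 : ℤ) < t := by exact_mod_cast (by omega : 0 < t)
        have h2 : (0 : ℤ) < (2 ^ n) ^ 2 * (t : ℤ) := by positivity
        nlinarith
      · refine ⟨n * (e + 2) + j, Int.natCast_dvd_natCast.mp ?_⟩
        push_cast
        rw [pow_add, ← hj, ← hS2, hSt, neg_mul_neg]
        exact (dvd_mul_left _ _).mul_right _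
    obtain ⟨j, hj⟩ := htdvd
    obtain ⟨i, -, rfl⟩ := (Nat.dvd_prime_pow Nat.prime_two).mp hj
    rcases Nat.eq_zero_or_pos i with rfl | hi
    · simp at ht1
    · exact ht1.2 (dvd_pow_self 2 hi.ne')

end Cfsg.Agent.RankOne.Higman
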