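import Cfsg.Agent.Lib.RankOne.Higman
import Cfsg.Agent.Lib.RankOne.TypeA
import Cfsg.Agent.Lib.RankOne.FrobeniusMaps

/-! Higman: a Suzuki 2-group of order `q²` is of type A. -/

set_option linter.style.haveILetI false

namespace Cfsg.Agent.RankOne.Higman

universe u

variable {P : Type u} [Group P] {K : Subgroup (MulAut P)} (hK : SuzData K)
include hK

theorem center_iff {x : P} : x ∈ Subgroup.center P ↔ x * x = 1 :=
  ⟨center_sq hK, inv_central hK⟩

theorem center_stable : Stable K (Subgroup.center P) := fun k x hx =>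
  (center_iff hK).mpr (by rw [← map_mul, (center_iff hK).mp hx, map_one])

theorem sq_structure (hcard : Nat.card P = Nat.card (Subgroup.center P) ^ 2) :
    (∀ p : P, p * p ∈ Subgroup.center P) ∧
      (∀ p r : P, p * r * p⁻¹ * r⁻¹ ∈ Subgroup.center P) ∧
      ∀ p r : P, p ∉ Subgroup.center P → r ∉ Subgroup.center P →
        ∃ k : K, ((k : MulAut P) p)⁻¹ * r ∈ Subgroup.center P := by
  classical
  haveI := hK.fin
  obtain ⟨Z, hZ⟩ : ∃ Z, Z = Subgroup.center P := ⟨_, rfl⟩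
  haveI : Z.Normal := hZ ▸ inferInstance
  have hZi : ∀ x, x ∈ Z ↔ x * x = 1 := fun x => hZ ▸ center_iff hK
  have hZc : ∀ z ∈ Z, ∀ g, g * z = z * g := fun z hz g => inv_comm hK ((hZi z).mp hz) g
  have hZK : Stable K Z := hZ ▸ center_stable hK
  rw [← hZ] at hcard ⊢
  have hne : ¬ (⊤ : Subgroup P) ≤ Z := by
    intro h
    obtain ⟨x, y, hxy⟩ := hK.nonabelian
    exact hxy (hZc y (h trivial) x)
  obtain ⟨y, hy, hyZ⟩ := exists_above hK.pgroup (A := Z) hne
  have hMK : Stable K (aboveSub Z (⊤ : Subgroup P)) := aboveSub_stable hZK fun _ _ _ => trivial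
  have hy2 : y * y ∈ Z := hy.2.1
  have hfix : ∀ m : K, y⁻¹ * (m : MulAut P) y ∈ Z → m = 1 := by
    intro m hm
    refine K_fix hK (fun e => hyZ ((hZi y).mpr e)) ((hZi _).mp hy2) ?_
    rw [map_mul]
    calc (m : MulAut P) y * (m : MulAut P) y
        = y * (y⁻¹ * (m : MulAut P) y) * y * (y⁻¹ * (m : MulAut P) y) := by group
      _ = y * y * ((y⁻¹ * (m : MulAut P) y) * (y⁻¹ * (m : MulAut P) y)) := by
          rw [mul_assoc y _ y, ← hZc _ hm y]; group
      _ = y * y := by rw [(hZi _).mp hm, mul_one]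
  have hnot : ∀ k : K, (k : MulAut P) y ∉ Z := fun k h => hyZ (by simpa using hZK k⁻¹ _ h)
  let orb : K → {c : P ⧸ Z // c ≠ 1} := fun k =>
    ⟨((k : MulAut P) y : P ⧸ Z), fun e => hnot k ((QuotientGroup.eq_one_iff _).mp e)⟩
  have horb : Function.Injective orb := by
    intro k l e
    have h1 := QuotientGroup.eq.mp (congrArg Subtype.val e)
    have h2 := hfix (k⁻¹ * l) (by simpa using hZK k⁻¹ _ h1)
    exact inv_mul_eq_one.mp h2
  obtain ⟨x₀, -, -, hx₀1, hx₀, -, -⟩ := hK.two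
  let inv0 : K → {z : Z // z ≠ 1} := fun k =>
    ⟨⟨(k : MulAut P) x₀, (hZi _).mpr (by rw [← map_mul, hx₀, map_one])⟩,
      fun e => hx₀1 (by simpa using congrArg Subtype.val e)⟩
  have hinv0 : Function.Bijective inv0 := by
    refine ⟨fun k l e => ?_, fun z => ?_⟩
    · have h := congrArg (fun z : {z : Z // z ≠ 1} => (z.1 : P)) e
      have hl1 : (l : MulAut P) x₀ ≠ 1 := by simpa using hx₀1
      exact (hK.reg x₀ _ hx₀1 hx₀ hl1 (by rw [← map_mul, hx₀, map_one])).unique h rfl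
    · obtain ⟨k, hk, -⟩ := hK.reg x₀ z.1 hx₀1 hx₀ (fun e => z.2 (Subtype.ext e)) ((hZi _).mp z.1.2)
      exact ⟨k, Subtype.ext (Subtype.ext hk)⟩
  have hquot : Nat.card (P ⧸ Z) = Nat.card Z := by
    have h := Subgroup.card_eq_card_quotient_mul_card_subgroup Z
    rw [hcard, sq] at h
    exact Nat.eq_of_mul_eq_mul_right Nat.card_pos h.symm
  have horbs : Function.Surjective orb := by
    refine ((Nat.bijective_iff_injective_and_card orb).mpr ⟨horb, ?_⟩).2
    rw [Nat.card_congr (Equiv.ofBijective inv0 hinv0)]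
    haveI := Fintype.ofFinite Z
    haveI := Fintype.ofFinite (P ⧸ Z)
    simp only [Nat.card_eq_fintype_card, Fintype.card_subtype_compl, Fintype.card_subtype_eq]
    simp only [Nat.card_eq_fintype_card] at hquot
    rw [hquot]
  have hrep : ∀ p, p ∉ Z → ∃ k : K, ((k : MulAut P) y)⁻¹ * p ∈ Z := by
    intro p hp
    obtain ⟨k, hk⟩ := horbs ⟨(p : P ⧸ Z), fun e => hp ((QuotientGroup.eq_one_iff _).mp e)⟩
    exact ⟨k, QuotientGroup.eq.mp (congrArg Subtype.val hk)⟩
  have hall : ∀ p, p ∈ aboveSub Z (⊤ : Subgroup P) := by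
    intro p
    by_cases hp : p ∈ Z
    · exact le_aboveSub le_top hp
    obtain ⟨k, hk⟩ := hrep p hp
    simpa using mul_mem (hMK k y hy) (le_aboveSub le_top hk)
  refine ⟨fun p => (hall p).2.1, fun p r => (hall p).2.2 r, fun p r hp hr => ?_⟩
  obtain ⟨k, hk⟩ := hrep p hp
  obtain ⟨l, hl⟩ := hrep r hr
  refine ⟨l * k⁻¹, ?_⟩
  have h1 := hZK (l * k⁻¹) _ hk
  rw [map_mul, map_inv, show ((l * k⁻¹ : K) : MulAut P) ((k : MulAut P) y) = (l : MulAut P) y by
    rw [Subgroup.coe_mul, MulAut.mul_apply]; simp] at h1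
  rw [show (((l * k⁻¹ : K) : MulAut P) p)⁻¹ * r =
    (((l : MulAut P) y)⁻¹ * ((l * k⁻¹ : K) : MulAut P) p)⁻¹ * (((l : MulAut P) y)⁻¹ * r) by group]
  exact mul_mem (inv_mem h1) hl

theorem exists_typeA (hcard : Nat.card P = Nat.card (Subgroup.center P) ^ 2) :
    ∃ (F : Type) (_ : Field F) (_ : Fintype F) (φ : F ≃+* F),
      Fintype.card F = Nat.card (Subgroup.center P) ∧ φ ≠ RingEquiv.refl F ∧ Odd (orderOf φ) ∧
      Nonempty (P ≃* Cfsg.suzukiTypeA F (φ : F →+* F)) := by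
  classical
  haveI := hK.fin
  obtain ⟨hsqZ, hcomZ, htrans⟩ := sq_structure hK hcard
  obtain ⟨Z, hZ⟩ : ∃ Z, Z = Subgroup.center P := ⟨_, rfl⟩
  haveI : Z.Normal := hZ ▸ inferInstance
  have hZi : ∀ x, x ∈ Z ↔ x * x = 1 := fun x => hZ ▸ center_iff hK
  have hZc : ∀ z ∈ Z, ∀ g, g * z = z * g := fun z hz g => inv_comm hK ((hZi z).mp hz) g
  have hZK : Stable K Z := hZ ▸ center_stable hK
  rw [← hZ] at hcard hsqZ hcomZ htrans ⊢
  obtain ⟨x₀, -, -, hx₀1, hx₀, -, -⟩ := hK.two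
  haveI : Fact (Nat.Prime 2) := ⟨Nat.prime_two⟩
  obtain ⟨n, hn⟩ := IsPGroup.iff_card.mp (hK.pgroup.to_subgroup Z)
  have hn0 : n ≠ 0 := by
    rintro rfl
    rw [pow_zero] at hn
    exact hx₀1 (Subgroup.mem_bot.mp (Subgroup.eq_bot_of_card_eq Z hn ▸ (hZi x₀).mpr hx₀))
  have hquot : Nat.card (P ⧸ Z) = 2 ^ n := by
    have h := Subgroup.card_eq_card_quotient_mul_card_subgroup Z
    rw [hcard, sq] at h
    rw [← hn]
    exact Nat.eq_of_mul_eq_mul_right Nat.card_pos h.symm
  letI cV : CommGroup (P ⧸ Z) :=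
    { (inferInstance : Group (P ⧸ Z)) with
      mul_comm := fun a b => by
        obtain ⟨x, rfl⟩ := QuotientGroup.mk_surjective a
        obtain ⟨r, rfl⟩ := QuotientGroup.mk_surjective b
        rw [← QuotientGroup.mk_mul, ← QuotientGroup.mk_mul, QuotientGroup.eq]
        have := hcomZ r⁻¹ x⁻¹
        rwa [inv_inv, inv_inv, show r⁻¹ * x⁻¹ * r * x = (x * r)⁻¹ * (r * x) by group] at this }
  letI cZ : CommGroup Z :=
    { (inferInstance : Group Z) with mul_comm := fun a b => Subtype.ext (hZc b b.2 a) }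
  haveI := hK.cyclic
  letI cK : CommGroup K := IsCyclic.commGroup
  let fV : K → (P ⧸ Z) →* (P ⧸ Z) := fun k =>
    QuotientGroup.map Z Z (k : MulAut P).toMonoidHom fun x hx => hZK k x hx
  let fZ : K → Z →* Z := fun k =>
    ((k : MulAut P).toMonoidHom.comp Z.subtype).codRestrict Z fun x => hZK k x x.2
  obtain ⟨ψV, χV, hψV, hψVm, hψVk⟩ := exists_field_coords fV (fun x => by
      obtain ⟨x, rfl⟩ := QuotientGroup.mk_surjective x; rfl) (fun k l x => by
      obtain ⟨x, rfl⟩ := QuotientGroup.mk_surjective x; rfl) (fun a b ha hb => by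
      obtain ⟨x, rfl⟩ := QuotientGroup.mk_surjective a
      obtain ⟨r, rfl⟩ := QuotientGroup.mk_surjective b
      obtain ⟨k, hk⟩ := htrans x r (fun h => ha ((QuotientGroup.eq_one_iff _).mpr h))
        (fun h => hb ((QuotientGroup.eq_one_iff _).mpr h))
      exact ⟨k, QuotientGroup.eq.mpr hk⟩) hn0 hquot
  obtain ⟨ψE, χE, hψE, hψEm, hψEk⟩ := exists_field_coords fZ (fun x => Subtype.ext rfl)
    (fun k l x => Subtype.ext rfl) (fun a b ha hb => by
      obtain ⟨k, hk, -⟩ := hK.reg a.1 b.1 (fun e => ha (Subtype.ext e)) ((hZi _).mp a.2)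
        (fun e => hb (Subtype.ext e)) ((hZi _).mp b.2)
      exact ⟨k, Subtype.ext hk⟩) hn0 hn
  haveI := Fintype.ofFinite (GaloisField 2 n)
  have h2 : ∀ x : GaloisField 2 n, x + x = 0 := CharTwo.add_self_eq_zero
  let a : P → GaloisField 2 n := fun p => ψV p
  let w : P → GaloisField 2 n := fun z => if h : z ∈ Z then ψE ⟨z, h⟩ else 0
  have hψV1 : ψV 1 = 0 := by
    have := hψVm 1 1
    rwa [one_mul, left_eq_add] at this
  have hψE1 : ψE 1 = 0 := by
    have := hψEm 1 1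
    rwa [one_mul, left_eq_add] at this
  have ha : ∀ p r, a (p * r) = a p + a r := fun p r => hψVm (p : P ⧸ Z) (r : P ⧸ Z)
  have ha0 : ∀ {p}, a p = 0 ↔ p ∈ Z := fun {p} =>
    ⟨fun h => (QuotientGroup.eq_one_iff p).mp (hψV.1 (h.trans hψV1.symm)),
      fun h => by show ψV (p : P ⧸ Z) = 0; rw [(QuotientGroup.eq_one_iff p).mpr h, hψV1]⟩
  have has : Function.Surjective a := fun x => by
    obtain ⟨c, rfl⟩ := hψV.2 x
    obtain ⟨p, rfl⟩ := QuotientGroup.mk_surjective c
    exact ⟨p, rfl⟩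
  have hak : ∀ (k : K) p, a ((k : MulAut P) p) = χV k * a p := fun k p => hψVk k (p : P ⧸ Z)
  have haeq : ∀ {p r}, a p = a r → ∃ z ∈ Z, r = p * z := fun {p r} h =>
    ⟨p⁻¹ * r, QuotientGroup.eq.mp (hψV.1 h), by group⟩
  have hw : ∀ {z} (h : z ∈ Z), w z = ψE ⟨z, h⟩ := fun h => dif_pos h
  have hwm : ∀ z r, z ∈ Z → r ∈ Z → w (z * r) = w z + w r := fun z r hz hr => by
    rw [hw hz, hw hr, hw (mul_mem hz hr)]; exact hψEm ⟨z, hz⟩ ⟨r, hr⟩
  have hwk : ∀ (k : K) z, z ∈ Z → w ((k : MulAut P) z) = χE k * w z := fun k z hz => by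
    rw [hw hz, hw (hZK k z hz)]; exact hψEk k ⟨z, hz⟩
  have hw0 : ∀ z ∈ Z, w z = 0 → z = 1 := fun z hz h => by
    rw [hw hz] at h
    exact congrArg Subtype.val (hψE.1 (h.trans hψE1.symm))
  have hws : ∀ x, ∃ z ∈ Z, w z = x := fun x => by
    obtain ⟨z, rfl⟩ := hψE.2 x
    exact ⟨z, z.2, hw z.2⟩
  have hchiE : ∀ k, χE k = 1 → k = 1 := fun k h => by
    refine K_fix hK hx₀1 hx₀ ?_
    have hz := (hZi x₀).mpr hx₀
    have h1 := hwk k x₀ hz
    rw [h, one_mul, hw hz, hw (hZK k x₀ hz)] at h1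
    exact congrArg Subtype.val (hψE.1 h1)
  -- the squaring map
  obtain ⟨sec, hsec⟩ := has.hasRightInverse
  let q : GaloisField 2 n → GaloisField 2 n := fun x => w (sec x * sec x)
  have hqQ : ∀ p, q (a p) = w (p * p) := by
    intro p
    obtain ⟨z, hz, hp⟩ := haeq (hsec (a p))
    show w (sec (a p) * sec (a p)) = _
    conv_rhs => rw [hp]
    congr 1
    calc sec (a p) * sec (a p) = sec (a p) * sec (a p) * (z * z) := by rw [(hZi z).mp hz, mul_one]
      _ = sec (a p) * (sec (a p) * z) * z := by group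
      _ = sec (a p) * (z * sec (a p)) * z := by rw [hZc z hz (sec (a p))]
      _ = _ := by group
  have hqk : ∀ (k : K) x, q (χV k * x) = χE k * q x := fun k x => by
    obtain ⟨p, rfl⟩ := has x
    rw [← hak, hqQ, hqQ, ← map_mul, hwk k _ (hsqZ p)]
  have hq00 : ∀ x, q x = 0 → x = 0 := fun x h => by
    obtain ⟨p, rfl⟩ := has x
    rw [hqQ] at h
    exact ha0.mpr ((hZi p).mpr (hw0 _ (hsqZ p) h))
  have hq0 : q 0 = 0 := by
    have h := hqQ 1
    rw [ha0.mpr (one_mem Z), one_mul, hw (one_mem Z)] at h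
    exact h.trans hψE1
  have honto : ∀ x, x ≠ 0 → ∃ k, χV k = x := fun x hx => by
    obtain ⟨p, hp⟩ := has 1
    obtain ⟨r, rfl⟩ := has x
    obtain ⟨k, hk⟩ := htrans p r (fun h => one_ne_zero (hp.symm.trans (ha0.mpr h)))
      (fun h => hx (ha0.mpr h))
    refine ⟨k, ?_⟩
    have h1 := congrArg ψV (QuotientGroup.eq.mpr hk)
    change a ((k : MulAut P) p) = a r at h1
    rwa [hak, hp, mul_one] at h1
  have hc0 : q 1 ≠ 0 := fun h => one_ne_zero (hq00 1 h)
  have hqinj : Function.Injective q := by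
    intro x r h
    by_cases hx : x = 0
    · subst hx; exact (hq00 r (h ▸ hq0)).symm
    by_cases hr : r = 0
    · subst hr; exact hq00 x (h.trans hq0)
    obtain ⟨k, rfl⟩ := honto x hx
    obtain ⟨l, rfl⟩ := honto r hr
    rw [← mul_one (χV k), ← mul_one (χV l), hqk, hqk] at h
    have h3 : χE (k * l⁻¹) = 1 := by
      rw [map_mul, mul_right_cancel₀ hc0 h, ← map_mul, mul_inv_cancel, map_one]
    rw [mul_inv_eq_one.mp (hchiE _ h3)]
  have hquad : ∀ x y z, q (x + y + z) + q (x + y) + q (x + z) + q (y + z) + q x + q y + q z = 0 := by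
    intro x y z
    obtain ⟨p, rfl⟩ := has x
    obtain ⟨r, rfl⟩ := has y
    obtain ⟨s, rfl⟩ := has z
    have hb : ∀ p r : P, p⁻¹ * r * p * r⁻¹ ∈ Z := fun p r => by simpa using hcomZ p⁻¹ r
    have hsq : ∀ p r : P, w (p * r * (p * r)) = w (p * p) + w (p⁻¹ * r * p * r⁻¹) + w (r * r) := by
      intro p r
      rw [← hwm _ _ (hsqZ p) (hb p r), ← hwm _ _ (mul_mem (hsqZ p) (hb p r)) (hsqZ r)]
      congr 1; group
    have hbl : w (p⁻¹ * (r * s) * p * (r * s)⁻¹) = w (p⁻¹ * r * p * r⁻¹) + w (p⁻¹ * s * p * s⁻¹) := by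
      rw [← hwm _ _ (hb p r) (hb p s)]
      congr 1
      calc p⁻¹ * (r * s) * p * (r * s)⁻¹ = p⁻¹ * r * p * (p⁻¹ * s * p * s⁻¹) * r⁻¹ := by group
        _ = _ := by rw [mul_assoc _ (p⁻¹ * s * p * s⁻¹) r⁻¹, ← hZc _ (hb p s) r⁻¹, mul_assoc (p⁻¹ * r * p) r⁻¹]
    rw [show a p + a r + a s = a (p * (r * s)) by rw [ha, ha, add_assoc], ← ha, ← ha, ← ha,
      hqQ, hqQ, hqQ, hqQ, hqQ, hqQ, hqQ, hsq p (r * s), hbl, hsq p r, hsq p s]
    linear_combination h2 (w (p * p)) + h2 (w (p * p)) + h2 (w (r * r)) + h2 (w (s * s)) +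
      h2 (w (r * s * (r * s))) + h2 (w (p⁻¹ * r * p * r⁻¹)) + h2 (w (p⁻¹ * s * p * s⁻¹))
  haveI := finite_ringEquiv (F := GaloisField 2 n)
  haveI := Fintype.ofFinite (GaloisField 2 n ≃+* GaloisField 2 n)
  let J : GaloisField 2 n →* GaloisField 2 n :=
    { toFun := fun x => q x / q 1
      map_one' := div_self hc0
      map_mul' := fun x y => by
        by_cases hx : x = 0
        · subst hx; simp [hq0]
        obtain ⟨k, rfl⟩ := honto x hx
        rw [hqk]
        have h1 : q (χV k) = χE k * q 1 := by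
          conv_lhs => rw [← mul_one (χV k)]
          exact hqk k 1
        rw [h1]; field_simp }
  obtain ⟨c, hc⟩ := exists_coeff_quad hquad
  let mon : (GaloisField 2 n ≃+* GaloisField 2 n) × (GaloisField 2 n ≃+* GaloisField 2 n) →
      (GaloisField 2 n →* GaloisField 2 n) := fun p =>
    ((p.1 : GaloisField 2 n →+* GaloisField 2 n) : GaloisField 2 n →* GaloisField 2 n) *
      ((p.2 : GaloisField 2 n →+* GaloisField 2 n) : GaloisField 2 n →* GaloisField 2 n)
  obtain ⟨⟨σ, τ⟩, hJ⟩ : ∃ p, mon p = J := by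
    by_contra hh
    push Not at hh
    let g : (GaloisField 2 n →* GaloisField 2 n) → GaloisField 2 n := fun m =>
      (if m = J then -q 1 else 0) + ∑ p, if mon p = m then c p else 0
    have hsum : ∑ m ∈ insert J (Finset.univ.image mon), g m • (m : GaloisField 2 n → GaloisField 2 n) = 0 := by
      funext x
      simp only [Finset.sum_apply, Pi.smul_apply, smul_eq_mul, Pi.zero_apply, g, add_mul,
        Finset.sum_add_distrib, Finset.sum_mul, ite_mul, zero_mul]
      rw [Finset.sum_ite_eq' _ J (fun m => -q 1 * m x), if_pos (Finset.mem_insert_self _ _),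
        Finset.sum_comm]
      rw [Finset.sum_congr rfl fun p _ => (Finset.sum_ite_eq _ (mon p) (fun m => c p * m x)).trans
        (if_pos (Finset.mem_insert_of_mem (Finset.mem_image_of_mem mon (Finset.mem_univ p))))]
      have h1 : ∑ p, c p * mon p x = q x := (hc x).symm
      rw [h1]
      show -q 1 * (q x / q 1) + q x = 0
      field_simp; ring
    have h := linearIndependent_iff'.mp (linearIndependent_monoidHom (GaloisField 2 n) (GaloisField 2 n))
      _ g hsum J (Finset.mem_insert_self _ _)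
    simp only [g, hh, ↓reduceIte, Finset.sum_const_zero, add_zero, neg_eq_zero] at h
    exact hc0 h
  have hqJ : ∀ x, q x = q 1 * (σ x * τ x) := fun x => by
    rw [show σ x * τ x = q x / q 1 from DFunLike.congr_fun hJ x]; field_simp
  obtain ⟨φ, hφ⟩ : ∃ φ : GaloisField 2 n ≃+* GaloisField 2 n, φ = σ.symm.trans τ := ⟨_, rfl⟩
  have hφσ : ∀ x, φ (σ x) = τ x := fun x => by simp [hφ]
  have hq' : ∀ x, q x = q 1 * (σ x * φ (σ x)) := fun x => by rw [hφσ, hqJ]
  have hφ1 : φ ≠ RingEquiv.refl _ := by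
    intro e
    obtain ⟨p, r, hpr⟩ := hK.nonabelian
    apply hpr
    have hb : p⁻¹ * r * p * r⁻¹ ∈ Z := by simpa using hcomZ p⁻¹ r
    have h1 : w (p * r * (p * r)) = w (p * p) + w (r * r) := by
      rw [← hqQ, ← hqQ, ← hqQ, ha, hq' (a p + a r), hq' (a p), hq' (a r), e, map_add]
      simp only [RingEquiv.refl_apply]
      linear_combination h2 (q 1 * (σ (a p) * σ (a r)))
    rw [show p * r * (p * r) = p * p * (p⁻¹ * r * p * r⁻¹) * (r * r) by group,
      hwm _ _ (mul_mem (hsqZ p) hb) (hsqZ r), hwm _ _ (hsqZ p) hb, add_left_inj, add_eq_left] at h1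
    have h3 := hw0 _ hb h1
    calc p * r = p * (p⁻¹ * r * p * r⁻¹) * r := by rw [h3, mul_one]
      _ = r * p := by group
  refine ⟨GaloisField 2 n, inferInstance, inferInstance, φ, ?_, hφ1, ?_, ?_⟩
  · rw [← Nat.card_eq_fintype_card, GaloisField.card 2 n hn0, hn]
  · rw [← Nat.not_even_iff_odd]
    rintro ⟨m, hm⟩
    obtain ⟨x, hx⟩ : ∃ x, ∑ i ∈ Finset.range (2 * m), (φ ^ i) x ≠ 0 := by
      by_contra hh
      push Not at hh
      have hinj : Set.InjOn (fun i => φ ^ i) (Finset.range (2 * m) : Set ℕ) := fun i hi j hj h =>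
        pow_injOn_Iio_orderOf (by simp at hi ⊢; omega) (by simp at hj ⊢; omega) h
      have h := congrFun (eq_zero_of_sum
        (c := fun ρ => if ρ ∈ (Finset.range (2 * m)).image (fun i => φ ^ i) then 1 else 0) fun x => by
          simp only [ite_mul, one_mul, zero_mul]
          rw [Finset.sum_ite_mem, Finset.univ_inter, Finset.sum_image hinj]
          exact hh x) (φ ^ 0)
      have hm0 : 0 < 2 * m := by
        have := orderOf_pos φ
        omega
      simp only [Finset.mem_image, Pi.zero_apply] at h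
      rw [if_pos ⟨0, Finset.mem_range.mpr hm0, rfl⟩] at h
      exact one_ne_zero h
    obtain ⟨z, hz⟩ : ∃ z, z = ∑ i ∈ Finset.range m, (φ ^ (2 * i)) x := ⟨_, rfl⟩
    have hcomp : ∀ (i : ℕ) y, φ ((φ ^ i) y) = (φ ^ (i + 1)) y := fun i y => by
      rw [pow_succ']; rfl
    have hsplit : ∀ j, ∑ i ∈ Finset.range (2 * j), (φ ^ i) x =
        ∑ i ∈ Finset.range j, (φ ^ (2 * i)) x + ∑ i ∈ Finset.range j, φ ((φ ^ (2 * i)) x) := by
      intro j
      induction j with
      | zero => simp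
      | succ j ih =>
        rw [show 2 * (j + 1) = 2 * j + 1 + 1 by ring, Finset.sum_range_succ, Finset.sum_range_succ, ih,
          Finset.sum_range_succ, Finset.sum_range_succ, hcomp]
        ring
    have hφφ : φ (φ z) = z := by
      simp only [hz, map_sum, hcomp]
      have h := Finset.sum_range_succ' (fun i => (φ ^ (2 * i)) x) m
      rw [Finset.sum_range_succ, show φ ^ (2 * m) = φ ^ (2 * 0) by
        rw [mul_zero, pow_zero, two_mul, ← hm, pow_orderOf_eq_one], add_right_cancel_iff] at h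
      exact h.symm
    rw [hsplit, ← map_sum, ← hz] at hx
    have hz0 : φ z ≠ 0 := by
      intro h
      rw [h, (map_eq_zero φ).mp h, add_zero] at hx
      exact hx rfl
    have h1 : σ (σ.symm (z / φ z)) * φ (σ (σ.symm (z / φ z))) = 1 := by
      have hzn : z ≠ 0 := fun h => hz0 (by rw [h, map_zero])
      rw [σ.apply_symm_apply, map_div₀, hφφ]
      field_simp
    have h3 : q (σ.symm (z / φ z)) = q 1 := by rw [hq', h1, mul_one]
    have h4 := congrArg σ (hqinj h3)
    rw [σ.apply_symm_apply, map_one, div_eq_one_iff_eq hz0] at h4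
    rw [← h4, h2] at hx
    exact hx rfl
  · refine nonempty_mulEquiv_typeA (φ : GaloisField 2 n →+* GaloisField 2 n) (fun p => σ (a p))
      (fun z => w z / q 1) (fun p r => by simp only [ha, map_add])
      (σ.surjective.comp has) (fun z hz g => hZc z (ha0.mp ((map_eq_zero σ).mp hz)) g) ?_ ?_ ?_ ?_
    · intro z r hz hr
      rw [hwm z r (ha0.mp ((map_eq_zero σ).mp hz)) (ha0.mp ((map_eq_zero σ).mp hr)), add_div]
    · intro x
      obtain ⟨z, hz, hzx⟩ := hws (x * q 1)
      exact ⟨z, by rw [ha0.mpr hz, map_zero], by rw [hzx]; field_simp⟩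
    · intro z hz h
      exact hw0 z (ha0.mp ((map_eq_zero σ).mp hz)) (by simpa [hc0] using h)
    · intro p
      rw [← hqQ, hq']
      field_simp
      rfl

end Cfsg.Agent.RankOne.Higman
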