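import Cfsg.Agent.Lib.RankOne.Basic
import Cfsg.Agent.Lib.Basics.ThompsonFpf
import Cfsg.Agent.S1126

/-! Rank-one set-up of 2-rank at least two: inverted elements act freely on `Q`, `Q` is nilpotent
and the involutions of the point stabiliser are central in `Q`. -/

set_option autoImplicit false

namespace Cfsg.Agent.RankOne

/-- A non-trivial normal subgroup of a nilpotent group meets the centre. -/
theorem exists_central_mem {H : Type*} [Group H] [Group.IsNilpotent H] (N : Subgroup H) [N.Normal]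
    (hN : N ≠ ⊥) : ∃ w ∈ N, w ≠ 1 ∧ w ∈ Subgroup.center H := by
  classical
  have hex : ∃ i, N ⊓ Subgroup.upperCentralSeries H i ≠ ⊥ := by
    obtain ⟨n, hn⟩ := Group.IsNilpotent.nilpotent H
    exact ⟨n, by rwa [hn, inf_top_eq]⟩
  have h0 : Nat.find hex ≠ 0 := fun h => by
    have := Nat.find_spec hex
    rw [h, Subgroup.upperCentralSeries_zero, inf_bot_eq] at this
    exact this rfl
  obtain ⟨i, hi⟩ := Nat.exists_eq_succ_of_ne_zero h0
  have hbot : N ⊓ Subgroup.upperCentralSeries H i = ⊥ := by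
    by_contra h
    exact Nat.find_min hex (by omega) h
  have hne := Nat.find_spec hex
  rw [hi] at hne
  obtain ⟨⟨w, hw⟩, hw1'⟩ := (Subgroup.ne_bot_iff_exists_ne_one).mp hne
  have hw1 : w ≠ 1 := fun e => hw1' (Subtype.ext e)
  refine ⟨w, hw.1, hw1, Subgroup.mem_center_iff.mpr fun g => ?_⟩
  have h1 : w * g * w⁻¹ * g⁻¹ ∈ N ⊓ Subgroup.upperCentralSeries H i := by
    refine ⟨?_, Subgroup.mem_upperCentralSeries_succ_iff.mp hw.2 g⟩
    rw [mul_assoc w g, mul_assoc w]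
    exact mul_mem hw.1 (Subgroup.Normal.conj_mem inferInstance _ (inv_mem hw.1) g)
  rw [hbot, Subgroup.mem_bot] at h1
  calc g * w = w * g * w⁻¹ * g⁻¹ * (g * w) := by rw [h1, one_mul]
    _ = w * g := by group

variable {G Ω : Type*} [Group G] [Finite G] [MulAction G Ω] {a : Ω} {t : G} {Q : Subgroup G}

local notation "stA" => MulAction.stabilizer G a
local notation "twoP" => (MulAction.stabilizer G a ⊓ MulAction.stabilizer G (t • a))

variable (hS : Cfsg.IsRankOneSetup G Ω a t Q)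
include hS

/-- Inverted elements of `D` centralise no non-identity element of `Q`. -/
theorem inverted_free {x : G} (hx : x ∈ Cfsg.invertedBy twoP t) (hx1 : x ≠ 1) {q : G} (hq : q ∈ Q)
    (hc : x * q = q * x) : q = 1 := by
  by_contra hq1
  have ha : x • a = a := MulAction.mem_stabilizer_iff.mp hx.1.1
  have hb : x • (t • a) = t • a := MulAction.mem_stabilizer_iff.mp hx.1.2
  obtain ⟨k, hk, hk'⟩ := Cfsg.Agent.S1126.result hS ({x} : Set G)
    (Set.singleton_subset_iff.mpr hx.1)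
    ⟨a, t • a, q • (t • a), (tb_ne hS).symm, (Q_ne hS hq (tb_ne hS)).symm,
      fun h => hq1 (Q_free hS hq (tb_ne hS) h.symm),
      fun y hy => by
        rw [Set.mem_singleton_iff.mp hy]
        exact ⟨ha, hb, by rw [← mul_smul, hc, mul_smul, hb]⟩⟩
  have hkt := hk' x rfl
  have hmem : t * (k⁻¹ * t * k) ∈ twoP := by
    have e : t * (k⁻¹ * t * k) = t * k⁻¹ * t * k := by group
    rw [e]
    exact mul_mem (t_conj_D hS ((twoP).inv_mem hk)) hk
  have hcx : k⁻¹ * t * k * x * (k⁻¹ * t * k)⁻¹ = x := by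
    calc k⁻¹ * t * k * x * (k⁻¹ * t * k)⁻¹ = k⁻¹ * (t * (k * x * k⁻¹)) * t⁻¹ * k := by group
      _ = k⁻¹ * (k * x * k⁻¹ * t) * t⁻¹ * k := by rw [hkt]
      _ = x := by group
  have hinv : t * (k⁻¹ * t * k) * x * (t * (k⁻¹ * t * k))⁻¹ = x⁻¹ := by
    calc t * (k⁻¹ * t * k) * x * (t * (k⁻¹ * t * k))⁻¹
        = t * (k⁻¹ * t * k * x * (k⁻¹ * t * k)⁻¹) * t⁻¹ := by group
      _ = x⁻¹ := by rw [hcx, hx.2]
  obtain ⟨d, hd⟩ : ∃ d, d = t * (k⁻¹ * t * k) := ⟨_, rfl⟩
  rw [← hd] at hmem hinv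
  obtain ⟨m, hm⟩ := D_odd hS hmem
  have h2 : Commute (d * d) x := by
    show d * d * x = x * (d * d)
    calc d * d * x = d * (d * x * d⁻¹) * d := by group
      _ = d * x⁻¹ * d := by rw [hinv]
      _ = (d * x * d⁻¹)⁻¹ * (d * d) := by group
      _ = x * (d * d) := by rw [hinv, inv_inv]
  have hdx : Commute d x := by
    have e5 : (d * d) ^ (m + 1) = d := by
      rw [← sq, ← pow_mul, show 2 * (m + 1) = orderOf d + 1 by omega, pow_succ,
        pow_orderOf_eq_one, one_mul]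
    rw [← e5]
    exact h2.pow_left _
  rw [hdx.eq, mul_inv_cancel_right] at hinv
  exact hx1 (D_eq_one_of_sq hS hx.1 (eq_inv_iff_mul_eq_one.mp hinv))

/-- Two-rank at least two gives two involutions in the stabiliser. -/
theorem exists_two_involutions
    (h2 : ∃ x y : G, x ≠ 1 ∧ y ≠ 1 ∧ x ≠ y ∧ x * x = 1 ∧ y * y = 1 ∧ x * y = y * x) :
    ∃ s ∈ Cfsg.involutionsIn (stA : Set G), ∃ s' ∈ Cfsg.involutionsIn (stA : Set G), s ≠ s' := by
  obtain ⟨x, y, hx1, hy1, hne, hxx, hyy, hxy⟩ := h2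
  obtain ⟨c, hc⟩ := invol_exists_fix hS hxx
  have hyc : y • c = c := invol_fix_unique hS hx1 hxx (by rw [← mul_smul, hxy, mul_smul, hc]) hc
  obtain ⟨g, hg⟩ := exists_point hS c
  have key : ∀ z : G, z ≠ 1 → z * z = 1 → z • c = c →
      g⁻¹ * z * g ∈ Cfsg.involutionsIn (stA : Set G) := by
    intro z hz1 hzz hzc
    refine ⟨?_, fun e => hz1 ?_, ?_⟩
    · show (g⁻¹ * z * g) • a = a
      rw [mul_smul, mul_smul, hg, hzc, ← hg, inv_smul_smul]
    · calc z = g * (g⁻¹ * z * g) * g⁻¹ := by group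
        _ = 1 := by rw [e]; group
    · calc g⁻¹ * z * g * (g⁻¹ * z * g) = g⁻¹ * (z * z) * g := by group
        _ = 1 := by rw [hzz]; group
  exact ⟨_, key x hx1 hxx hc, _, key y hy1 hyy hyc,
    fun e => hne (mul_left_cancel (mul_right_cancel e))⟩

theorem exists_inverted_ne_one
    (h2 : ∃ x y : G, x ≠ 1 ∧ y ≠ 1 ∧ x ≠ y ∧ x * x = 1 ∧ y * y = 1 ∧ x * y = y * x) :
    ∃ k ∈ Cfsg.invertedBy twoP t, k ≠ 1 := by
  obtain ⟨s, hs, s', hs', hne⟩ := exists_two_involutions hS h2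
  obtain ⟨k, hk, e⟩ := K_transitive hS hs hs'
  exact ⟨k, hk, fun e1 => hne (by rw [← e, e1]; group)⟩

theorem nilpotent_Q
    (h2 : ∃ x y : G, x ≠ 1 ∧ y ≠ 1 ∧ x ≠ y ∧ x * x = 1 ∧ y * y = 1 ∧ x * y = y * x) :
    Group.IsNilpotent Q := by
  obtain ⟨k, hk, hk1⟩ := exists_inverted_ne_one hS h2
  obtain ⟨p, hp, hpd⟩ := Nat.exists_prime_and_dvd
    (show orderOf k ≠ 1 by rwa [Ne, orderOf_eq_one_iff])
  haveI : Fact p.Prime := ⟨hp⟩
  obtain ⟨x, hxd⟩ : ∃ x, x = k ^ (orderOf k / p) := ⟨_, rfl⟩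
  have hxp : orderOf x = p := by
    rw [hxd]; exact orderOf_pow_orderOf_div (orderOf_pos k).ne' hpd
  have hx : x ∈ Cfsg.invertedBy twoP t := by
    refine ⟨hxd ▸ pow_mem hk.1 _, ?_⟩
    rw [hxd, ← inv_pow, ← hk.2, conj_pow]
  have hx1 : x ≠ 1 := fun e => by rw [e, orderOf_one] at hxp; exact hp.one_lt.ne hxp
  -- pass to the stabiliser, where `Q` is normal
  haveI : (Q.subgroupOf stA).Normal := ⟨fun q hq g => by
    rw [Subgroup.mem_subgroupOf] at hq ⊢
    exact hS.conj_mem g g.2 q hq⟩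
  haveI : Group.IsNilpotent (Q.subgroupOf stA) :=
    Basics.isNilpotent_of_conj_fpf (Q.subgroupOf stA) (x := (⟨x, hx.1.1⟩ : stA)) (p := p)
      (by rw [← Subgroup.orderOf_coe]; exact hxp)
      fun n hn e => Subtype.ext (inverted_free hS hx hx1 (Subgroup.mem_subgroupOf.mp hn)
        (congrArg Subtype.val e))
  exact Group.nilpotent_of_mulEquiv (Subgroup.subgroupOfEquivOfLe hS.le)

theorem invol_central
    (h2 : ∃ x y : G, x ≠ 1 ∧ y ≠ 1 ∧ x ≠ y ∧ x * x = 1 ∧ y * y = 1 ∧ x * y = y * x)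
    {s : G} (hs : s ∈ Cfsg.involutionsIn (stA : Set G)) {q : G} (hq : q ∈ Q) : s * q = q * s := by
  haveI := nilpotent_Q hS h2
  haveI : Fact (Nat.Prime 2) := ⟨Nat.prime_two⟩
  -- a central involution of `Q`
  obtain ⟨z, hz1, hzz, hzc⟩ : ∃ z : Q, z ≠ 1 ∧ z * z = 1 ∧ z ∈ Subgroup.center Q := by
    obtain ⟨P⟩ := (inferInstance : Nonempty (Sylow 2 Q))
    have hPn : (P : Subgroup Q).Normal :=
      P.normal_of_normalizerCondition normalizerCondition_of_isNilpotent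
    have hPne : (P : Subgroup Q) ≠ ⊥ := fun hbot => by
      have := P.dvd_card_of_dvd_card (even_iff_two_dvd.mp hS.even_card)
      rw [hbot, Subgroup.card_bot] at this
      omega
    obtain ⟨w, hwP, hw1, hwc⟩ := exists_central_mem (P : Subgroup Q) hPne
    obtain ⟨n, hn⟩ := P.2 ⟨w, hwP⟩
    have hn' : w ^ 2 ^ n = 1 := congrArg Subtype.val hn
    classical
    have hex : ∃ j, w ^ 2 ^ j = 1 := ⟨n, hn'⟩
    have h0 : Nat.find hex ≠ 0 := fun h => hw1 (by simpa [h] using Nat.find_spec hex)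
    refine ⟨w ^ 2 ^ (Nat.find hex - 1), Nat.find_min hex (by omega), ?_, pow_mem hwc _⟩
    rw [← pow_add, ← two_mul, ← pow_succ', show Nat.find hex - 1 + 1 = Nat.find hex by omega]
    exact Nat.find_spec hex
  have hzI : (z : G) ∈ Cfsg.involutionsIn (stA : Set G) :=
    ⟨hS.le z.2, fun e => hz1 (Subtype.ext e), congrArg Subtype.val hzz⟩
  obtain ⟨k, hk, e⟩ := K_transitive hS hzI hs
  have hq' : k * q * k⁻¹ ∈ Q := hS.conj_mem k hk.1.1 q hq
  have hcz : (z : G) * (k * q * k⁻¹) = k * q * k⁻¹ * z :=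
    (congrArg Subtype.val (Subgroup.mem_center_iff.mp hzc ⟨_, hq'⟩)).symm
  rw [← e]
  calc k⁻¹ * z * k * q = k⁻¹ * (z * (k * q * k⁻¹)) * k := by group
    _ = _ := by rw [hcz]; group

end Cfsg.Agent.RankOne

namespace Cfsg.Agent.RankOne

variable {G Ω : Type*} [Group G] [Finite G] [MulAction G Ω] {a : Ω} {t : G} {Q : Subgroup G}

local notation "stA" => MulAction.stabilizer G a
local notation "twoP" => (MulAction.stabilizer G a ⊓ MulAction.stabilizer G (t • a))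

variable (hS : Cfsg.IsRankOneSetup G Ω a t Q)
include hS

omit [Finite G] in
/-- Any involution interchanging the base points may replace `t`. -/
theorem setup_swap {w : G} (hw : IsSwap a t w) : Cfsg.IsRankOneSetup G Ω a w Q where
  two_transitive := hS.two_transitive
  mul_self := hw.2.1
  ne_one := hw.1
  not_mem := fun h => tb_ne hS (hw.2.2.symm.trans (MulAction.mem_stabilizer_iff.mp h))
  le := hS.le
  conj_mem := hS.conj_mem
  inf_eq_bot := by rw [hw.2.2]; exact hS.inf_eq_bot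
  sup_eq := by rw [hw.2.2]; exact hS.sup_eq
  even_card := hS.even_card
  odd_card := by rw [hw.2.2]; exact hS.odd_card

omit [Finite G] hS in
theorem conj_fix {g z : G} {c : Ω} (hg : g • a = c) (hz : z • c = c) :
    g⁻¹ * z * g ∈ MulAction.stabilizer G a := by
  show (g⁻¹ * z * g) • a = a
  rw [mul_smul, mul_smul, hg, hz, ← hg, inv_smul_smul]

omit [Finite G] hS in
theorem conj_invol {g z : G} {c : Ω} (hg : g • a = c) (hz : z • c = c) (hz1 : z ≠ 1) (hz2 : z * z = 1) :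
    g⁻¹ * z * g ∈ Cfsg.involutionsIn (stA : Set G) := by
  refine ⟨conj_fix hg hz, fun e => hz1 ?_, ?_⟩
  · calc z = g * (g⁻¹ * z * g) * g⁻¹ := by group
      _ = 1 := by rw [e]; group
  · calc g⁻¹ * z * g * (g⁻¹ * z * g) = g⁻¹ * (z * z) * g := by group
      _ = 1 := by rw [hz2]; group

/-- Involutions with a common fixed point commute. -/
theorem commute_of_fix_common
    (h2 : ∃ x y : G, x ≠ 1 ∧ y ≠ 1 ∧ x ≠ y ∧ x * x = 1 ∧ y * y = 1 ∧ x * y = y * x)
    {u v : G} {c : Ω} (hu1 : u ≠ 1) (hu2 : u * u = 1) (hv1 : v ≠ 1) (hv2 : v * v = 1)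
    (hu : u • c = c) (hv : v • c = c) : u * v = v * u := by
  obtain ⟨g, hg⟩ := exists_point hS c
  have hu' := conj_invol hg hu hu1 hu2
  have hv' := conj_invol hg hv hv1 hv2
  have h := invol_central hS h2 hu' (inv_mem_Q hS hv'.1 hv'.2.2)
  calc u * v = g * (g⁻¹ * u * g * (g⁻¹ * v * g)) * g⁻¹ := by group
    _ = g * (g⁻¹ * v * g * (g⁻¹ * u * g)) * g⁻¹ := by rw [h]
    _ = v * u := by group

theorem conj_base_of_mul
    (h2 : ∃ x y : G, x ≠ 1 ∧ y ≠ 1 ∧ x ≠ y ∧ x * x = 1 ∧ y * y = 1 ∧ x * y = y * x)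
    {u v : G} (hu1 : u ≠ 1) (hu2 : u * u = 1) (hv1 : v ≠ 1) (hv2 : v * v = 1)
    (hx : (u * v) * (u * v) ≠ 1) :
    ∃ g : G, ∃ u' ∈ Cfsg.involutionsIn (stA : Set G), g * (u * v) * g⁻¹ = u' * t := by
  obtain ⟨c, hc⟩ := invol_exists_fix hS hu2
  obtain ⟨d, hd⟩ := invol_exists_fix hS hv2
  obtain ⟨e, he⟩ := invol_exists_fix hS hS.mul_self
  have hcd : c ≠ d := by
    rintro rfl
    refine hx ?_
    have := commute_of_fix_common hS h2 hu1 hu2 hv1 hv2 hc hd
    calc u * v * (u * v) = u * (v * u) * v := by group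
      _ = u * (u * v) * v := by rw [this]
      _ = u * u * (v * v) := by group
      _ = 1 := by rw [hu2, hv2, one_mul]
  have hea : e ≠ a := fun h => tb_ne hS (by rw [← h]; exact he)
  obtain ⟨p, hpc, hpd⟩ := exists_pair hS hcd (Ne.symm hea)
  obtain ⟨g, hga, hgb⟩ := exists_pair hS (tb_ne hS).symm hea
  have hv' : (p * v * p⁻¹) • e = e := by
    rw [mul_smul, mul_smul, ← hpd, inv_smul_smul, hd]
  have hv'1 : p * v * p⁻¹ ≠ 1 := fun h => hv1 (conj_eq_one_iff.mp h)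
  have hv'2 : p * v * p⁻¹ * (p * v * p⁻¹) = 1 := by
    calc p * v * p⁻¹ * (p * v * p⁻¹) = p * (v * v) * p⁻¹ := by group
      _ = 1 := by rw [hv2]; group
  obtain ⟨k, hk, hkeq⟩ := K_transitive hS (conj_invol hga hv' hv'1 hv'2)
    (conj_invol hga he hS.ne_one hS.mul_self)
  obtain ⟨h, hh⟩ : ∃ h, h = g * k⁻¹ * g⁻¹ := ⟨_, rfl⟩
  have hconj : h * (p * v * p⁻¹) * h⁻¹ = t := by
    rw [hh]
    calc g * k⁻¹ * g⁻¹ * (p * v * p⁻¹) * (g * k⁻¹ * g⁻¹)⁻¹
        = g * (k⁻¹ * (g⁻¹ * (p * v * p⁻¹) * g) * k) * g⁻¹ := by group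
      _ = t := by rw [hkeq]; group
  have hha : h • a = a := by
    rw [hh, mul_smul, mul_smul, show g⁻¹ • a = t • a by rw [inv_smul_eq_iff, hgb],
      inv_smul_eq_iff.mpr (MulAction.mem_stabilizer_iff.mp hk.1.2).symm, hgb]
  refine ⟨h * p, h * p * u * (h * p)⁻¹, ?_, ?_⟩
  · have := conj_invol (g := (h * p)⁻¹) (z := u) (c := c)
      (by rw [inv_smul_eq_iff, mul_smul, hpc, hha]) hc hu1 hu2
    rwa [inv_inv] at this
  · rw [← hconj]; group

theorem odd_centralizer_mul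
    (h2 : ∃ x y : G, x ≠ 1 ∧ y ≠ 1 ∧ x ≠ y ∧ x * x = 1 ∧ y * y = 1 ∧ x * y = y * x)
    {u v : G} (hu1 : u ≠ 1) (hu2 : u * u = 1) (hv1 : v ≠ 1) (hv2 : v * v = 1)
    (hx : (u * v) * (u * v) ≠ 1) : Odd (Nat.card ↥(Subgroup.centralizer {u * v})) := by
  by_contra hodd
  rw [Nat.not_odd_iff_even, even_iff_two_dvd] at hodd
  haveI : Fact (Nat.Prime 2) := ⟨Nat.prime_two⟩
  obtain ⟨⟨s, hsC⟩, hso⟩ := exists_prime_orderOf_dvd_card' 2 hodd
  rw [← Subgroup.orderOf_coe] at hso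
  obtain ⟨x, hxd⟩ : ∃ x, x = u * v := ⟨_, rfl⟩
  rw [← hxd] at hx hsC
  have hs1 : s ≠ 1 := Invol.ne_one_of_orderOf_two hso
  have hs2 : s * s = 1 := Invol.mul_self_of_orderOf_two hso
  have hsx : x * s = s * x := Subgroup.mem_centralizer_iff.mp hsC x rfl
  obtain ⟨f, hf⟩ := invol_exists_fix hS hs2
  have hxf : x • f = f := invol_fix_unique hS hs1 hs2 (by rw [← mul_smul, ← hsx, mul_smul, hf]) hf
  have hux : u * x * u = x⁻¹ := by
    rw [hxd, mul_inv_rev, Invol.inv_eq_self_of_mul_self hu2, Invol.inv_eq_self_of_mul_self hv2,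
      ← mul_assoc, hu2, one_mul]
  have hxu : x * u = u * x⁻¹ := by rw [← hux, ← mul_assoc, ← mul_assoc, hu2, one_mul]
  by_cases huf : u • f = f
  · refine hx ?_
    have hvu : v = u * x := by rw [hxd, ← mul_assoc, hu2, one_mul]
    have := commute_of_fix_common hS h2 hu1 hu2 hv1 hv2 huf (by rw [hvu, mul_smul, hxf, huf])
    rw [hxd]
    calc u * v * (u * v) = u * (v * u) * v := by group
      _ = u * (u * v) * v := by rw [this]
      _ = u * u * (v * v) := by group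
      _ = 1 := by rw [hu2, hv2, one_mul]
  · have hxf' : x • (u • f) = u • f := by
      rw [← mul_smul, hxu, mul_smul, inv_smul_eq_iff.mpr hxf.symm]
    obtain ⟨g, hga, hgb⟩ := exists_pair hS (tb_ne hS).symm (Ne.symm huf)
    have hsw : IsSwap a t (g⁻¹ * u * g) := by
      refine ⟨fun e => hu1 ?_, ?_, ?_⟩
      · calc u = g * (g⁻¹ * u * g) * g⁻¹ := by group
          _ = 1 := by rw [e]; group
      · calc g⁻¹ * u * g * (g⁻¹ * u * g) = g⁻¹ * (u * u) * g := by group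
          _ = 1 := by rw [hu2]; group
      · rw [mul_smul, mul_smul, hga, ← hgb, inv_smul_smul]
    have hS' := setup_swap hS hsw
    have hxinv : g⁻¹ * x * g ∈ Cfsg.invertedBy
        (MulAction.stabilizer G a ⊓ MulAction.stabilizer G ((g⁻¹ * u * g) • a)) (g⁻¹ * u * g) := by
      refine ⟨⟨conj_fix hga hxf, ?_⟩, ?_⟩
      · rw [hsw.2.2]
        show (g⁻¹ * x * g) • (t • a) = t • a
        rw [mul_smul, mul_smul, hgb, hxf', ← hgb, inv_smul_smul]
      · calc g⁻¹ * u * g * (g⁻¹ * x * g) * (g⁻¹ * u * g)⁻¹ = g⁻¹ * (u * x * u⁻¹) * g := by group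
          _ = (g⁻¹ * x * g)⁻¹ := by
            rw [Invol.inv_eq_self_of_mul_self hu2, hux]; group
    have hs' := conj_invol hga hf hs1 hs2
    refine hs'.2.1 (inverted_free hS' hxinv (fun e => hx ?_) (inv_mem_Q hS hs'.1 hs'.2.2) ?_)
    · have : x = 1 := by
        calc x = g * (g⁻¹ * x * g) * g⁻¹ := by group
          _ = 1 := by rw [e]; group
      rw [this, one_mul]
    · calc g⁻¹ * x * g * (g⁻¹ * s * g) = g⁻¹ * (x * s) * g := by group
        _ = g⁻¹ * (s * x) * g := by rw [hsx]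
        _ = _ := by group

end Cfsg.Agent.RankOne
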